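import Cfsg.Agent.UGT.Cov.Klein

/-!
# UGT N1 (I34) [C]: involutions and the Sylow 2-subgroup of `2².L₃(4)` (helper281)

`A : Klein.Dat L`, `t = x₀₂(1)`, `T = C_L(t)`, `D0 = Z(T) = T' = {a = b = 0}`, `E1 = {b = 0}`, `E2 = {a = 0}`.
-/

set_option autoImplicit false
set_option linter.constructorNameAsVariable false
set_option linter.unusedVariables false

namespace Cfsg.Agent.UGT.Cov.Klein

open Subgroup
open Cfsg.Agent.SporadicA.FieldFour
open Cfsg.Agent.ONType.Psl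
open Cfsg.Agent.LThreeFour (Ty imgx pu datPSL)
open scoped commutatorElement

/-! ### Generalities -/

section

variable {G : Type*} [Group G]

/-- conjugacy -/
abbrev Cj (x y : G) : Prop := ∃ g : G, g * x * g⁻¹ = y

theorem Cj.refl' (x : G) : Cj x x := ⟨1, by group⟩

theorem Cj.trans' {x y w : G} (h1 : Cj x y) (h2 : Cj y w) : Cj x w := by
  obtain ⟨g, rfl⟩ := h1
  obtain ⟨h, rfl⟩ := h2
  exact ⟨h * g, by group⟩

theorem Cj.symm' {x y : G} (h1 : Cj x y) : Cj y x := by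
  obtain ⟨g, rfl⟩ := h1
  exact ⟨g⁻¹, by group⟩

/-- an involution has a conjugate in a subgroup of odd index -/
theorem conj_mem_of_odd {T : Subgroup G} (h3 : ¬ 2 ∣ T.index) {s : G} (hs : s * s = 1) : ∃ g, g⁻¹ * s * g ∈ T := by
  have h2 : IsPGroup 2 (zpowers s) := by
    intro x
    refine ⟨1, ?_⟩
    obtain ⟨x, hx⟩ := x
    obtain ⟨k, rfl⟩ := mem_zpowers_iff.1 hx
    apply Subtype.ext
    show (s ^ k) ^ 2 ^ 1 = 1
    rw [pow_one, ← zpow_natCast, ← zpow_mul, mul_comm, zpow_mul, zpow_natCast, pow_two, hs, one_zpow]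
  have : Finite (G ⧸ T) := by
    apply Nat.finite_of_card_ne_zero
    intro h0
    exact h3 (by rw [Subgroup.index_eq_card, h0]; exact dvd_zero _)
  obtain ⟨x, hx⟩ := h2.nonempty_fixed_point_of_prime_not_dvd_card (G ⧸ T) h3
  induction x using QuotientGroup.induction_on with
  | H g =>
    refine ⟨g, ?_⟩
    have h4 := hx ⟨s, mem_zpowers s⟩
    change ((s * g : G) : G ⧸ T) = (g : G ⧸ T) at h4
    have h5 := (QuotientGroup.eq.1 h4.symm)
    rwa [← mul_assoc] at h5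

end

/-- noncentral involution -/
def NInv {G : Type*} [Group G] (t : G) : Prop := t * t = 1 ∧ t ∉ center G

/-- canonical involution: a noncentral involution which is not a square -/
def Can {G : Type*} [Group G] (t : G) : Prop := NInv t ∧ ∀ y, y * y ≠ t

/-- inverse in `F4` -/
def fi (u : F4) : F4 := u * u

/-! ### Codes -/

/-- codes of the elements of the class `Can` -/
def canc (p : Code) : Prop := (p.a = 0 ∧ p.s = p.c * p.b) ∨ (p.b = 0 ∧ p.s = p.a * p.a * (p.c * p.c))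

instance (p : Code) : Decidable (canc p) := by unfold canc; infer_instance

/-- the codes of the centre -/
def zk (p : Code) : Prop := p.a = 0 ∧ p.b = 0 ∧ p.c = 0

instance (p : Code) : Decidable (zk p) := by unfold zk; infer_instance

/-- the codes of `D0` -/
def yk (p : Code) : Prop := p.a = 0 ∧ p.b = 0

instance (p : Code) : Decidable (yk p) := by unfold yk; infer_instance

theorem mul_eq_zero4 : ∀ a b : F4, a * b = 0 → a = 0 ∨ b = 0 := by decide

theorem inv_code (p : Code) : cmul p p = cone ↔ p.a = 0 ∨ p.b = 0 := by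
  rw [cmul_self, cone, Code.mk.injEq]
  constructor
  · rintro ⟨-, -, h, -⟩
    exact mul_eq_zero4 _ _ h
  · rintro (h | h) <;> rw [h] <;> exact ⟨rfl, rfl, by ring, by ring⟩

/-- the conjugating code -/
def qc (p : Code) : Code := if p.a = 0 then ⟨fi p.b * p.c, 0, 0, 0⟩ else ⟨0, fi p.a * p.c, 0, 0⟩

/-- canonical form of the codes of involutions -/
theorem inv_root : ∀ p : Code, (p.a = 0 ∨ p.b = 0) → zk p ∨
    (cj (qc p) p = ⟨p.a, 0, 0, p.s + p.a * p.a * (p.c * p.c)⟩ ∧ p.a ≠ 0) ∨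
    (cj (qc p) p = ⟨0, p.b, 0, p.s + p.c * p.b⟩ ∧ p.b ≠ 0) ∨
    (cj (qc p) p = ⟨0, 0, p.c, p.s⟩ ∧ p.c ≠ 0) := by decide +kernel

theorem can_conj {L : Type*} [Group L] {x y : L} (h : Cj x y) (hx : Can x) : Can y := by
  obtain ⟨g, rfl⟩ := h
  obtain ⟨⟨h1, h2⟩, h3⟩ := hx
  refine ⟨⟨?_, ?_⟩, ?_⟩
  · calc g * x * g⁻¹ * (g * x * g⁻¹) = g * (x * x) * g⁻¹ := by group
      _ = 1 := by rw [h1]; group
  · intro h
    apply h2
    have := (center L).mul_mem (one_mem _) h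
    have h4 := mem_center_iff.1 h g⁻¹
    have h5 : x = g * x * g⁻¹ := by
      calc x = g⁻¹ * (g * x * g⁻¹) * g := by group
        _ = g * x * g⁻¹ * g⁻¹ * g := by rw [h4]
        _ = _ := by group
    rw [h5]; exact h
  · intro y hy
    apply h3 (g⁻¹ * y * g)
    calc g⁻¹ * y * g * (g⁻¹ * y * g) = g⁻¹ * (y * y) * g := by group
      _ = x := by rw [hy]; group

namespace Dat

variable {L : Type*} [Group L] (A : Dat L)

/-- `t = x₀₂(1)` -/
def t : L := A.x 0 2 1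

theorem t_eq : A.t = A.el ⟨0, 0, 1, 0⟩ := (A.el_x02 1).symm

theorem t_sq : A.t * A.t = 1 := A.x_sq 0 2 (by decide) 1

variable {A}

theorem Cj.g {x y : L} (h : Cj x y) (A : Dat L) (s : F4) : Cj (x * A.g s) (y * A.g s) := by
  obtain ⟨g, rfl⟩ := h
  refine ⟨g, ?_⟩
  calc g * (x * A.g s) * g⁻¹ = g * x * (A.g s * g⁻¹) := by group
    _ = _ := by rw [A.g_cen]; group

variable (A)

theorem T_odd : ¬ 2 ∣ A.T.index := by rw [A.T_index]; norm_num

/-- root elements of the six root subgroups -/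
theorem root_wey (i j : Fin 3) (h : i ≠ j) (u : F4) : Cj (A.x i j u) (A.x 0 2 u) := by
  have key : ∀ i j k l : Fin 3, i ≠ j → k ≠ l → ∀ u,
      Cj (A.x k l u) (A.x (Equiv.swap i j k) (Equiv.swap i j l) u) := by
    intro i j k l h1 h2 u
    exact ⟨(A.x i j 1 * A.x j i 1 * A.x i j 1)⁻¹, by rw [inv_inv]; exact A.x_wey i j k l h1 h2 u⟩
  have h02 : Cj (A.x 0 2 u) (A.x 0 2 u) := Cj.refl' _
  have e20 : Cj (A.x 2 0 u) (A.x 0 2 u) := by
    have := key 0 2 2 0 (by decide) (by decide) u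
    simpa using this
  have e01 : Cj (A.x 0 1 u) (A.x 0 2 u) := by
    have := key 1 2 0 1 (by decide) (by decide) u
    rwa [show Equiv.swap (1 : Fin 3) 2 0 = 0 by decide, show Equiv.swap (1 : Fin 3) 2 1 = 2 by decide] at this
  have e12 : Cj (A.x 1 2 u) (A.x 0 2 u) := by
    have := key 0 1 1 2 (by decide) (by decide) u
    rwa [show Equiv.swap (0 : Fin 3) 1 1 = 0 by decide, show Equiv.swap (0 : Fin 3) 1 2 = 2 by decide] at this
  have e21 : Cj (A.x 2 1 u) (A.x 0 2 u) := by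
    have := key 0 1 2 1 (by decide) (by decide) u
    rw [show Equiv.swap (0 : Fin 3) 1 1 = 0 by decide, show Equiv.swap (0 : Fin 3) 1 2 = 2 by decide] at this
    exact this.trans' e20
  have e10 : Cj (A.x 1 0 u) (A.x 0 2 u) := by
    have := key 0 1 1 0 (by decide) (by decide) u
    rw [show Equiv.swap (0 : Fin 3) 1 1 = 0 by decide, show Equiv.swap (0 : Fin 3) 1 0 = 1 by decide] at this
    exact this.trans' e01
  revert h
  fin_cases i <;> fin_cases j <;> intro h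
  · exact absurd rfl h
  · exact e01
  · exact h02
  · exact e10
  · exact absurd rfl h
  · exact e12
  · exact e20
  · exact e21
  · exact absurd rfl h

/-- `x₀₂(u)` is conjugate to `x₀₂(1)` -/
theorem x02_one (u : F4) (h : u ≠ 0) : Cj (A.x 0 2 u) A.t := by
  have h1 : ∀ u, Cj (A.x 0 2 u) (A.x 0 2 (kap 0 2 * u)) := by
    intro u
    exact ⟨A.h⁻¹, by rw [inv_inv]; exact A.h_x 0 2 (by decide) u⟩
  have h2 := h1 u
  have h3 := h1 (kap 0 2 * u)
  have : ∀ u : F4, u ≠ 0 → u = 1 ∨ kap 0 2 * u = 1 ∨ kap 0 2 * (kap 0 2 * u) = 1 := by decide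
  rcases this u h with h4 | h4 | h4
  · rw [h4]; exact Cj.refl' _
  · rw [h4] at h2; exact h2
  · rw [h4] at h3; exact h2.trans' h3

theorem root_one (i j : Fin 3) (h : i ≠ j) (u : F4) (hu : u ≠ 0) : Cj (A.x i j u) A.t :=
  (A.root_wey i j h u).trans' (A.x02_one u hu)

/-- the parameter of the class of an involution code -/
def cls (p : Code) : F4 := p.s + p.a * p.a * (p.c * p.c) + p.c * p.b

/-- conjugacy class of the involutions of `T` -/
theorem el_class {p : Code} (h : p.a = 0 ∨ p.b = 0) (hz : ¬ zk p) : Cj (A.el p) (A.t * A.g (cls p)) := by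
  have e1 : Cj (A.el p) (A.el (cj (qc p) p)) := ⟨_, A.el_cj _ _⟩
  rcases inv_root p h with h1 | ⟨h1, h2⟩ | ⟨h1, h2⟩ | ⟨h1, h2⟩
  · exact absurd h1 hz
  · have hb : p.b = 0 := h.resolve_left h2
    have e2 : A.el ⟨p.a, 0, 0, p.s + p.a * p.a * (p.c * p.c)⟩ = A.x 0 1 p.a * A.g (cls p) := by
      rw [A.el_eq, A.x_zero 1 2 (by decide), A.x_zero 0 2 (by decide), mul_one, mul_one, cls, hb, mul_zero, add_zero]
    rw [h1, e2] at e1
    exact e1.trans' (Cj.g (A.root_one 0 1 (by decide) _ h2) A _)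
  · have ha : p.a = 0 := by
      by_contra ha
      have := h.resolve_left ha
      exact h2 this
    have e2 : A.el ⟨0, p.b, 0, p.s + p.c * p.b⟩ = A.x 1 2 p.b * A.g (cls p) := by
      rw [A.el_eq, A.x_zero 0 1 (by decide), A.x_zero 0 2 (by decide), mul_one, one_mul, cls, ha, zero_mul,
        zero_mul, add_zero]
    rw [h1, e2] at e1
    exact e1.trans' (Cj.g (A.root_one 1 2 (by decide) _ h2) A _)
  · have hab : p.a = 0 ∧ p.b = 0 := by
      have := congrArg Code.a h1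
      have h3 := congrArg Code.b h1
      rw [cj_eq] at this h3
      exact ⟨this, h3⟩
    have e2 : A.el ⟨0, 0, p.c, p.s⟩ = A.x 0 2 p.c * A.g (cls p) := by
      rw [A.el_eq, A.x_zero 0 1 (by decide), A.x_zero 1 2 (by decide), one_mul, one_mul, cls, hab.1, hab.2,
        zero_mul, zero_mul, mul_zero, add_zero, add_zero]
    rw [h1, e2] at e1
    exact e1.trans' (Cj.g (A.x02_one _ h2) A _)

theorem el_mem_center {p : Code} : A.el p ∈ center L ↔ zk p := by
  rw [A.mem_center]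
  constructor
  · rintro ⟨s, hs⟩
    rw [← A.el_g] at hs
    rw [A.inj hs]
    exact ⟨rfl, rfl, rfl⟩
  · obtain ⟨a, b, c, s⟩ := p
    rintro ⟨rfl, rfl, rfl⟩
    exact ⟨s, A.el_g s⟩

theorem g_mem_center (s : F4) : A.g s ∈ center L := A.mem_center.2 ⟨s, rfl⟩

/-- every noncentral involution is conjugate to some `t g(s)` -/
theorem conj_tg {s : L} (hs : NInv s) : ∃ r, Cj s (A.t * A.g r) := by
  obtain ⟨h1, h2⟩ := hs
  obtain ⟨g, hg⟩ := conj_mem_of_odd A.T_odd h1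
  obtain ⟨p, hp⟩ := (A.mem_T).1 hg
  have e1 : Cj s (A.el p) := ⟨g⁻¹, by rw [inv_inv]; exact hp.symm⟩
  have h3 : cmul p p = cone := by
    apply A.inj
    rw [← A.el_mul, hp, A.el_one]
    calc g⁻¹ * s * g * (g⁻¹ * s * g) = g⁻¹ * (s * s) * g := by group
      _ = 1 := by rw [h1]; group
  have h4 : ¬ zk p := by
    rw [← A.el_mem_center]
    intro h
    apply h2
    rw [mem_center_iff] at h ⊢
    obtain ⟨k, hk⟩ := e1.symm'
    intro m
    rw [← hk]
    have h5 : k * A.el p * k⁻¹ = A.el p := by rw [h k, mul_inv_cancel_right]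
    rw [h5]
    exact h m
  exact ⟨_, e1.trans' (A.el_class ((inv_code p).1 h3) h4)⟩

theorem t_not_center : A.t ∉ center L := by
  rw [A.t_eq, A.el_mem_center]
  exact fun h => absurd h.2.2 (by decide)

theorem tg_NInv (s : F4) : NInv (A.t * A.g s) := by
  constructor
  · calc A.t * A.g s * (A.t * A.g s) = A.t * (A.g s * A.t) * A.g s := by group
      _ = A.t * A.t * (A.g s * A.g s) := by rw [A.g_cen]; group
      _ = 1 := by rw [A.t_sq, A.g_sq, one_mul]
  · intro h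
    apply A.t_not_center
    have := mul_mem h (inv_mem (A.g_mem_center s))
    rwa [mul_inv_cancel_right] at this

/-- the classes `t g(s)` are distinct -/
theorem tg_inj {r s : F4} (h : Cj (A.t * A.g r) (A.t * A.g s)) : r = s := by
  obtain ⟨l, hl⟩ := h
  have h1 : l ∈ A.T := by
    rw [A.mem_T_iff]
    have := congrArg A.π hl
    rw [map_mul, map_mul, map_mul, map_mul, A.π_g, A.π_g, mul_one, map_inv, mul_inv_eq_iff_eq_mul] at this
    have h2 : A.π A.t = Cfsg.Agent.ONType.Psl.t 0 2 1 := A.π_x 0 2 (by decide) 1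
    rw [h2] at this
    exact datPSL.cent_x02.1 this
  have h2 := A.cent.2 h1
  change l * A.t = A.t * l at h2
  have h3 : l * (A.t * A.g r) * l⁻¹ = A.t * A.g r := by
    calc l * (A.t * A.g r) * l⁻¹ = l * A.t * (A.g r * l⁻¹) := by group
      _ = (A.t * l) * (l⁻¹ * A.g r) := by rw [A.g_cen, h2]
      _ = _ := by group
  rw [h3] at hl
  exact A.g_inj (mul_left_cancel hl)

/-! ### Canonical involutions -/

theorem sq_code : ∀ r : F4, r ≠ 0 → cmul ⟨fi r, r, 0, 0⟩ ⟨fi r, r, 0, 0⟩ = ⟨0, 0, 1, r⟩ := by decide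

theorem not_sq_code : ∀ a b : F4, a * b = 1 → a * (b * b) ≠ 0 := by decide

/-- `t` is not a square -/
theorem t_not_sq (y : L) : y * y ≠ A.t := by
  intro h
  have h1 : y ∈ A.T := by
    rw [← A.cent]
    change y * A.t = A.t * y
    rw [← h, mul_assoc]
  obtain ⟨p, rfl⟩ := A.mem_T.1 h1
  rw [A.el_mul, A.t_eq] at h
  have h2 := A.inj h
  rw [cmul_self, Code.mk.injEq] at h2
  exact not_sq_code _ _ h2.2.2.1 h2.2.2.2

theorem tg_sq {r : F4} (h : r ≠ 0) : ∃ y, y * y = A.t * A.g r := by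
  refine ⟨A.el ⟨fi r, r, 0, 0⟩, ?_⟩
  rw [A.el_mul, sq_code r h, A.t_eq, ← A.el_g, A.el_mul]
  congr 1
  unfold cmul
  simp

theorem t_can : Can A.t := by
  have h := A.tg_NInv 0
  rw [A.g_zero, mul_one] at h
  exact ⟨h, A.t_not_sq⟩

/-- all canonical involutions are conjugate to `t` -/
theorem can_t {s : L} (hs : Can s) : Cj s A.t := by
  obtain ⟨r, hr⟩ := A.conj_tg hs.1
  by_cases h0 : r = 0
  · rw [h0, A.g_zero, mul_one] at hr
    exact hr
  · exfalso
    obtain ⟨y, hy⟩ := A.tg_sq h0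
    obtain ⟨g, hg⟩ := hr.symm'
    apply hs.2 (g * y * g⁻¹)
    calc g * y * g⁻¹ * (g * y * g⁻¹) = g * (y * y) * g⁻¹ := by group
      _ = s := by rw [hy, hg]

theorem can_iff {s : L} : Can s ↔ Cj s A.t := ⟨A.can_t, fun h => can_conj h.symm' A.t_can⟩

theorem can_el {p : Code} (h : p.a = 0 ∨ p.b = 0) (hz : ¬ zk p) : Can (A.el p) ↔ cls p = 0 := by
  have h1 := A.el_class h hz
  rw [A.can_iff]
  constructor
  · intro h2
    have h3 := h1.symm'.trans' h2
    have h4 : A.t = A.t * A.g 0 := by rw [A.g_zero, mul_one]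
    rw [h4] at h3
    have h5 : Cj (A.t * A.g (cls p)) (A.t * A.g 0) := by
      rw [show A.t * A.g 0 * A.g (cls p) = A.t * A.g (cls p) by rw [A.g_zero, mul_one]] at h3
      exact h3
    exact A.tg_inj h5
  · intro h2
    rw [h2, A.g_zero, mul_one] at h1
    exact h1

/-! ### Transport to `t` -/

/-- coordinates adapted to a noncentral involution -/
theorem exists_dat_tg {s : L} (hs : NInv s) : ∃ (B : Dat L) (r : F4), B.g = A.g ∧ s = B.t * B.g r := by
  obtain ⟨r, hr⟩ := A.conj_tg hs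
  obtain ⟨g, hg⟩ := hr.symm'
  refine ⟨mapD A (MulAut.conj g), r, ?_, ?_⟩
  · funext s
    show g * A.g s * g⁻¹ = A.g s
    rw [← A.g_cen]; group
  · show s = g * A.t * g⁻¹ * (g * A.g r * g⁻¹)
    rw [← hg]; group

/-- coordinates adapted to a canonical involution -/
theorem exists_dat_t {s : L} (hs : Can s) : ∃ B : Dat L, B.g = A.g ∧ s = B.t := by
  obtain ⟨g, hg⟩ := (A.can_t hs).symm'
  refine ⟨mapD A (MulAut.conj g), ?_, hg.symm⟩
  funext s
  show g * A.g s * g⁻¹ = A.g s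
  rw [← A.g_cen]; group

/-- the centraliser of `t g(r)` is `T` -/
theorem cent_tg {l : L} (r : F4) : l * (A.t * A.g r) = A.t * A.g r * l ↔ l ∈ A.T := by
  rw [← A.cent]
  change _ ↔ l * A.t = A.t * l
  have e : A.t * A.g r * l = A.t * l * A.g r := by
    rw [mul_assoc, A.g_cen, ← mul_assoc]
  rw [e, ← mul_assoc]
  exact mul_left_inj _

/-! ### Subgroups of `T` -/

/-- the subgroup of the codes with a property -/
def sub (Q : Code → Prop) (h1 : Q cone) (hm : ∀ p q, Q p → Q q → Q (cmul p q))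
    (hi : ∀ p, Q p → Q (cinv p)) : Subgroup L where
  carrier := {l | ∃ p, Q p ∧ l = A.el p}
  one_mem' := ⟨cone, h1, A.el_one.symm⟩
  mul_mem' := by
    rintro _ _ ⟨p, hp, rfl⟩ ⟨q, hq, rfl⟩
    exact ⟨_, hm p q hp hq, A.el_mul p q⟩
  inv_mem' := by
    rintro _ ⟨p, hp, rfl⟩
    exact ⟨_, hi p hp, A.el_inv p⟩

theorem el_mem_sub {Q : Code → Prop} {h1 hm hi} {p : Code} : A.el p ∈ A.sub Q h1 hm hi ↔ Q p := by
  constructor
  · rintro ⟨q, hq, h⟩
    rwa [A.inj h]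
  · exact fun h => ⟨p, h, rfl⟩

theorem card_sub {Q : Code → Prop} [DecidablePred Q] {h1 hm hi} :
    Nat.card (A.sub Q h1 hm hi) = ((Finset.univ : Finset Code).filter Q).card := by
  rw [← Fintype.card_subtype, ← Nat.card_eq_fintype_card]
  symm
  apply Nat.card_congr
  refine Equiv.ofBijective (fun p : {p // Q p} => ⟨A.el p, ⟨p, p.2, rfl⟩⟩) ⟨?_, ?_⟩
  · intro p q h
    exact Subtype.ext (A.inj (congrArg Subtype.val h))
  · rintro ⟨_, p, hp, rfl⟩
    exact ⟨⟨p, hp⟩, rfl⟩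

/-- `E1 = {b = 0}` -/
def E1 : Subgroup L := A.sub (fun p => p.b = 0) rfl
  (fun p q hp hq => by show p.b + q.b = 0; rw [hp, hq]; rfl) (fun p hp => hp)

/-- `E2 = {a = 0}` -/
def E2 : Subgroup L := A.sub (fun p => p.a = 0) rfl
  (fun p q hp hq => by show p.a + q.a = 0; rw [hp, hq]; rfl) (fun p hp => hp)

/-- `D0 = {a = b = 0}` -/
def D0 : Subgroup L := A.sub yk ⟨rfl, rfl⟩
  (fun p q hp hq => ⟨by show p.a + q.a = 0; rw [hp.1, hq.1]; rfl, by show p.b + q.b = 0; rw [hp.2, hq.2]; rfl⟩)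
  (fun p hp => hp)

theorem card_E1 : Nat.card A.E1 = 64 :=
  (A.card_sub (Q := fun p => p.b = 0)).trans (by decide +kernel)

theorem card_E2 : Nat.card A.E2 = 64 :=
  (A.card_sub (Q := fun p => p.a = 0)).trans (by decide +kernel)

theorem card_D0 : Nat.card A.D0 = 16 :=
  (A.card_sub (Q := yk)).trans (by decide +kernel)

theorem mem_E1 {p : Code} : A.el p ∈ A.E1 ↔ p.b = 0 := A.el_mem_sub
theorem mem_E2 {p : Code} : A.el p ∈ A.E2 ↔ p.a = 0 := A.el_mem_sub
theorem mem_D0 {p : Code} : A.el p ∈ A.D0 ↔ p.a = 0 ∧ p.b = 0 := A.el_mem_sub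

theorem sub_le_T {Q : Code → Prop} {h1 hm hi} : A.sub Q h1 hm hi ≤ A.T := by
  rintro _ ⟨p, -, rfl⟩
  exact A.el_mem p

theorem D0_le_E1 : A.D0 ≤ A.E1 := by
  rintro _ ⟨p, hp, rfl⟩
  exact A.mem_E1.2 hp.2

theorem D0_le_E2 : A.D0 ≤ A.E2 := by
  rintro _ ⟨p, hp, rfl⟩
  exact A.mem_E2.2 hp.1

theorem E1_inf_E2 : A.E1 ⊓ A.E2 = A.D0 := by
  ext l
  constructor
  · rintro ⟨⟨p, hp, rfl⟩, h2⟩
    exact A.mem_D0.2 ⟨A.mem_E2.1 h2, hp⟩
  · intro h
    exact ⟨A.D0_le_E1 h, A.D0_le_E2 h⟩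

theorem comm_iff (p q : Code) : A.el p * A.el q = A.el q * A.el p ↔
    p.a * q.b + p.b * q.a = 0 ∧ p.a * (q.b * q.b) + q.a * (p.b * p.b) = 0 := by
  rw [← commutatorElement_eq_one_iff_mul_comm, A.el_cc, cc_eq, ← A.el_one]
  constructor
  · intro h
    have := A.inj h
    rw [cone, Code.mk.injEq] at this
    exact ⟨this.2.2.1, this.2.2.2⟩
  · rintro ⟨h1, h2⟩
    rw [h1, h2]; rfl

theorem E1_comm {x y : L} (hx : x ∈ A.E1) (hy : y ∈ A.E1) : x * y = y * x := by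
  obtain ⟨p, hp, rfl⟩ := hx
  obtain ⟨q, hq, rfl⟩ := hy
  rw [A.comm_iff, show p.b = 0 from hp, show q.b = 0 from hq]
  exact ⟨by ring, by ring⟩

theorem E2_comm {x y : L} (hx : x ∈ A.E2) (hy : y ∈ A.E2) : x * y = y * x := by
  obtain ⟨p, hp, rfl⟩ := hx
  obtain ⟨q, hq, rfl⟩ := hy
  rw [A.comm_iff, show p.a = 0 from hp, show q.a = 0 from hq]
  exact ⟨by ring, by ring⟩

theorem sq_eq_one {p : Code} : A.el p * A.el p = 1 ↔ p.a = 0 ∨ p.b = 0 := by
  rw [A.el_mul, ← A.el_one, ← inv_code]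
  exact ⟨A.inj, fun h => by rw [h]⟩

theorem E1_sq {x : L} (hx : x ∈ A.E1) : x * x = 1 := by
  obtain ⟨p, hp, rfl⟩ := hx
  exact A.sq_eq_one.2 (Or.inr hp)

theorem E2_sq {x : L} (hx : x ∈ A.E2) : x * x = 1 := by
  obtain ⟨p, hp, rfl⟩ := hx
  exact A.sq_eq_one.2 (Or.inl hp)

/-- elements of `T` whose square is central are in `E1 ∪ E2` -/
theorem mem_of_sq {x : L} (hx : x ∈ A.T) (h : x * x ∈ center L) : x ∈ A.E1 ∨ x ∈ A.E2 := by
  obtain ⟨p, rfl⟩ := A.mem_T.1 hx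
  rw [A.el_mul, A.el_mem_center, cmul_self] at h
  rcases mul_eq_zero4 _ _ h.2.2 with h1 | h1
  · exact Or.inr (A.mem_E2.2 h1)
  · exact Or.inl (A.mem_E1.2 h1)

/-- `Z(T) = D0` (even modulo the centre) -/
theorem mem_D0_iff {x : L} : x ∈ A.D0 ↔ x ∈ A.T ∧ ∀ y ∈ A.T, ⁅x, y⁆ ∈ center L := by
  constructor
  · rintro ⟨p, hp, rfl⟩
    refine ⟨A.el_mem p, ?_⟩
    rintro _ ⟨q, rfl⟩
    rw [A.el_cc, A.el_mem_center, cc_eq, hp.1, hp.2]
    exact ⟨rfl, rfl, by ring⟩
  · rintro ⟨hx, h⟩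
    obtain ⟨p, rfl⟩ := A.mem_T.1 hx
    have h1 := h _ (A.el_mem ⟨1, 0, 0, 0⟩)
    have h2 := h _ (A.el_mem ⟨0, 1, 0, 0⟩)
    rw [A.el_cc, A.el_mem_center, cc_eq] at h1 h2
    refine A.mem_D0.2 ⟨?_, ?_⟩
    · have := h2.2.2
      simpa using this
    · have := h1.2.2
      simpa using this

theorem D0_comm {x y : L} (hx : x ∈ A.D0) (hy : y ∈ A.T) : x * y = y * x := by
  obtain ⟨p, hp, rfl⟩ := hx
  obtain ⟨q, rfl⟩ := hy
  rw [A.comm_iff, hp.1, hp.2]
  exact ⟨by ring, by ring⟩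

theorem mem_D0_iff' {x : L} : x ∈ A.D0 ↔ x ∈ A.T ∧ ∀ y ∈ A.T, x * y = y * x := by
  constructor
  · intro h
    exact ⟨A.sub_le_T h, fun y hy => A.D0_comm h hy⟩
  · rintro ⟨h1, h2⟩
    refine A.mem_D0_iff.2 ⟨h1, fun y hy => ?_⟩
    rw [commutatorElement_eq_one_iff_mul_comm.2 (h2 y hy)]
    exact one_mem _

theorem comm_code : ∀ c s : F4, ∃ a b : F4, (⟨0, 0, c, s⟩ : Code) = cmul (cc ⟨a, 0, 0, 0⟩ ⟨0, 1, 0, 0⟩)
    (cc ⟨b, 0, 0, 0⟩ ⟨0, F4.w, 0, 0⟩) := by decide +kernel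

/-- `T' = D0` -/
theorem commutator_T : ⁅A.T, A.T⁆ = A.D0 := by
  apply le_antisymm
  · rw [commutator_le]
    rintro _ ⟨p, rfl⟩ _ ⟨q, rfl⟩
    rw [A.el_cc, cc_eq]
    exact A.mem_D0.2 ⟨rfl, rfl⟩
  · rintro _ ⟨⟨a, b, c, s⟩, ⟨h1, h2⟩, rfl⟩
    simp only at h1 h2
    subst h1 h2
    obtain ⟨a, b, h⟩ := comm_code c s
    rw [h, ← A.el_mul, ← A.el_cc, ← A.el_cc]
    exact mul_mem (commutator_mem_commutator (A.el_mem _) (A.el_mem _))
      (commutator_mem_commutator (A.el_mem _) (A.el_mem _))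

theorem center_le_D0 : center L ≤ A.D0 := by
  intro z hz
  obtain ⟨s, rfl⟩ := A.mem_center.1 hz
  rw [← A.el_g]
  exact A.mem_D0.2 ⟨rfl, rfl⟩

theorem x02_mem_D0 (c : F4) : A.x 0 2 c ∈ A.D0 := by
  rw [← A.el_x02]; exact A.mem_D0.2 ⟨rfl, rfl⟩

/-- elements of `D0` -/
theorem D0_form {d : L} (h : d ∈ A.D0) : ∃ c s, d = A.x 0 2 c * A.g s := by
  obtain ⟨⟨a, b, c, s⟩, ⟨h1, h2⟩, rfl⟩ := h
  simp only at h1 h2
  subst h1 h2
  refine ⟨c, s, ?_⟩
  rw [A.el_eq, A.x_zero 0 1 (by decide), A.x_zero 1 2 (by decide), one_mul, one_mul]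

/-- canonical elements of `D0` -/
theorem can_D0 {c s : F4} (hc : c ≠ 0) : Can (A.x 0 2 c * A.g s) ↔ s = 0 := by
  have e : A.x 0 2 c * A.g s = A.el ⟨0, 0, c, s⟩ := by
    rw [A.el_eq, A.x_zero 0 1 (by decide), A.x_zero 1 2 (by decide), one_mul, one_mul]
  rw [e, A.can_el (Or.inl rfl) (fun h => hc h.2.2)]
  unfold cls
  simp

/-- elementary abelian subgroups of `T` modulo the centre -/
theorem elem_le {W : Subgroup L} (hW : W ≤ A.T) (h : ∀ x ∈ W, x * x ∈ center L) : W ≤ A.E1 ∨ W ≤ A.E2 := by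
  by_contra hcon
  rw [not_or, SetLike.not_le_iff_exists, SetLike.not_le_iff_exists] at hcon
  obtain ⟨⟨x, hx, hx1⟩, ⟨y, hy, hy2⟩⟩ := hcon
  have hx2 := (A.mem_of_sq (hW hx) (h x hx)).resolve_left hx1
  have hy1 := (A.mem_of_sq (hW hy) (h y hy)).resolve_right hy2
  have hxy := A.mem_of_sq (hW (mul_mem hx hy)) (h _ (mul_mem hx hy))
  rcases hxy with h3 | h3
  · exact hx1 (by simpa using A.E1.mul_mem h3 (A.E1.inv_mem hy1))
  · exact hy2 (by simpa using A.E2.mul_mem (A.E2.inv_mem hx2) h3)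

/-! ### Generation of `T` -/

theorem gen_code : ∀ s : F4, ∃ c : F4, s = 1 * 1 * (c * c) := by decide

/-- **`C(v)` is generated by the products `v v^g`, `v^g` commuting with `v`.** -/
theorem gen_T (r : F4) {y : L} (hy : y ∈ A.T) : y ∈ closure {z | ∃ g : L, g * (A.t * A.g r) * g⁻¹ * (A.t * A.g r) =
    A.t * A.g r * (g * (A.t * A.g r) * g⁻¹) ∧ z = A.t * A.g r * (g * (A.t * A.g r) * g⁻¹)} := by
  set W := closure {z | ∃ g : L, g * (A.t * A.g r) * g⁻¹ * (A.t * A.g r) =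
    A.t * A.g r * (g * (A.t * A.g r) * g⁻¹) ∧ z = A.t * A.g r * (g * (A.t * A.g r) * g⁻¹)} with hW
  -- products with canonical involutions of `T`
  have h1 : ∀ x : L, Can x → x ∈ A.T → A.t * x ∈ W := by
    intro x hx hxT
    obtain ⟨g, hg⟩ := (A.can_t hx).symm'
    have e : g * (A.t * A.g r) * g⁻¹ = x * A.g r := by
      calc g * (A.t * A.g r) * g⁻¹ = g * A.t * (A.g r * g⁻¹) := by group
        _ = (g * A.t * g⁻¹) * A.g r := by rw [A.g_cen]; group
        _ = _ := by rw [hg]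
    have hc : x * A.t = A.t * x := A.cent.2 hxT
    apply Subgroup.subset_closure
    refine ⟨g, ?_, ?_⟩
    · rw [e]
      calc x * A.g r * (A.t * A.g r) = x * (A.g r * A.t) * A.g r := by group
        _ = (x * A.t) * A.g r * A.g r := by rw [A.g_cen]; group
        _ = A.t * (x * A.g r) * A.g r := by rw [hc]; group
        _ = A.t * (A.g r * (x * A.g r)) := by rw [A.g_cen r (x * A.g r)]; group
        _ = _ := by group
    · rw [e]
      calc A.t * x = A.t * x * (A.g r * A.g r) := by rw [A.g_sq, mul_one]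
        _ = A.t * (x * A.g r) * A.g r := by group
        _ = A.t * (A.g r * (x * A.g r)) := by rw [A.g_cen r (x * A.g r)]; group
        _ = _ := by group
  have h2 : ∀ c, A.x 0 2 c ∈ W := by
    have h3 : ∀ c, c ≠ 0 → A.x 0 2 (1 + c) ∈ W := by
      intro c hc
      rw [← A.x_add 0 2 (by decide)]
      refine h1 _ ?_ (A.sub_le_T (A.x02_mem_D0 c))
      have := (A.can_D0 (s := 0) hc).2 rfl
      rwa [A.g_zero, mul_one] at this
    intro c
    by_cases hc : c = 0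
    · rw [hc, A.x_zero 0 2 (by decide)]; exact one_mem _
    · have h4 : A.x 0 2 1 ∈ W := by
        have := mul_mem (h3 F4.w (by decide)) (h3 F4.v (by decide))
        rwa [A.x_add 0 2 (by decide), show (1 + F4.w + (1 + F4.v) : F4) = 1 by decide] at this
      have h5 := mul_mem h4 (h3 c hc)
      rwa [A.x_add 0 2 (by decide), ← add_assoc, add_self, zero_add] at h5
  have h3 : ∀ x : L, Can x → x ∈ A.T → x ∈ W := by
    intro x hx hxT
    have := mul_mem (h2 1) (h1 x hx hxT)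
    rwa [show A.x 0 2 1 * (A.t * x) = (A.t * A.t) * x by rw [← mul_assoc]; rfl, A.t_sq, one_mul] at this
  have h4 : ∀ a, A.x 0 1 a ∈ W := by
    intro a
    by_cases ha : a = 0
    · rw [ha, A.x_zero 0 1 (by decide)]; exact one_mem _
    · apply h3 _ (can_conj (A.root_one 0 1 (by decide) a ha).symm' A.t_can)
      rw [← A.el_x01]; exact A.el_mem _
  have h5 : ∀ b, A.x 1 2 b ∈ W := by
    intro b
    by_cases hb : b = 0
    · rw [hb, A.x_zero 1 2 (by decide)]; exact one_mem _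
    · apply h3 _ (can_conj (A.root_one 1 2 (by decide) b hb).symm' A.t_can)
      rw [← A.el_x12]; exact A.el_mem _
  have h6 : ∀ s, A.g s ∈ W := by
    intro s
    obtain ⟨c, hc⟩ := gen_code s
    have h7 : Can (A.el ⟨1, 0, c, s⟩) := by
      rw [A.can_el (Or.inr rfl) (fun h => absurd (show (1 : F4) = 0 from h.1) (by decide))]
      unfold cls
      simp only
      rw [← hc, mul_zero, add_zero, add_self]
    have h8 := h3 _ h7 (A.el_mem _)
    rw [A.el_eq, A.x_zero 1 2 (by decide), mul_one] at h8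
    have h9 := mul_mem (inv_mem (mul_mem (h4 1) (h2 c))) h8
    rwa [inv_mul_cancel_left] at h9
  obtain ⟨p, rfl⟩ := A.mem_T.1 hy
  rw [A.el_eq]
  exact mul_mem (mul_mem (mul_mem (h4 _) (h5 _)) (h2 _)) (h6 _)

end Dat

end Cfsg.Agent.UGT.Cov.Klein
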