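import Cfsg.Agent.StdL34.Inv2

/-!
# Coordinates of `4.L3(4)` adapted to a noncentral involution

`mapCov e A` : transport of coordinates along an isomorphism; `exists_at` : for a noncentral involution `t` of `K`
there are coordinates with `x₀₂(1) = t`.
-/

set_option autoImplicit false
set_option linter.constructorNameAsVariable false
set_option linter.unusedVariables false

namespace Cfsg.Agent.UGT.Cov.At

open Cfsg.Agent.StdL34
open Cfsg.Agent.SporadicA.FieldFour
open Cfsg.Agent.ONType.Psl (kap)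
open Cfsg.Agent.ONType.OuterL (rv)

section

variable {K M : Type*} [Group K] [Group M]

theorem elx_map (e : K ≃* M) (A : StdL34.Cov K) (p : Code) :
    elx (fun i j u => e (A.x i j u)) (e A.s) p = e (elx A.x A.s p) := by
  unfold elx
  rw [map_mul, map_mul, map_mul, map_pow]

theorem imgx_map (e : K ≃* M) (A : StdL34.Cov K) (τ : Ty) (i j : Fin 3) (u : F4) :
    imgx (fun i j u => e (A.x i j u)) τ i j u = e (imgx A.x τ i j u) := by
  unfold imgx
  split <;> rfl

/-- transport of coordinates -/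
def mapCov (e : K ≃* M) (A : StdL34.Cov K) : StdL34.Cov M where
  s := e A.s
  x := fun i j u => e (A.x i j u)
  h := e A.h
  ty := A.ty
  s_cen := fun m => by
    obtain ⟨k, rfl⟩ := e.surjective m
    rw [← map_mul, A.s_cen, map_mul]
  s_pow := by rw [← map_pow, A.s_pow, map_one]
  x_add := fun i j h u v => by rw [← map_mul, A.x_add i j h]
  x_row := fun i j k h1 h2 h3 u v => by
    rw [← map_mul, A.x_row i j k h1 h2 h3, map_mul, map_mul, map_pow]
  x_col := fun i j k h1 h2 h3 u v => by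
    rw [← map_mul, A.x_col i j k h1 h2 h3, map_mul, map_mul, map_pow]
  x_sum := fun i j k h1 h2 h3 u v => by
    rw [← map_mul, A.x_sum i j k h1 h2 h3, map_mul, map_mul, map_mul, map_pow]
  x_wey := fun i j k l h1 h2 u => by
    rw [← A.x_wey i j k l h1 h2 u]
    simp only [map_mul, map_inv]
  h_pow := by rw [← map_pow, A.h_pow, map_one]
  h_x := fun i j h u => by
    rw [← A.h_x i j h u]
    simp only [map_mul, map_inv]
  h_eq := fun i j h => by
    rw [← A.h_eq i j h]
    simp only [map_mul]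
  el_inj := fun p q h => by
    rw [elx_map, elx_map] at h
    exact A.el_inj (e.injective h)
  gen := by
    have h : {y | ∃ i j u, i ≠ j ∧ y = e (A.x i j u)} = e.toMonoidHom '' {y | ∃ i j u, i ≠ j ∧ y = A.x i j u} := by
      ext y
      constructor
      · rintro ⟨i, j, u, h, rfl⟩
        exact ⟨_, ⟨i, j, u, h, rfl⟩, rfl⟩
      · rintro ⟨_, ⟨i, j, u, h, rfl⟩, rfl⟩
        exact ⟨i, j, u, h, rfl⟩
    rw [h, ← MonoidHom.map_closure, A.gen]
    exact Subgroup.map_top_of_surjective _ e.surjective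
  odd_index := by
    obtain ⟨T, hT, h2⟩ := A.odd_index
    refine ⟨T.map e.toMonoidHom, ?_, ?_⟩
    · intro l
      constructor
      · rintro ⟨k, hk, rfl⟩
        obtain ⟨p, hp⟩ := (hT k).mp hk
        exact ⟨p, by rw [elx_map, ← hp]; rfl⟩
      · rintro ⟨p, rfl⟩
        rw [elx_map]
        exact ⟨_, (hT _).mpr ⟨p, rfl⟩, rfl⟩
    · rw [Subgroup.index_map_of_bijective e.bijective]
      exact h2
  cent := fun l hl => by
    obtain ⟨k, rfl⟩ := e.surjective l
    rw [← map_mul, ← map_mul] at hl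
    obtain ⟨p, hp⟩ := A.cent k (e.injective hl)
    exact ⟨p, by rw [elx_map, hp]⟩
  r_ne := fun n h => by
    rw [← map_mul, ← map_pow] at h
    exact A.r_ne n (by rw [← map_one e] at h; exact e.injective h)
  outer := fun α => by
    obtain ⟨l, τ, h⟩ := A.outer ((e.trans α).trans e.symm)
    refine ⟨e l, τ, fun i j hij u => ?_⟩
    rw [imgx_map, ← h i j hij u, map_mul, map_mul, map_inv]
    congr 2
    show α (e (A.x i j u)) = e (e.symm (α (e (A.x i j u))))
    rw [MulEquiv.apply_symm_apply]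

theorem mapCov_x (e : K ≃* M) (A : StdL34.Cov K) (i j : Fin 3) (u : F4) :
    (mapCov e A).x i j u = e (A.x i j u) := rfl

theorem mapCov_s (e : K ≃* M) (A : StdL34.Cov K) : (mapCov e A).s = e A.s := rfl

theorem mapCov_ty (e : K ≃* M) (A : StdL34.Cov K) : (mapCov e A).ty = A.ty := rfl

/-- `x₀₂(1)` and `x₀₂(1) s²` are conjugate -/
theorem conj_x02_sp (A : StdL34.Cov K) :
    A.x 0 1 F4.w * A.x 0 2 1 * (A.x 0 1 F4.w)⁻¹ = A.x 0 2 1 * A.sp 2 := by
  have h8 := A.row 0 1 2 (by decide) (by decide) (by decide) F4.w 1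
  have h9 : t2 (F4.w * 1) = 2 := rfl
  rw [h9] at h8
  rw [h8, mul_assoc, mul_assoc, A.sp_cen, mul_inv_cancel_left]

/-- every noncentral involution is conjugate to `x₀₂(1)` -/
theorem exists_conj (A : StdL34.Cov K) {t : K} (ht : t * t = 1) (hn : t ∉ Subgroup.center K) :
    ∃ g, g * t * g⁻¹ = A.x 0 2 1 := by
  have h1 : MulAut.conj t ≠ 1 := by
    intro h
    apply hn
    rw [Subgroup.mem_center_iff]
    intro k
    have := DFunLike.congr_fun h k
    rw [MulAut.conj_apply, MulAut.one_apply] at this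
    exact (mul_inv_eq_iff_eq_mul.mp this).symm
  have h2 : MulAut.conj t * MulAut.conj t = 1 := by rw [← map_mul, ht, map_one]
  obtain ⟨l, h⟩ := Cov.inv_class (A := A) (MulAut.conj t) h1 h2
  have h3 : MulAut.conj l * MulAut.conj t * (MulAut.conj l)⁻¹ = MulAut.conj (l * t * l⁻¹) := by
    rw [map_mul, map_mul, map_inv]
  rw [h3] at h
  rcases h with ⟨τ, hτ, h⟩ | h
  · exfalso
    exact hτ (h.hasTy.unique (Cov.hasTy_conj _))
  · have h4 : MulAut.conj ((A.x 0 2 1)⁻¹ * (l * t * l⁻¹)) = 1 := by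
      rw [map_mul, map_inv, h, inv_mul_cancel]
    obtain ⟨k, hk⟩ := Cov.conj_eq_one h4
    rw [inv_mul_eq_iff_eq_mul] at hk
    have hsq : A.sp k * A.sp k = 1 := by
      have h5 : (l * t * l⁻¹) * (l * t * l⁻¹) = 1 := by
        calc (l * t * l⁻¹) * (l * t * l⁻¹) = l * (t * t) * l⁻¹ := by group
          _ = 1 := by rw [ht]; group
      rw [hk] at h5
      have h6 : A.x 0 2 1 * A.sp k * (A.x 0 2 1 * A.sp k) =
          (A.x 0 2 1 * A.x 0 2 1) * (A.sp k * A.sp k) := by
        rw [mul_assoc, mul_assoc, ← mul_assoc (A.sp k), A.sp_cen k (A.x 0 2 1), mul_assoc]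
      rwa [h6, A.x_sq 0 2 (by decide), one_mul] at h5
    have hk2 : k = 0 ∨ k = 2 := by
      rw [A.sp_add, ← A.sp_zero, ← A.el_sp, ← A.el_sp] at hsq
      have h6 := congrArg Code.k (A.inj hsq)
      have aux : ∀ k : Fin 4, k + k = 0 → k = 0 ∨ k = 2 := by decide
      exact aux k h6
    rcases hk2 with rfl | rfl
    · rw [A.sp_zero, mul_one] at hk
      exact ⟨l, hk⟩
    · rw [← conj_x02_sp A] at hk
      refine ⟨(A.x 0 1 F4.w)⁻¹ * l, ?_⟩
      calc (A.x 0 1 F4.w)⁻¹ * l * t * ((A.x 0 1 F4.w)⁻¹ * l)⁻¹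
          = (A.x 0 1 F4.w)⁻¹ * (l * t * l⁻¹) * A.x 0 1 F4.w := by group
        _ = A.x 0 2 1 := by rw [hk]; group

/-- **Coordinates adapted to a noncentral involution.** -/
theorem exists_at (A : StdL34.Cov K) {t : K} (ht : t * t = 1) (hn : t ∉ Subgroup.center K) :
    ∃ A2 : StdL34.Cov K, A2.x 0 2 1 = t ∧ A2.s = A.s ∧ A2.ty = A.ty := by
  obtain ⟨g, hg⟩ := exists_conj A ht hn
  refine ⟨mapCov (MulAut.conj g⁻¹) A, ?_, ?_, rfl⟩
  · rw [mapCov_x, MulAut.conj_apply, ← hg]; group
  · rw [mapCov_s, MulAut.conj_apply, ← A.s_cen]; group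

end

end Cfsg.Agent.UGT.Cov.At
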