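import Cfsg.Agent.UGT.Cov.Gamma2

/-!
# The action of automorphisms on the centre of a cover of `PSL(3,4)`

* `sq_inner` : the square of a 2-automorphism is inner.
* `fix_omega` (K2) : centre `4 × 2`: every automorphism fixes the involutions of the centre.
* `exists_root` (K3) : centre `4 × 4`: an involutory automorphism moving an involution of the centre and fixing the
  involution `u` fixes a square root of `u`.
-/

set_option autoImplicit false
set_option linter.constructorNameAsVariable false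
set_option linter.unusedSectionVars false
set_option linter.unusedVariables false

namespace Cfsg.Agent.UGT.Cov

open Subgroup
open Cfsg.Agent.SporadicA.FieldFour
open Cfsg.Agent.ONType.Psl
open Cfsg.Agent.ONType.Comm (cm)
open Cfsg.Agent.LThreeFour
open Cfsg.Agent.OddHalf.D9.L34Mult

/-- squaring on the centre -/
def sqc (M : Type*) [Group M] : center M →* center M where
  toFun a := a * a
  map_one' := one_mul 1
  map_mul' a b := by
    apply Subtype.ext
    show (a : M) * b * (a * b) = a * a * (b * b)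
    have := mem_center_iff.mp a.2 b
    calc (a : M) * b * (a * b) = a * ((b : M) * a) * b := by group
      _ = a * ((a : M) * b) * b := by rw [this]
      _ = _ := by group

theorem card_center (M : Type*) [Group M] :
    Nat.card (omega M) * Nat.card (sqc M).range = Nat.card (center M) := by
  have hker2 : Nat.card (sqc M).ker = Nat.card (omega M) := by
    apply Nat.card_congr
    exact
      { toFun := fun a => ⟨a.1.1, a.1.2, congrArg Subtype.val a.2⟩
        invFun := fun a => ⟨⟨a.1, a.2.1⟩, Subtype.ext a.2.2⟩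
        left_inv := fun a => rfl
        right_inv := fun a => rfl }
  rw [← hker2, ← Subgroup.index_ker]
  exact card_mul_index _

variable {M : Type*} [Group M] {π : M →* PSL3} {b : MulAut M →* MulAut PSL3}

/-- the square of a 2-automorphism is inner -/
theorem Ext.sq_inner (E : Ext π b) {a : MulAut M} {n : ℕ} (h : a ^ (2 ^ n) = 1) :
    ∃ k, a * a = MulAut.conj k := by
  apply E.inner
  rw [map_mul, map_mul]
  exact Dat.tyHom_sq (n := n) (by rw [← map_pow, h, map_one])

/-- (K4) -/
theorem sq_inner {K : Type*} [Group K] [Finite K] (hperf : commutator K = ⊤)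
    (h2 : IsPGroup 2 (center K)) {F : Type*} [Field F] [Fintype F] (hF : Fintype.card F = 4)
    (e : K ⧸ center K ≃* Matrix.ProjectiveSpecialLinearGroup (Fin 3) F) {a : MulAut K} {n : ℕ}
    (h : a ^ (2 ^ n) = 1) : ∃ k, a * a = MulAut.conj k := by
  obtain ⟨π, b, E, hker⟩ := exists_ext hperf h2 hF e
  exact E.sq_inner h

/-- the action on the centre depends only on the type -/
theorem Ext.act (E : Ext π b) {a : MulAut M} {τ : Ty} (h : datPSL.HasTy (b a) τ) (s : F4) :
    a (E.ce.g s) = if τ.2.1 then (E.ce.g (gp τ s))⁻¹ else E.ce.g (gp τ s) := by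
  obtain ⟨l, hl⟩ := h
  obtain ⟨k, rfl⟩ := E.ce.surj l
  have h1 : datPSL.IsTau τ (b (MulAut.conj k * a)) := by
    rw [map_mul, CE.bar_conj E.ce b E.bar]; exact hl
  rw [← E.act_g h1 s, MulAut.mul_apply, E.conj_ker k (E.ker_map a (E.ce.g_map s))]

theorem gp_inj : ∀ (τ : Ty) (s s' : F4), gp τ s = gp τ s' → s = s' := by decide +kernel

theorem gp_zero : ∀ (τ : Ty), gp τ 0 = 0 := by decide +kernel

theorem sqrt4 : ∀ s : F4, s * s * (s * s) = s := by decide

theorem sq_eq_zero4 : ∀ s : F4, s * s = 0 → s = 0 := by decide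

theorem span2 : ∀ r s t : F4, r ≠ 0 → s ≠ 0 → s ≠ r → t = 0 ∨ t = r ∨ t = s ∨ t = r + s := by decide

namespace Ext

variable (E : Ext π b)
include E

/-- the square of the image of `g s` -/
theorem act_sq (a : MulAut M) {τ : Ty} (h : datPSL.HasTy (b a) τ) (s : F4) :
    a (E.ce.g s * E.ce.g s) = E.ce.f (gp τ s * gp τ s) := by
  rw [map_mul, E.act h s]
  split_ifs with hc
  · have h1 := E.ce.g_sq (gp τ s)
    have h2 := E.ce.f_sq (gp τ s * gp τ s)
    rw [← mul_inv_rev, h1, inv_eq_iff_mul_eq_one, h2]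
  · exact E.ce.g_sq _

/-- squares of central elements -/
theorem ker_sq [Finite M] {z : M} (hz : π z = 1) : ∃ s, z * z = E.ce.f s := by
  obtain ⟨i, j, rfl⟩ := E.ce.ker_form E.perf E.ker2 z hz
  have hc : Commute (E.ce.g 1 ^ i) (E.ce.g ω ^ j) :=
    (show Commute (E.ce.g 1) (E.ce.g ω ^ j) from E.ce.g_cen 1 _).pow_left i
  have h1 : ∀ (s : F4) (i : ℕ), ∃ t, E.ce.f s ^ i = E.ce.f t := by
    intro s i
    induction i with
    | zero => exact ⟨0, by rw [pow_zero, E.ce.f_zero]⟩
    | succ i ih =>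
      obtain ⟨t, ht⟩ := ih
      exact ⟨t + s, by rw [pow_succ, ht, E.ce.f_add]⟩
  obtain ⟨t1, ht1⟩ := h1 (1 * 1) i
  obtain ⟨t2, ht2⟩ := h1 (ω * ω) j
  refine ⟨t1 + t2, ?_⟩
  rw [← pow_two, hc.mul_pow, ← pow_mul, ← pow_mul, mul_comm i, mul_comm j, pow_mul, pow_mul,
    pow_two, pow_two, E.ce.g_sq, E.ce.g_sq, ht1, ht2, E.ce.f_add]

/-- if `f` is injective the centre is `4 × 4` -/
theorem card_sixteen [Finite M] (hker : π.ker = center M) (h4 : Nat.card (omega M) = 4)
    (hf : ∀ s, E.ce.f s = 1 → s = 0) : Nat.card (center M) = 16 := by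
  rw [← card_center, h4]
  have hmem : ∀ k : M, π k = 1 ↔ k ∈ center M := by
    intro k
    rw [← hker]
    exact Iff.rfl
  have h1 : Nat.card (sqc M).range ≤ Nat.card (omega M) := by
    apply Nat.card_le_card_of_injective (fun x : (sqc M).range => (⟨x.1.1, x.1.2, by
      obtain ⟨y, hy⟩ := x.2
      have h4 := E.four y.1 ((hmem _).mpr y.2)
      have h5 : (x.1 : M) = y.1 * y.1 := by rw [← hy]; rfl
      rw [h5]
      calc (y : M) * y * (y * y) = (y : M) ^ 4 := by
            simp only [pow_succ, pow_zero, one_mul, mul_assoc]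
        _ = 1 := h4⟩ : omega M))
    intro x y hxy
    apply Subtype.ext
    apply Subtype.ext
    have := congrArg (fun z : omega M => z.1) hxy
    exact this
  have h2 : 4 ≤ Nat.card (sqc M).range := by
    have hc : Nat.card F4 = 4 := by rw [Nat.card_eq_fintype_card]; rfl
    rw [← hc]
    apply Nat.card_le_card_of_injective (fun s : F4 => (⟨⟨E.ce.f s, (hmem _).mp (E.ce.f_map s)⟩,
      ⟨⟨E.ce.g (s * s), (hmem _).mp (E.ce.g_map _)⟩, Subtype.ext (E.ce.f_eq_g s).symm⟩⟩ :
      (sqc M).range))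
    intro s t hst
    have h3 : E.ce.f s = E.ce.f t := congrArg (fun z : (sqc M).range => (z.1 : M)) hst
    have h5 : E.ce.f (s + t) = 1 := by rw [E.ce.f_add, h3, E.ce.f_sq]
    have h6 := hf _ h5
    have : ∀ s t : F4, s + t = 0 → s = t := by decide
    exact this s t h6
  rw [h4] at h1
  omega

/-- if the centre is `4 × 4`, `f` is injective -/
theorem f_inj [Finite M] (hker : π.ker = center M) (h16 : Nat.card (center M) = 16)
    (h4 : Nat.card (omega M) ≤ 4) {s : F4} (hs : E.ce.f s = 1) : s = 0 := by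
  by_contra hs0
  have hmem : ∀ k : M, π k = 1 ↔ k ∈ center M := by
    intro k
    rw [← hker]
    exact Iff.rfl
  obtain ⟨r, hr⟩ : ∃ r, ∀ t : F4, t = 0 ∨ t = s ∨ t = r ∨ t = s + r := by
    have : ∀ s : F4, s ≠ 0 → ∃ r, ∀ t : F4, t = 0 ∨ t = s ∨ t = r ∨ t = s + r := by decide
    exact this s hs0
  have h2 : ∀ t, E.ce.f t = 1 ∨ E.ce.f t = E.ce.f r := by
    intro t
    rcases hr t with rfl | rfl | rfl | rfl
    · exact Or.inl E.ce.f_zero
    · exact Or.inl hs
    · exact Or.inr rfl
    · right; rw [E.ce.f_add, hs, one_mul]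
  have h3 : Nat.card (sqc M).range ≤ 2 := by
    have h5 : Set.ncard ((sqc M).range : Set (center M)) ≤ 2 := by
      have hsub : ((sqc M).range : Set (center M)) ⊆
          {1, ⟨E.ce.f r, (hmem _).mp (E.ce.f_map r)⟩} := by
        rintro _ ⟨y, rfl⟩
        obtain ⟨t, ht⟩ := E.ker_sq ((hmem _).mpr y.2)
        rcases h2 t with h6 | h6
        · left
          apply Subtype.ext
          show (y : M) * y = 1
          rw [ht, h6]
        · right
          apply Subtype.ext
          show (y : M) * y = E.ce.f r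
          rw [ht, h6]
      refine (Set.ncard_le_ncard hsub (Set.toFinite _)).trans ?_
      exact (Set.ncard_insert_le _ _).trans (by simp)
    exact h5
  have h5 := card_center M
  rw [h16] at h5
  have h6 : Nat.card (omega M) * Nat.card (sqc M).range ≤ 4 * 2 := Nat.mul_le_mul h4 h3
  omega

end Ext

/-- **(K2)** centre `4 × 2`: all automorphisms fix the involutions of the centre -/
theorem fix_omega {K : Type*} [Group K] [Finite K] (hperf : commutator K = ⊤)
    (h2 : IsPGroup 2 (center K)) {F : Type*} [Field F] [Fintype F] (hF : Fintype.card F = 4)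
    (e : K ⧸ center K ≃* Matrix.ProjectiveSpecialLinearGroup (Fin 3) F)
    (hnc : ¬ IsCyclic (center K)) (hne : ∃ z ∈ center K, z * z ≠ 1)
    (h16 : Nat.card (center K) ≠ 16) (a : MulAut K) : ∀ z ∈ omega K, a z = z := by
  obtain ⟨π, b, E, hker⟩ := exists_ext hperf h2 hF e
  have hmem : ∀ k : K, π k = 1 ↔ k ∈ center K := by
    intro k
    rw [← hker]
    exact Iff.rfl
  have hO := card_omega hperf h2 hF e hnc
  -- the unique nonzero zero of `f`
  obtain ⟨r, hr, hr0⟩ : ∃ r, E.ce.f r = 1 ∧ r ≠ 0 := by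
    by_contra hcon
    push Not at hcon
    exact h16 (E.card_sixteen hker hO hcon)
  have huniq : ∀ s, E.ce.f s = 1 → s = 0 ∨ s = r := by
    intro s hs
    by_contra hcon
    push Not at hcon
    obtain ⟨z, hz, hz2⟩ := hne
    obtain ⟨t, ht⟩ := E.ker_sq ((hmem z).mpr hz)
    apply hz2
    rw [ht]
    rcases span2 r s t hr0 hcon.1 hcon.2 with rfl | rfl | rfl | rfl
    · exact E.ce.f_zero
    · exact hr
    · exact hs
    · rw [E.ce.f_add, hr, hs, one_mul]
  obtain ⟨τ, hτ⟩ := datPSL.hasTy (b a)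
  -- `g (r²)` has square one
  set q := r * r with hq
  have hq0 : q ≠ 0 := fun h => hr0 (sq_eq_zero4 r h)
  have hqq : E.ce.g q * E.ce.g q = 1 := by rw [E.ce.g_sq, hq, sqrt4, hr]
  have hg : ∀ s, E.ce.g s * E.ce.g s = 1 → s = 0 ∨ s = q := by
    intro s hs
    rw [E.ce.g_sq] at hs
    rcases huniq _ hs with h1 | h1
    · exact Or.inl (sq_eq_zero4 s h1)
    · right
      rw [hq, ← h1, sqrt4]
  have hgq : gp τ q = q := by
    have h1 : a (E.ce.g q * E.ce.g q) = 1 := by rw [hqq, map_one]
    rw [E.act_sq a hτ, ← E.ce.g_sq] at h1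
    rcases hg _ h1 with h3 | h3
    · exfalso
      exact hq0 (gp_inj τ _ _ (by rw [h3, gp_zero]))
    · exact h3
  have haq : a (E.ce.g q) = E.ce.g q := by
    rw [E.act hτ, hgq]
    split_ifs with hc
    · exact inv_eq_iff_mul_eq_one.mpr hqq
    · rfl
  -- another element
  obtain ⟨p, hp0, hpq⟩ : ∃ p : F4, p ≠ 0 ∧ p ≠ q := by
    have : ∀ q : F4, ∃ p : F4, p ≠ 0 ∧ p ≠ q := by decide
    exact this q
  have hz1 : ∀ t, t ≠ 0 → t ≠ r → E.ce.f t = E.ce.f (p * p) := by
    intro t ht0 htr
    have hp1 : p * p ≠ 0 := fun h => hp0 (sq_eq_zero4 p h)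
    have hp2 : p * p ≠ r := by
      intro h
      apply hpq
      rw [hq, ← h, sqrt4]
    rcases span2 r (p * p) t hr0 hp1 hp2 with h | h | h | h
    · exact absurd h ht0
    · exact absurd h htr
    · rw [h]
    · rw [h, E.ce.f_add, hr, one_mul]
  have hz1' : E.ce.f (p * p) ≠ 1 := by
    intro h
    rcases huniq _ h with h1 | h1
    · exact hp0 (sq_eq_zero4 p h1)
    · apply hpq
      rw [hq, ← h1, sqrt4]
  have haz : a (E.ce.f (p * p)) = E.ce.f (p * p) := by
    rw [← E.ce.g_sq, E.act_sq a hτ, E.ce.g_sq]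
    apply hz1
    · intro h
      exact hp0 (gp_inj τ _ _ (by rw [sq_eq_zero4 _ h, gp_zero]))
    · intro h
      apply hpq
      apply gp_inj τ
      rw [hgq, hq, ← h, sqrt4]
  -- generation
  have hgq1 : E.ce.g q ∉ zpowers (E.ce.g p) := by
    intro h
    apply hnc
    have hgen : ∀ s, E.ce.g s ∈ zpowers (E.ce.g p) := by
      have m0 : E.ce.g p ∈ zpowers (E.ce.g p) := mem_zpowers _
      have mf : ∀ t, E.ce.f t ∈ zpowers (E.ce.g p) := by
        intro t
        by_cases ht0 : t = 0
        · rw [ht0, E.ce.f_zero]; exact one_mem _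
        by_cases htr : t = r
        · rw [htr, hr]; exact one_mem _
        rw [hz1 t ht0 htr, ← E.ce.g_sq]
        exact mul_mem m0 m0
      intro s
      rcases span2 q p s hq0 hp0 hpq with rfl | rfl | rfl | rfl
      · rw [E.ce.g_zero]; exact one_mem _
      · exact h
      · exact m0
      · rw [E.ce.g_add]
        exact mul_mem (mul_mem h m0) (mf _)
    refine ⟨⟨⟨E.ce.g p, (hmem _).mp (E.ce.g_map p)⟩, ?_⟩⟩
    intro z
    obtain ⟨n, hn⟩ := mem_zpowers_iff.mp
      (E.ce.ker_gen E.perf E.ker2 _ hgen ((hmem z.1).mpr z.2))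
    exact mem_zpowers_iff.mpr ⟨n, Subtype.ext (by rw [← hn]; rfl)⟩
  -- the four elements of `omega K`
  set z1 := E.ce.f (p * p) with hz1d
  set y := E.ce.g q with hyd
  have hz1m : z1 ∈ omega K := ⟨(hmem _).mp (E.ce.f_map _), E.ce.f_sq _⟩
  have hym : y ∈ omega K := ⟨(hmem _).mp (E.ce.g_map _), hqq⟩
  have hz1p : z1 ∈ zpowers (E.ce.g p) := by
    rw [hz1d, ← E.ce.g_sq]; exact mul_mem (mem_zpowers _) (mem_zpowers _)
  have hy1 : y ≠ 1 := fun h => hgq1 (h ▸ one_mem _)
  have hyz : z1 ≠ y := fun h => hgq1 (h ▸ hz1p)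
  have hsq : ∀ w ∈ omega K, w * w = 1 := fun w hw => hw.2
  intro z hz
  have h1 : z1 * y ≠ 1 := by
    intro h
    apply hyz
    have h3 : y * y = z1 * y := by rw [hqq, h]
    exact (mul_right_cancel h3).symm
  have hsub : ({1, z1, y, z1 * y} : Set K) ⊆ (omega K : Set K) := by
    intro w hw
    simp only [Set.mem_insert_iff, Set.mem_singleton_iff] at hw
    rcases hw with rfl | rfl | rfl | rfl
    · exact one_mem _
    · exact hz1m
    · exact hym
    · exact mul_mem hz1m hym
  have hc : ({1, z1, y, z1 * y} : Set K).ncard = 4 := by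
    rw [Set.ncard_insert_of_notMem, Set.ncard_insert_of_notMem, Set.ncard_insert_of_notMem,
      Set.ncard_singleton]
    · intro h
      have h3 : y = z1 * y := by simpa using h
      exact hz1' (right_eq_mul.mp h3)
    · intro h
      simp only [Set.mem_insert_iff, Set.mem_singleton_iff] at h
      rcases h with h | h
      · exact hyz h
      · exact hy1 (left_eq_mul.mp h)
    · intro h
      simp only [Set.mem_insert_iff, Set.mem_singleton_iff] at h
      rcases h with h | h | h
      · exact hz1' h.symm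
      · exact hy1 h.symm
      · exact h1 h.symm
  have heq : ({1, z1, y, z1 * y} : Set K) = (omega K : Set K) := by
    apply Set.eq_of_subset_of_ncard_le hsub ?_ (Set.toFinite _)
    rw [hc]
    have : (omega K : Set K).ncard = 4 := by rw [← hO]; rfl
    omega
  have h4 : z ∈ ({1, z1, y, z1 * y} : Set K) := by rw [heq]; exact hz
  simp only [Set.mem_insert_iff, Set.mem_singleton_iff] at h4
  rcases h4 with rfl | rfl | rfl | rfl
  · exact map_one a
  · exact haz
  · exact haq
  · rw [map_mul, haz, haq]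

/-- **(K3)** centre `4 × 4`: an involutory automorphism moving an involution of the centre and fixing the involution `u`
of the centre fixes a square root of `u` in the centre -/
theorem exists_root {K : Type*} [Group K] [Finite K] (hperf : commutator K = ⊤)
    (h2 : IsPGroup 2 (center K)) {F : Type*} [Field F] [Fintype F] (hF : Fintype.card F = 4)
    (e : K ⧸ center K ≃* Matrix.ProjectiveSpecialLinearGroup (Fin 3) F)
    (h16 : Nat.card (center K) = 16) {a : MulAut K} (haa : a * a = 1) {u : K} (hu : u ∈ omega K)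
    (hu1 : u ≠ 1) (hau : a u = u) (hmv : ∃ z ∈ omega K, a z ≠ z) :
    ∃ i ∈ center K, a i = i ∧ i * i = u := by
  obtain ⟨π, b, E, hker⟩ := exists_ext hperf h2 hF e
  have hmem : ∀ k : K, π k = 1 ↔ k ∈ center K := by
    intro k
    rw [← hker]
    exact Iff.rfl
  have hO := card_omega_le hperf h2 hF e
  have hfi : ∀ s, E.ce.f s = 1 → s = 0 := fun s hs => E.f_inj hker h16 hO hs
  have hfinj : ∀ s t, E.ce.f s = E.ce.f t → s = t := by
    intro s t hst
    have h5 : E.ce.f (s + t) = 1 := by rw [E.ce.f_add, hst, E.ce.f_sq]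
    have : ∀ s t : F4, s + t = 0 → s = t := by decide
    exact this s t (hfi _ h5)
  -- `omega K = f(F4)`
  have hom : ∀ z ∈ omega K, ∃ s, z = E.ce.f s := by
    have hsub : Set.range E.ce.f ⊆ (omega K : Set K) := by
      rintro _ ⟨s, rfl⟩
      exact ⟨(hmem _).mp (E.ce.f_map _), E.ce.f_sq _⟩
    have hc : (Set.range E.ce.f).ncard = 4 := by
      rw [Set.ncard_range_of_injective (fun s t h => hfinj s t h)]
      rw [Nat.card_eq_fintype_card]; rfl
    have heq : Set.range E.ce.f = (omega K : Set K) := by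
      apply Set.eq_of_subset_of_ncard_le hsub ?_ (Set.toFinite _)
      rw [hc]
      exact hO
    intro z hz
    have : z ∈ Set.range E.ce.f := by rw [heq]; exact hz
    obtain ⟨s, hs⟩ := this
    exact ⟨s, hs.symm⟩
  obtain ⟨τ, hτ⟩ := datPSL.hasTy (b a)
  have hττ : τ.mul τ = ty1 := by
    have h3 := hτ.mul hτ
    have h4 : b a * b a = 1 := by rw [← map_mul, haa, map_one]
    rw [h4] at h3
    exact h3.unique datPSL.hasTy_one
  have hact : ∀ s, a (E.ce.f (s * s)) = E.ce.f (gp τ s * gp τ s) := by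
    intro s
    rw [← E.ce.g_sq, E.act_sq a hτ]
  have hmv' : ¬ ∀ s, gp τ s = s := by
    intro h
    obtain ⟨z, hz, hz2⟩ := hmv
    obtain ⟨s, rfl⟩ := hom z hz
    apply hz2
    have h1 := hact (s * s)
    rw [h, sqrt4] at h1
    exact h1
  have hτ1 : τ ≠ ty1 := by
    rintro rfl
    exact hmv' (by decide)
  rcases gp_cases τ hτ1 hττ with ⟨-, h3⟩ | ⟨s0, h0, h3, h4, h5⟩
  · exact absurd h3 hmv'
  · obtain ⟨t, ht⟩ := hom u hu
    have ht0 : t ≠ 0 := by
      rintro rfl
      exact hu1 (by rw [ht, E.ce.f_zero])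
    -- `u = f (s0²)`
    have hts : gp τ (t * t) = t * t := by
      have h1 := hact (t * t)
      rw [sqrt4, ← ht, hau, ht] at h1
      have h6 := hfinj _ _ h1
      have : ∀ t x : F4, t = x * x → x = t * t := by decide
      exact this _ _ h6
    have htt : t * t = s0 := by
      rcases all_of_s0 s0 (t * t) h0 with h | h | h | h
      · exact absurd (sq_eq_zero4 t h) ht0
      · exact h
      · exfalso
        rw [h, h4] at hts
        have : ∀ s0 : F4, s0 ≠ 0 → ω2 * s0 = ω * s0 → False := by decide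
        exact this s0 h0 hts
      · exfalso
        rw [h, h5] at hts
        have : ∀ s0 : F4, s0 ≠ 0 → ω * s0 = ω2 * s0 → False := by decide
        exact this s0 h0 hts
    have hts0 : t = s0 * s0 := by rw [← htt, sqrt4]
    by_cases hc : τ.2.1 = true
    · refine ⟨E.ce.g (ω * s0) * (E.ce.g (ω2 * s0))⁻¹, (hmem _).mp ?_, ?_, ?_⟩
      · rw [map_mul, map_inv, E.ce.g_map, E.ce.g_map, inv_one, one_mul]
      · rw [map_mul, map_inv, E.act hτ, E.act hτ, if_pos hc, if_pos hc, h4, h5, inv_inv,
          ← E.ce.g_cen]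
      · have e1 : E.ce.g (ω * s0) * (E.ce.g (ω2 * s0))⁻¹ * (E.ce.g (ω * s0) * (E.ce.g (ω2 * s0))⁻¹) =
            (E.ce.g (ω * s0) * E.ce.g (ω * s0)) * (E.ce.g (ω2 * s0) * E.ce.g (ω2 * s0))⁻¹ := by
          have h6 : Commute (E.ce.g (ω * s0)) (E.ce.g (ω2 * s0))⁻¹ :=
            (show Commute (E.ce.g (ω * s0)) (E.ce.g (ω2 * s0)) from E.ce.g_cen _ _).inv_right
          rw [mul_inv_rev]
          calc _ = E.ce.g (ω * s0) * ((E.ce.g (ω2 * s0))⁻¹ * E.ce.g (ω * s0)) * (E.ce.g (ω2 * s0))⁻¹ := by
                group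
            _ = E.ce.g (ω * s0) * (E.ce.g (ω * s0) * (E.ce.g (ω2 * s0))⁻¹) * (E.ce.g (ω2 * s0))⁻¹ := by
                rw [h6.eq]
            _ = _ := by group
        rw [e1, E.ce.g_sq, E.ce.g_sq, ht, inv_eq_of_mul_eq_one_right (E.ce.f_sq _), ← E.ce.f_add,
          hts0]
        congr 1
        have : ∀ s0 : F4, ω * s0 * (ω * s0) + ω2 * s0 * (ω2 * s0) = s0 * s0 := by decide
        exact this s0
    · refine ⟨E.ce.g s0, (hmem _).mp (E.ce.g_map _), ?_, ?_⟩
      · rw [E.act hτ, if_neg hc, h3]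
      · rw [E.ce.g_sq, ht, hts0]

end Cfsg.Agent.UGT.Cov
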