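import Cfsg.Agent.OddHalf.D9.L34Mult.Gamma
import Cfsg.Agent.LThreeFour.Norm

/-!
# Perfect groups `M` with `M / Z(M) = PSL(3,4)`, `Z(M)` a 2-group: automorphisms

* `Ext π b` : `π : M → PSL(3,4)` with kernel the centre (a 2-group), `M` perfect, `b : Aut(M) → Aut(PSL(3,4))`.
* `Ext.pure` : action of an automorphism of pure type on the canonical lifts.
* `Ext.act_g` : its action on the centre (generated by `g 1`, `g ω`).
-/

set_option autoImplicit false
set_option linter.constructorNameAsVariable false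
set_option linter.unusedSectionVars false
set_option linter.unusedVariables false

namespace Cfsg.Agent.UGT.Cov

open Subgroup
open Cfsg.Agent.SporadicA.FieldFour
open Cfsg.Agent.ONType.Psl
open Cfsg.Agent.ONType.Comm (cm)
open Cfsg.Agent.ONType.OuterL (rv rv_ne rv_rv)
open Cfsg.Agent.LThreeFour
open Cfsg.Agent.OddHalf.D9.L34Mult

/-- `M` perfect, `ker π = Z(M)` a 2-group, `M / Z(M) = PSL(3,4)`, `b` the map of automorphisms. -/
structure Ext {M : Type*} [Group M] (π : M →* PSL3) (b : MulAut M →* MulAut PSL3) : Prop where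
  ce : CE π
  perf : commutator M = ⊤
  ker2 : IsPGroup 2 π.ker
  cen : ∀ k, (∀ m, k * m = m * k) → π k = 1
  bar : ∀ α m, b α (π m) = π (α m)

theorem exists_ext {K : Type*} [Group K] [Finite K] (hperf : commutator K = ⊤)
    (h2 : IsPGroup 2 (center K)) {F : Type*} [Field F] [Fintype F] (hF : Fintype.card F = 4)
    (e : K ⧸ center K ≃* Matrix.ProjectiveSpecialLinearGroup (Fin 3) F) :
    ∃ (π : K →* PSL3) (b : MulAut K →* MulAut PSL3), Ext π b ∧ π.ker = center K := by
  obtain ⟨π, C, hker⟩ := exists_ce hF e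
  have hcen : ∀ k : K, (∀ m, k * m = m * k) → π k = 1 := by
    intro k hk
    have : k ∈ π.ker := by
      rw [hker, mem_center_iff]
      exact fun m => (hk m).symm
    exact this
  obtain ⟨b, hb⟩ := C.exists_bar hcen
  exact ⟨π, b, ⟨C, hperf, by rw [hker]; exact h2, hcen, hb⟩, hker⟩

variable {M : Type*} [Group M] {π : M →* PSL3} {b : MulAut M →* MulAut PSL3}

namespace Ext

variable (E : Ext π b)
include E

theorem four [Finite M] (k : M) (hk : π k = 1) : k ^ 4 = 1 := E.ce.ker_four E.perf E.ker2 k hk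

theorem conj_one {k : M} (hk : π k = 1) : MulAut.conj k = 1 := by
  apply MulEquiv.ext
  intro m
  rw [MulAut.conj_apply, E.ce.cen k hk m, mul_inv_cancel_right]
  rfl

theorem map_one_of_conj {k : M} (h : MulAut.conj k = 1) : π k = 1 := by
  apply E.cen
  intro m
  have := DFunLike.congr_fun h m
  rw [MulAut.conj_apply, MulAut.one_apply] at this
  calc k * m = (k * m * k⁻¹) * k := by group
    _ = m * k := by rw [this]

/-- an automorphism whose image is inner is inner -/
theorem inner {α : MulAut M} (h : datPSL.tyHom (b α) = 1) : ∃ k, α = MulAut.conj k := by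
  obtain ⟨l, hl⟩ := datPSL.inner_iff.mp h
  obtain ⟨k, rfl⟩ := E.ce.surj l
  exact ⟨k, E.ce.inner_of_bar E.perf b E.bar hl⟩

theorem tyHom_conj (k : M) : datPSL.tyHom (b (MulAut.conj k)) = 1 := by
  rw [CE.bar_conj E.ce b E.bar]
  exact datPSL.tyHom_conj _

theorem ker_map (α : MulAut M) {k : M} (hk : π k = 1) : π (α k) = 1 := by
  rw [← E.bar, hk, map_one]

/-- inner automorphisms fix the centre -/
theorem conj_ker (m : M) {k : M} (hk : π k = 1) : MulAut.conj m k = k := by
  rw [MulAut.conj_apply, ← E.ce.cen k hk m, mul_inv_cancel_right]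

theorem pure_h {τ : Ty} {α : MulAut M} (h : datPSL.IsTau τ (b α)) :
    π (α E.ce.h) = hh ∨ π (α E.ce.h) = hh⁻¹ := by
  rw [← E.bar, E.ce.map_h]
  rcases hτ : τ.1 with _ | _
  · left
    exact Dat.IsTau.h (A := datPSL) h hτ
  · right
    exact Gamma.tau_hh h hτ

/-- **Action of an automorphism of pure type on the canonical lifts.** -/
theorem pure {τ : Ty} {α : MulAut M} (h : datPSL.IsTau τ (b α)) {i j : Fin 3} (hij : i ≠ j)
    (u : F4) : α (E.ce.x i j u) = imgx E.ce.x τ i j u := by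
  have h1 := h i j hij u
  have h2 : π (α (E.ce.x i j u)) = imgx t τ i j u := by
    rw [← E.bar, E.ce.map_x i j hij]; exact h1
  unfold imgx at h2 ⊢
  split_ifs with hc
  · rw [if_pos hc] at h2
    exact E.ce.x_map α.toMonoidHom (E.pure_h h) hij (rv_ne hij.symm) h2
  · rw [if_neg hc] at h2
    exact E.ce.x_map α.toMonoidHom (E.pure_h h) hij hij h2

end Ext

/-- the parameter of the image of `g s` -/
def gp (τ : Ty) (s : F4) : F4 :=
  if τ.2.1 then pu τ 1 2 1 * (pu τ 0 1 s * pu τ 0 1 s) else pu τ 0 1 s * (pu τ 1 2 1 * pu τ 1 2 1)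

theorem map_cm (α : MulAut M) (x y : M) : α (cm x y) = cm (α x) (α y) := by
  unfold cm
  simp only [map_mul, map_inv]

theorem pu_sum : ∀ (τ : Ty) (s : F4), pu τ 0 2 (s * 1) = pu τ 0 1 s * pu τ 1 2 1 := by
  decide +kernel

theorem cm_inv (x y : M) : (cm x y)⁻¹ = cm y x := by
  unfold cm; group

theorem rv_vals : rv 0 = 2 ∧ rv 1 = 1 ∧ rv 2 = 0 := by decide

namespace Ext

variable (E : Ext π b)
include E

/-- **Action of an automorphism of pure type on the centre.** -/
theorem act_g {τ : Ty} {α : MulAut M} (h : datPSL.IsTau τ (b α)) (s : F4) :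
    α (E.ce.g s) = if τ.2.1 then (E.ce.g (gp τ s))⁻¹ else E.ce.g (gp τ s) := by
  have C := E.ce
  have e1 := E.pure h (show (0 : Fin 3) ≠ 2 by decide) (s * 1)
  have e2 := E.pure h (show (0 : Fin 3) ≠ 1 by decide) s
  have e3 := E.pure h (show (1 : Fin 3) ≠ 2 by decide) 1
  have e0 : E.ce.g s = (E.ce.x 0 2 (s * 1))⁻¹ * cm (E.ce.x 0 1 s) (E.ce.x 1 2 1) := rfl
  rw [e0, map_mul, map_inv, map_cm, e1, e2, e3]
  obtain ⟨r0, r1, r2⟩ := rv_vals
  unfold imgx gp
  split_ifs with hc
  · rw [r0, r1, r2, ← cm_inv, E.ce.cm_sum 0 2 1 (by decide) (by decide) (by decide), pu_sum,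
      E.ce.K_eq, mul_inv_rev, E.ce.x_inv 0 2 (by decide), E.ce.x_inv 0 2 (by decide),
      mul_comm (pu τ 1 2 1) (pu τ 0 1 s)]
    have hg := E.ce.g_cen (pu τ 1 2 1 * (pu τ 0 1 s * pu τ 0 1 s))
    set g := E.ce.g (pu τ 1 2 1 * (pu τ 0 1 s * pu τ 0 1 s)) with hg0
    set x := E.ce.x 0 2 (pu τ 0 1 s * pu τ 1 2 1) with hx
    have hx2 : x * x = 1 := E.ce.x_sq 0 2 (by decide) _
    calc x * (g⁻¹ * x) = g⁻¹ * ((g * x) * g⁻¹) * x := by group
      _ = g⁻¹ * ((x * g) * g⁻¹) * x := by rw [hg]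
      _ = g⁻¹ * (x * x) := by group
      _ = g⁻¹ := by rw [hx2, mul_one]
  · rw [E.ce.cm_sum 0 2 1 (by decide) (by decide) (by decide), pu_sum, E.ce.K_eq]
    group

end Ext

end Cfsg.Agent.UGT.Cov
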