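import Cfsg.Agent.StdL34.Cov
import Cfsg.Agent.StdL34.Facts

/-!
# UGT N1 (I34): the K-facts (k1), (k2) for `4₁.L₃(4)` and `4₂.L₃(4)` (helper281)

`A : StdL34.Cov L` (see `StdL34.exists_cov`), `A.ty = true` : type `4₁`, `A.ty = false` : type `4₂`; `t = x₀₂(1)`,
`S = C_L(t)` (order 128), `Y = x₀₂(F₄)`, `YS = ⟨s⟩ Y` (`Φ(S)`, order 16), `F = ⟨s²⟩ Y = Ω₁(YS)` (order 8),
`AF = C_S(F) = {a = b}` (order 64), `S' = {x₀₂(c) s^k : k ≡ Tr c}` (order 8, not `F`).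

* `mem_S`, `card_S`, `S_le_T`, `center_S`, `center_T`, `comm_mem_D`, `D_le_comm`, `sq_mem_YS`, `YS_le_sq`,
  `mem_F_iff`, `cent_F`, `card_AF`, `AF_comm`, `AF_four`, `AF_two`, `inv_S`, `fuse` : (k1)
* `normal_small`, `normal_card_two`, `normal_card_four` : (k2)
* `no_root` : the check of (5.4)
-/

set_option autoImplicit false

namespace Cfsg.Agent.UGT.Cov.FourK

open Cfsg.Agent.SporadicA.FieldFour Cfsg.Agent.StdL34
open scoped commutatorElement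

/-! ### Codes -/

/-- commutator of codes -/
def cc (ty : Bool) (p q : Code) : Code := cmul ty (cmul ty p q) (cmul ty (cinv ty p) (cinv ty q))

/-- the codes over the centre of the image -/
def yk (p : Code) : Prop := p.a = 0 ∧ p.b = 0

instance (p : Code) : Decidable (yk p) := by unfold yk; infer_instance

/-- the codes of `F` -/
def fk (p : Code) : Prop := p.a = 0 ∧ p.b = 0 ∧ (p.k = 0 ∨ p.k = 2)

instance (p : Code) : Decidable (fk p) := by unfold fk; infer_instance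

/-- the codes of `S'` -/
def dk (p : Code) : Prop := p.a = 0 ∧ p.b = 0 ∧ (trF p.c = true ↔ (p.k = 1 ∨ p.k = 3))

instance (p : Code) : Decidable (dk p) := by unfold dk; infer_instance

/-- the codes of `AF` -/
def ak (p : Code) : Prop := p.a = p.b

instance (p : Code) : Decidable (ak p) := by unfold ak; infer_instance

/-- the code of `t` -/
def ct : Code := ⟨0, 0, 1, 0⟩

theorem cc_nk (ty : Bool) (p q : Code) : cc ty p q = cc ty (nk p) (nk q) := by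
  obtain ⟨a, b, c, k⟩ := p
  obtain ⟨a', b', c', k'⟩ := q
  simp only [cc, cmul, cinv, nk, Code.mk.injEq, true_and]
  abel

theorem tr_add : ∀ a b : F4, trF a = false → trF b = false → trF (a + b) = false := by decide

theorem t0_mul (ty : Bool) (p q : Code) (hp : t0 p) (hq : t0 q) : t0 (cmul ty p q) := by
  unfold t0 at hp hq ⊢
  have := tr_add _ _ hp hq
  show trF (p.a + q.a + (p.b + q.b)) = false
  have e : p.a + q.a + (p.b + q.b) = p.a + p.b + (q.a + q.b) := by ring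
  rw [e]; exact this

theorem yk_inv (ty : Bool) (p : Code) (hp : yk p) : yk (cinv ty p) := hp

theorem ak_inv (ty : Bool) (p : Code) (hp : ak p) : ak (cinv ty p) := hp

theorem yk_mul (ty : Bool) (p q : Code) (hp : yk p) (hq : yk q) : yk (cmul ty p q) :=
  ⟨by show p.a + q.a = 0; rw [hp.1, hq.1]; rfl, by show p.b + q.b = 0; rw [hp.2, hq.2]; rfl⟩

theorem ak_mul (ty : Bool) (p q : Code) (hp : ak p) (hq : ak q) : ak (cmul ty p q) := by
  show p.a + q.a = p.b + q.b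
  rw [show p.a = p.b from hp, show q.a = q.b from hq]

theorem t0_inv (ty : Bool) (p : Code) (hp : t0 p) : t0 (cinv ty p) := hp

theorem comm_t : ∀ ty p, cmul ty p ct = cmul ty ct p ↔ t0 p := by decide +kernel

theorem comm_S : ∀ ty, ∀ p : Code, (∀ q ∈ T0, cmul ty p q = cmul ty q p) → p.a = 0 ∧ p.b = 0 ∧
    (p.c = 0 ∨ p.c = 1) := by decide +kernel

theorem comm_P : ∀ ty, ∀ p : Code, (∀ q ∈ (⟨0, F4.w, 0, 0⟩ :: T0), cmul ty p q = cmul ty q p) → p.a = 0 ∧ p.b = 0 ∧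
    p.c = 0 := by decide +kernel

theorem T0_t0 : ∀ q ∈ T0, t0 q := by decide +kernel

theorem cc_S : ∀ ty a b c a' b' c', trF (a + b) = false → trF (a' + b') = false →
    dk (cc ty ⟨a, b, c, 0⟩ ⟨a', b', c', 0⟩) := by decide +kernel

theorem sq_S : ∀ ty p, t0 p → yk (cmul ty p p) := by decide +kernel

theorem comm_F : ∀ ty p, (∀ c ∈ ([1, F4.w] : List F4), cmul ty p ⟨0, 0, c, 0⟩ = cmul ty ⟨0, 0, c, 0⟩ p) → ak p := by
  decide +kernel

theorem comm_F' : ∀ ty p c, ak p → cmul ty p ⟨0, 0, c, 0⟩ = cmul ty ⟨0, 0, c, 0⟩ p := by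
  decide +kernel

theorem inv_code : ∀ ty p, t0 p → cmul ty p p = cone →
    (p.a = 0 ∧ p.b = 0) ∨ (p.a = 1 ∧ p.b = 0) ∨ (p.a = 0 ∧ p.b = 1) := by
  decide +kernel

theorem inv_yk : ∀ ty p, yk p → (cmul ty p p = cone ↔ fk p) := by decide +kernel

theorem ak_comm : ∀ a c a' c', cmul true ⟨a, a, c, 0⟩ ⟨a', a', c', 0⟩ = cmul true ⟨a', a', c', 0⟩ ⟨a, a, c, 0⟩ := by
  decide +kernel

theorem ak_not_comm : cmul false ⟨1, 1, 0, 0⟩ ⟨F4.w, F4.w, 0, 0⟩ ≠ cmul false ⟨F4.w, F4.w, 0, 0⟩ ⟨1, 1, 0, 0⟩ := by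
  decide +kernel

theorem pow_four : ∀ ty p, t0 p → cmul ty (cmul ty p p) (cmul ty p p) = cone ∨
    cmul ty (cmul ty p p) (cmul ty p p) = ⟨0, 0, 0, 2⟩ := by decide +kernel

theorem ak_four : ∀ ty p, ak p → cmul ty (cmul ty p p) (cmul ty p p) = cone := by decide +kernel

theorem ak_two : ∀ ty p, ak p → cmul ty p p = cone → fk p := by decide +kernel

theorem z_comm : ∀ ty c k a b c' k', trF (a + b) = false → trF c = false →
    cmul ty ⟨0, 0, c, k⟩ ⟨a, b, c', k'⟩ = cmul ty ⟨a, b, c', k'⟩ ⟨0, 0, c, k⟩ := by decide +kernel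

theorem k2_code : ∀ ty p, t0 p → (∀ q ∈ T0, cc ty p q = cone ∨ cc ty p q = ct) →
    (p.a = 0 ∧ p.b = 0 ∧ (p.c = 0 ∨ p.c = 1)) ∨ (ty = true ∧ p.a = 1 ∧ p.b = 1) := by decide +kernel

/-- the check of (5.4) -/
theorem k54_code : ∀ ty p, t0 p → (∀ q ∈ T0, cc ty p q = cone ∨ cc ty p q = ct) →
    (cmul ty p p).k = 0 ∨ (cmul ty p p).k = 2 := by decide +kernel

/-! ### Subgroups given by codes -/

variable {L : Type*} [Group L] (A : StdL34.Cov L)

/-- the subgroup of the codes with a property -/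
def sub (Q : Code → Prop) (h1 : Q cone) (hm : ∀ p q, Q p → Q q → Q (cmul A.ty p q))
    (hi : ∀ p, Q p → Q (cinv A.ty p)) : Subgroup L where
  carrier := {l | ∃ p, Q p ∧ l = A.el p}
  one_mem' := ⟨cone, h1, A.el_one.symm⟩
  mul_mem' := by
    rintro _ _ ⟨p, hp, rfl⟩ ⟨q, hq, rfl⟩
    exact ⟨_, hm p q hp hq, A.el_mul p q⟩
  inv_mem' := by
    rintro _ ⟨p, hp, rfl⟩
    exact ⟨_, hi p hp, A.el_inv p⟩

theorem mem_sub {Q : Code → Prop} {h1 hm hi} {l : L} : l ∈ sub A Q h1 hm hi ↔ ∃ p, Q p ∧ l = A.el p := Iff.rfl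

theorem el_mem_sub {Q : Code → Prop} {h1 hm hi} {p : Code} : A.el p ∈ sub A Q h1 hm hi ↔ Q p := by
  constructor
  · rintro ⟨q, hq, h⟩
    rwa [A.inj h]
  · exact fun h => ⟨p, h, rfl⟩

/-- `Code` as a product -/
def codeProd : Code ≃ F4 × F4 × F4 × Fin 4 where
  toFun p := (p.a, p.b, p.c, p.k)
  invFun t := ⟨t.1, t.2.1, t.2.2.1, t.2.2.2⟩
  left_inv _ := rfl
  right_inv _ := rfl

instance : Fintype Code := Fintype.ofEquiv _ codeProd.symm

theorem card_sub {Q : Code → Prop} [DecidablePred Q] {h1 hm hi} :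
    Nat.card (sub A Q h1 hm hi) = ((Finset.univ : Finset Code).filter Q).card := by
  rw [← Fintype.card_subtype, ← Nat.card_eq_fintype_card]
  symm
  apply Nat.card_congr
  refine Equiv.ofBijective (fun p : {p // Q p} => ⟨A.el p, ⟨p, p.2, rfl⟩⟩) ⟨?_, ?_⟩
  · intro p q h
    exact Subtype.ext (A.inj (congrArg Subtype.val h))
  · rintro ⟨_, p, hp, rfl⟩
    exact ⟨⟨p, hp⟩, rfl⟩

/-- `t = x₀₂(1)` -/
def t : L := A.x 0 2 1

theorem t_eq : t A = A.el ct := (A.el_x02 1).symm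

/-- `S = C_L(t)` -/
def S : Subgroup L := sub A t0 (by decide) (t0_mul A.ty) (t0_inv A.ty)

/-- `Φ(S) = ⟨s⟩ Y` -/
def YS : Subgroup L := sub A yk (by decide) (yk_mul A.ty) (yk_inv A.ty)

theorem fk_mul : ∀ ty c k c' k', fk ⟨0, 0, c, k⟩ → fk ⟨0, 0, c', k'⟩ →
    fk (cmul ty ⟨0, 0, c, k⟩ ⟨0, 0, c', k'⟩) := by decide +kernel

theorem fk_inv : ∀ ty c k, fk ⟨0, 0, c, k⟩ → fk (cinv ty ⟨0, 0, c, k⟩) := by decide +kernel

theorem dk_mul : ∀ ty c k c' k', dk ⟨0, 0, c, k⟩ → dk ⟨0, 0, c', k'⟩ →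
    dk (cmul ty ⟨0, 0, c, k⟩ ⟨0, 0, c', k'⟩) := by decide +kernel

theorem dk_inv : ∀ ty c k, dk ⟨0, 0, c, k⟩ → dk (cinv ty ⟨0, 0, c, k⟩) := by decide +kernel

/-- `F = ⟨s²⟩ Y` -/
def F : Subgroup L := sub A fk (by decide)
  (by
    rintro ⟨a, b, c, k⟩ ⟨a', b', c', k'⟩ hp hq
    obtain ⟨rfl, rfl, -⟩ := id hp
    obtain ⟨rfl, rfl, -⟩ := id hq
    exact fk_mul _ _ _ _ _ hp hq)
  (by
    rintro ⟨a, b, c, k⟩ hp
    obtain ⟨rfl, rfl, -⟩ := id hp
    exact fk_inv _ _ _ hp)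

/-- `S'` -/
def D : Subgroup L := sub A dk (by decide)
  (by
    rintro ⟨a, b, c, k⟩ ⟨a', b', c', k'⟩ hp hq
    obtain ⟨rfl, rfl, -⟩ := id hp
    obtain ⟨rfl, rfl, -⟩ := id hq
    exact dk_mul _ _ _ _ _ hp hq)
  (by
    rintro ⟨a, b, c, k⟩ hp
    obtain ⟨rfl, rfl, -⟩ := id hp
    exact dk_inv _ _ _ hp)

/-- `C_S(F) = {a = b}` -/
def AF : Subgroup L := sub A ak (by decide) (ak_mul A.ty) (ak_inv A.ty)

theorem S_le_T : S A ≤ A.T := by
  rintro _ ⟨p, -, rfl⟩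
  exact A.el_mem p

theorem el_mem_S {p : Code} : A.el p ∈ S A ↔ t0 p := el_mem_sub A

theorem mem_S {l : L} : l ∈ S A ↔ l * t A = t A * l := by
  constructor
  · rintro ⟨p, hp, rfl⟩
    rw [t_eq, A.el_mul, A.el_mul, (comm_t A.ty p).2 hp]
  · intro h
    obtain ⟨p, rfl⟩ := A.cent l h
    change A.el p * t A = t A * A.el p at h
    show A.el p ∈ S A
    rw [t_eq, A.el_mul, A.el_mul] at h
    exact (el_mem_S A).2 ((comm_t A.ty p).1 (A.inj h))

theorem card_S : Nat.card (S A) = 128 := by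
  rw [S, card_sub]; decide +kernel

theorem card_YS : Nat.card (YS A) = 16 := by
  rw [YS, card_sub]; decide +kernel

theorem card_F : Nat.card (F A) = 8 := by
  rw [F, card_sub]; decide +kernel

theorem card_D : Nat.card (D A) = 8 := by
  rw [D, card_sub]; decide +kernel

theorem card_AF : Nat.card (AF A) = 64 := by
  rw [AF, card_sub]; decide +kernel

theorem t_mem_S : t A ∈ S A := (mem_S A).2 rfl

theorem sp_mem_S (k : Fin 4) : A.sp k ∈ S A := (mem_S A).2 (A.sp_cen k _)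

theorem t_sq : t A * t A = 1 := A.x_sq 0 2 (by decide) 1

theorem t_ne : t A ≠ 1 := by
  rw [t_eq, ← A.el_one]
  intro h
  exact absurd (A.inj h) (by decide)

omit [Group L] in
/-- at most two elements -/
theorem ncard_pair (x y : L) : Set.ncard ({x, y} : Set L) ≤ 2 := by
  have := Set.ncard_insert_le x ({y} : Set L)
  rw [Set.ncard_singleton] at this
  exact this

/-- `Z(S) = ⟨t⟩ × ⟨s⟩` -/
theorem center_S {l : L} (hl : l ∈ S A) (h : ∀ y ∈ S A, l * y = y * l) : ∃ k, l = A.sp k ∨ l = t A * A.sp k := by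
  obtain ⟨p, hp, rfl⟩ := hl
  have h1 : ∀ q ∈ T0, cmul A.ty p q = cmul A.ty q p := by
    intro q hq
    have := h (A.el q) ((el_mem_S A).2 (T0_t0 q hq))
    rw [A.el_mul, A.el_mul] at this
    exact A.inj this
  obtain ⟨ha, hb, hc⟩ := comm_S A.ty p h1
  obtain ⟨a, b, c, k⟩ := p
  simp only at ha hb hc
  subst ha hb
  refine ⟨k, ?_⟩
  rcases hc with rfl | rfl
  · left; exact A.el_sp k
  · right
    rw [t_eq, ← A.el_sp, A.el_mul]
    congr 1
    clear * -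
    generalize A.ty = ty
    revert ty k; decide +kernel

/-- the centre of the Sylow 2-subgroup -/
theorem center_T {l : L} (hl : l ∈ A.T) (h : ∀ y ∈ A.T, l * y = y * l) : ∃ k, l = A.sp k := by
  obtain ⟨p, rfl⟩ := hl
  have h1 : ∀ q ∈ (⟨0, F4.w, 0, 0⟩ :: T0 : List Code), cmul A.ty p q = cmul A.ty q p := by
    intro q hq
    have := h (A.el q) (A.el_mem q)
    rw [A.el_mul, A.el_mul] at this
    exact A.inj this
  obtain ⟨ha, hb, hc⟩ := comm_P A.ty p h1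
  obtain ⟨a, b, c, k⟩ := p
  simp only at ha hb hc
  subst ha hb hc
  exact ⟨k, A.el_sp k⟩

theorem el_cc (p q : Code) : ⁅A.el p, A.el q⁆ = A.el (cc A.ty p q) := by
  rw [commutatorElement_def, A.el_inv, A.el_inv, mul_assoc (A.el p * A.el q), A.el_mul, A.el_mul, A.el_mul]
  rfl

/-- commutators of `S` -/
theorem comm_mem_D {x y : L} (hx : x ∈ S A) (hy : y ∈ S A) : ⁅x, y⁆ ∈ D A := by
  obtain ⟨p, hp, rfl⟩ := hx
  obtain ⟨q, hq, rfl⟩ := hy
  rw [el_cc, cc_nk]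
  exact (el_mem_sub A).2 (cc_S A.ty _ _ _ _ _ _ hp hq)

theorem D_gen : ∀ ty, ∀ p : Code, dk p → ∃ i j k : Bool, p =
    cmul ty (cmul ty (if i then cc ty ⟨0, 0, F4.w, 0⟩ ⟨1, 0, 0, 0⟩ else cone)
      (if j then cc ty ⟨1, 0, 0, 0⟩ ⟨0, 1, 0, 0⟩ else cone))
      (if k then cc ty ⟨1, 0, 0, 0⟩ ⟨F4.w, F4.w, 0, 0⟩ else cone) := by decide +kernel

/-- `S' = D` -/
theorem D_le_comm : D A ≤ ⁅S A, S A⁆ := by
  rintro _ ⟨p, hp, rfl⟩
  obtain ⟨i, j, k, hk⟩ := D_gen A.ty p hp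
  have m0 : A.el cone ∈ ⁅S A, S A⁆ := by rw [A.el_one]; exact one_mem _
  have mc : ∀ p q, t0 p → t0 q → A.el (cc A.ty p q) ∈ ⁅S A, S A⁆ := by
    intro p q hp hq
    rw [← el_cc]
    exact Subgroup.commutator_mem_commutator ((el_mem_S A).2 hp) ((el_mem_S A).2 hq)
  rw [hk, ← A.el_mul, ← A.el_mul]
  refine mul_mem (mul_mem ?_ ?_) ?_
  · cases i
    · exact m0
    · exact mc _ _ (by decide) (by decide)
  · cases j
    · exact m0
    · exact mc _ _ (by decide) (by decide)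
  · cases k
    · exact m0
    · exact mc _ _ (by decide) (by decide)

theorem comm_eq_D : ⁅S A, S A⁆ = D A :=
  le_antisymm (Subgroup.commutator_le.2 fun _ hx _ hy => comm_mem_D A hx hy) (D_le_comm A)

theorem t_mem_D : t A ∈ D A := by rw [t_eq]; exact (el_mem_sub A).2 (by decide)

theorem z_mem_D : A.z ∈ D A := by rw [A.z_eq, ← A.el_sp]; exact (el_mem_sub A).2 (by decide)

theorem D_le_YS : D A ≤ YS A := by
  rintro _ ⟨p, ⟨h1, h2, -⟩, rfl⟩
  exact ⟨p, ⟨h1, h2⟩, rfl⟩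

theorem F_le_YS : F A ≤ YS A := by
  rintro _ ⟨p, ⟨h1, h2, -⟩, rfl⟩
  exact ⟨p, ⟨h1, h2⟩, rfl⟩

theorem YS_le_S : YS A ≤ S A := by
  rintro _ ⟨p, ⟨h1, h2⟩, rfl⟩
  rw [el_mem_S]
  unfold t0
  rw [h1, h2]; rfl

theorem YS_le_AF : YS A ≤ AF A := by
  rintro _ ⟨p, ⟨h1, h2⟩, rfl⟩
  exact ⟨p, by show p.a = p.b; rw [h1, h2], rfl⟩

theorem AF_le_S : AF A ≤ S A := by
  rintro _ ⟨p, h, rfl⟩
  rw [el_mem_S]
  unfold t0
  rw [show p.a = p.b from h]
  have : ∀ b : F4, trF (b + b) = false := by decide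
  exact this _

/-- squares of elements of `S` -/
theorem sq_mem_YS {x : L} (hx : x ∈ S A) : x * x ∈ YS A := by
  obtain ⟨p, hp, rfl⟩ := hx
  rw [A.el_mul]
  exact (el_mem_sub A).2 (sq_S A.ty p hp)

/-- some codes -/
def QL : List Code := [⟨0, 0, 0, 0⟩, ⟨0, 0, 0, 1⟩, ⟨1, 1, 0, 0⟩, ⟨1, 1, 0, 1⟩, ⟨F4.w, F4.w, 0, 0⟩,
  ⟨F4.w, F4.w, 0, 1⟩, ⟨F4.v, F4.v, 0, 0⟩, ⟨F4.v, F4.v, 0, 1⟩, ⟨F4.w, F4.v, 0, 0⟩, ⟨F4.w, F4.v, 0, 1⟩]

theorem QL_t0 : ∀ q ∈ QL, t0 q := by decide +kernel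

theorem YS_gen : ∀ ty c k, ∃ q ∈ QL, ∃ r ∈ QL,
    (⟨0, 0, c, k⟩ : Code) = cmul ty (cmul ty q q) (cmul ty r r) := by decide +kernel

/-- every element of `YS` is a product of two squares of elements of `S` -/
theorem YS_sq {x : L} (hx : x ∈ YS A) : ∃ y ∈ S A, ∃ w ∈ S A, x = y * y * (w * w) := by
  obtain ⟨⟨a, b, c, k⟩, ⟨h1, h2⟩, rfl⟩ := hx
  simp only at h1 h2
  subst h1 h2
  obtain ⟨q, hq, r, hr, h⟩ := YS_gen A.ty c k
  refine ⟨A.el q, (el_mem_S A).2 (QL_t0 q hq), A.el r, (el_mem_S A).2 (QL_t0 r hr), ?_⟩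
  rw [A.el_mul, A.el_mul, A.el_mul, ← h]

/-- `Φ(S) = YS` -/
theorem closure_sq : Subgroup.closure {x | ∃ y ∈ S A, x = y * y} = YS A := by
  apply le_antisymm
  · rw [Subgroup.closure_le]
    rintro _ ⟨y, hy, rfl⟩
    exact sq_mem_YS A hy
  · intro x hx
    obtain ⟨y, hy, w, hw, rfl⟩ := YS_sq A hx
    exact mul_mem (Subgroup.subset_closure ⟨y, hy, rfl⟩) (Subgroup.subset_closure ⟨w, hw, rfl⟩)

theorem s_mem_YS : A.s ∈ YS A := by
  rw [← A.sp_one, ← A.el_sp]; exact (el_mem_sub A).2 (by decide)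

theorem x02_mem_F (c : F4) : A.x 0 2 c ∈ F A := by
  rw [← A.el_x02]; exact (el_mem_sub A).2 (by revert c; decide)

theorem z_mem_F : A.z ∈ F A := by rw [A.z_eq, ← A.el_sp]; exact (el_mem_sub A).2 (by decide)

/-- `F = Ω₁(YS)` -/
theorem mem_F_iff {x : L} : x ∈ F A ↔ x ∈ YS A ∧ x * x = 1 := by
  constructor
  · intro hx
    refine ⟨F_le_YS A hx, ?_⟩
    obtain ⟨p, hp, rfl⟩ := hx
    rw [A.el_mul, (inv_yk A.ty p ⟨hp.1, hp.2.1⟩).2 hp, A.el_one]
  · rintro ⟨⟨p, hp, rfl⟩, h⟩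
    rw [A.el_mul, ← A.el_one] at h
    exact ⟨p, (inv_yk A.ty p hp).1 (A.inj h), rfl⟩

/-- `C_S(F) = AF` (even `C_T(Y) = AF`) -/
theorem cent_F {x : L} : x ∈ AF A ↔ x ∈ A.T ∧ ∀ y ∈ F A, x * y = y * x := by
  constructor
  · rintro ⟨p, hp, rfl⟩
    refine ⟨A.el_mem p, ?_⟩
    rintro _ ⟨⟨a, b, c, k⟩, ⟨h1, h2, -⟩, rfl⟩
    simp only at h1 h2
    subst h1 h2
    have e : A.el ⟨0, 0, c, k⟩ = A.el ⟨0, 0, c, 0⟩ * A.sp k := by
      rw [← A.el_sp, A.el_mul]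
      congr 1
      clear * -
      generalize A.ty = ty
      revert ty c k; decide +kernel
    have e2 := comm_F' A.ty p c hp
    rw [e]
    calc A.el p * (A.el ⟨0, 0, c, 0⟩ * A.sp k) = (A.el p * A.el ⟨0, 0, c, 0⟩) * A.sp k := by group
      _ = (A.el ⟨0, 0, c, 0⟩ * A.el p) * A.sp k := by rw [A.el_mul, A.el_mul, e2]
      _ = A.el ⟨0, 0, c, 0⟩ * (A.sp k * A.el p) := by rw [A.sp_cen]; group
      _ = _ := by group
  · rintro ⟨⟨p, rfl⟩, h⟩
    refine ⟨p, comm_F A.ty p ?_, rfl⟩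
    intro c _
    have := h (A.el ⟨0, 0, c, 0⟩) (by rw [A.el_x02]; exact x02_mem_F A c)
    rw [A.el_mul, A.el_mul] at this
    exact A.inj this

/-- `4₁` : `AF` is abelian -/
theorem AF_comm (h : A.ty = true) {x y : L} (hx : x ∈ AF A) (hy : y ∈ AF A) : x * y = y * x := by
  obtain ⟨⟨a, b, c, k⟩, hp, rfl⟩ := hx
  obtain ⟨⟨a', b', c', k'⟩, hq, rfl⟩ := hy
  obtain rfl : a = b := hp
  obtain rfl : a' = b' := hq
  have e : ∀ a c k, A.el ⟨a, a, c, k⟩ = A.el ⟨a, a, c, 0⟩ * A.sp k := by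
    intro a c k
    rw [← A.el_sp, A.el_mul]
    congr 1
    clear * -
    generalize A.ty = ty
    revert ty a c k; decide +kernel
  have h1 := ak_comm a c a' c'
  have h2 : A.el ⟨a, a, c, 0⟩ * A.el ⟨a', a', c', 0⟩ = A.el ⟨a', a', c', 0⟩ * A.el ⟨a, a, c, 0⟩ := by
    rw [A.el_mul, A.el_mul, h, h1]
  rw [e, e a']
  calc A.el ⟨a, a, c, 0⟩ * A.sp k * (A.el ⟨a', a', c', 0⟩ * A.sp k')
      = A.el ⟨a, a, c, 0⟩ * (A.sp k * A.el ⟨a', a', c', 0⟩) * A.sp k' := by group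
    _ = (A.el ⟨a, a, c, 0⟩ * A.el ⟨a', a', c', 0⟩) * (A.sp k * A.sp k') := by rw [A.sp_cen]; group
    _ = (A.el ⟨a', a', c', 0⟩ * A.el ⟨a, a, c, 0⟩) * (A.sp k' * A.sp k) := by rw [h2, A.sp_cen k]
    _ = A.el ⟨a', a', c', 0⟩ * (A.el ⟨a, a, c, 0⟩ * A.sp k') * A.sp k := by group
    _ = _ := by rw [← A.sp_cen k' (A.el ⟨a, a, c, 0⟩)]; group

theorem AF_four {x : L} (hx : x ∈ AF A) : x * x * (x * x) = 1 := by
  obtain ⟨p, hp, rfl⟩ := hx
  rw [A.el_mul, A.el_mul, ak_four A.ty p hp, A.el_one]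

theorem AF_two {x : L} (hx : x ∈ AF A) (h : x * x = 1) : x ∈ F A := by
  obtain ⟨p, hp, rfl⟩ := hx
  rw [A.el_mul, ← A.el_one] at h
  exact ⟨p, ak_two A.ty p hp (A.inj h), rfl⟩

/-- the involutions of `S` -/
theorem inv_S {x : L} (hx : x ∈ S A) (h : x * x = 1) : x ∈ F A ∨ (∃ c k, x = A.el ⟨1, 0, c, k⟩) ∨
    ∃ c k, x = A.el ⟨0, 1, c, k⟩ := by
  obtain ⟨⟨a, b, c, k⟩, hp, rfl⟩ := hx
  have h' := h
  rw [A.el_mul, ← A.el_one] at h
  rcases inv_code A.ty _ hp (A.inj h) with ⟨h1, h2⟩ | ⟨h1, h2⟩ | ⟨h1, h2⟩ <;> simp only at h1 h2 <;> subst h1 h2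
  · left
    exact (mem_F_iff A).2 ⟨(el_mem_sub A).2 ⟨rfl, rfl⟩, h'⟩
  · exact Or.inr (Or.inl ⟨c, k, rfl⟩)
  · exact Or.inr (Or.inr ⟨c, k, rfl⟩)

/-- `[x₀₁(1), x₀₂(ω)] = z` -/
theorem fuse : A.x 0 1 1 * A.x 0 2 F4.w = A.x 0 2 F4.w * A.x 0 1 1 * A.z := by
  rw [A.z_eq, ← A.el_x01, ← A.el_x02, ← A.el_sp, A.el_mul, A.el_mul, A.el_mul]
  congr 1
  generalize A.ty = ty
  revert ty; decide +kernel

/-! ### (k2) -/

/-- the elements of a normal subgroup `N` of `S` with `N ∩ Z(S) ≤ ⟨t⟩` -/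
theorem normal_small {N : Subgroup L} (hN : N ≤ S A) (hn : ∀ n ∈ N, ∀ y ∈ S A, y * n * y⁻¹ ∈ N)
    (hz : ∀ n ∈ N, (∀ y ∈ S A, n * y = y * n) → n = 1 ∨ n = t A) {n : L} (h : n ∈ N) :
    n = 1 ∨ n = t A ∨ (A.ty = true ∧ n * n = t A ∧ ∃ c k, n = A.el ⟨1, 1, c, k⟩) := by
  -- elements of `N` over the centre
  have key : ∀ c k, A.el ⟨0, 0, c, k⟩ ∈ N → A.el ⟨0, 0, c, k⟩ = 1 ∨ A.el ⟨0, 0, c, k⟩ = t A := by
    intro c k hck
    by_cases hc : trF c = false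
    · apply hz _ hck
      rintro _ ⟨q, hq, rfl⟩
      rw [A.el_mul, A.el_mul]
      congr 1
      obtain ⟨a, b, c', k'⟩ := q
      exact z_comm _ _ _ _ _ _ _ hq hc
    · exfalso
      have hc' : trF c = true := by simpa using hc
      -- the commutator with `x₀₁(1)` is `z`
      have h1 := hn _ hck (A.el ⟨1, 0, 0, 0⟩) ((el_mem_S A).2 (by decide))
      have h2 := mul_mem h1 (inv_mem hck)
      have h3 : A.el ⟨1, 0, 0, 0⟩ * A.el ⟨0, 0, c, k⟩ * (A.el ⟨1, 0, 0, 0⟩)⁻¹ * (A.el ⟨0, 0, c, k⟩)⁻¹ = A.sp 2 := by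
        have := el_cc A ⟨1, 0, 0, 0⟩ ⟨0, 0, c, k⟩
        rw [commutatorElement_def] at this
        rw [this, ← A.el_sp]
        congr 1
        clear * - hc'
        generalize A.ty = ty
        revert ty c k; decide +kernel
      rw [h3] at h2
      have h4 := hz _ h2 (fun y _ => A.sp_cen 2 y)
      rw [← A.el_sp] at h4
      rcases h4 with h4 | h4
      · rw [← A.el_one] at h4
        exact absurd (A.inj h4) (by decide)
      · rw [t_eq] at h4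
        exact absurd (A.inj h4) (by decide)
  obtain ⟨p, hp, rfl⟩ := hN h
  -- commutators
  have hcm : ∀ q, t0 q → cc A.ty p q = cone ∨ cc A.ty p q = ct := by
    intro q hq
    have h1 := hn _ (inv_mem h) (A.el q) ((el_mem_S A).2 hq)
    have h2 := mul_mem h h1
    have h3 : A.el p * (A.el q * (A.el p)⁻¹ * (A.el q)⁻¹) = A.el (cc A.ty p q) := by
      rw [← el_cc, commutatorElement_def]; group
    rw [h3] at h2
    have h4 : dk (cc A.ty p q) := by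
      rw [cc_nk]
      exact cc_S A.ty _ _ _ _ _ _ hp hq
    rcases hr : cc A.ty p q with ⟨a, b, c, k⟩
    rw [hr] at h2 h4
    obtain ⟨ha, hb, -⟩ := h4
    simp only at ha hb
    subst ha hb
    rcases key c k h2 with h5 | h5
    · left; exact A.inj (h5.trans A.el_one.symm)
    · right; exact A.inj (h5.trans (t_eq A))
  rcases k2_code A.ty p hp (fun q hq => hcm q (T0_t0 q hq)) with ⟨ha, hb, -⟩ | ⟨hty, ha, hb⟩
  · obtain ⟨a, b, c, k⟩ := p
    simp only at ha hb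
    subst ha hb
    rcases key c k h with h5 | h5
    · exact Or.inl h5
    · exact Or.inr (Or.inl h5)
  · right; right
    refine ⟨hty, ?_, ?_⟩
    · have h1 := mul_mem h h
      rw [A.el_mul] at h1 ⊢
      have h2 : ∀ ty p, p.a = 1 → p.b = 1 → (cmul ty p p).a = 0 ∧ (cmul ty p p).b = 0 ∧ (cmul ty p p).c = 1 := by
        decide +kernel
      obtain ⟨e1, e2, e3⟩ := h2 A.ty p ha hb
      rcases hr : cmul A.ty p p with ⟨a, b, c, k⟩
      rw [hr] at e1 e2 e3 h1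
      simp only at e1 e2 e3
      subst e1 e2 e3
      rcases key 1 k h1 with h5 | h5
      · exfalso
        rw [← A.el_one] at h5
        have := A.inj h5
        rw [cone, Code.mk.injEq] at this
        exact absurd this.2.2.1 (by decide)
      · exact h5
    · obtain ⟨a, b, c, k⟩ := p
      simp only at ha hb
      subst ha hb
      exact ⟨c, k, rfl⟩

/-- (k2), type `4₂` : `|N| ≤ 2` -/
theorem normal_card_two (hty : A.ty = false) {N : Subgroup L} (hN : N ≤ S A)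
    (hn : ∀ n ∈ N, ∀ y ∈ S A, y * n * y⁻¹ ∈ N)
    (hz : ∀ n ∈ N, (∀ y ∈ S A, n * y = y * n) → n = 1 ∨ n = t A) : Nat.card N ≤ 2 := by
  have h1 : (N : Set L) ⊆ ({1, t A} : Set L) := by
    intro n h
    rcases normal_small A hN hn hz h with h1 | h1 | h1
    · exact Or.inl h1
    · exact Or.inr h1
    · rw [hty] at h1; exact absurd h1.1 (by decide)
  calc Nat.card N = Set.ncard (N : Set L) := Nat.card_coe_set_eq _
    _ ≤ Set.ncard ({1, t A} : Set L) := Set.ncard_le_ncard h1 (Set.toFinite _)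
    _ ≤ 2 := ncard_pair _ _

/-- (k2) : `|N| ≤ 4` -/
theorem normal_card_four {N : Subgroup L} (hN : N ≤ S A)
    (hn : ∀ n ∈ N, ∀ y ∈ S A, y * n * y⁻¹ ∈ N)
    (hz : ∀ n ∈ N, (∀ y ∈ S A, n * y = y * n) → n = 1 ∨ n = t A) : Nat.card N ≤ 4 := by
  by_cases hex : ∃ n ∈ N, n ≠ 1 ∧ n ≠ t A
  · obtain ⟨n, hnN, hn1, hnt⟩ := hex
    obtain ⟨-, hsq, c, k, hck⟩ := ((normal_small A hN hn hz hnN).resolve_left hn1).resolve_left hnt
    have h1 : (N : Set L) ⊆ ({1, t A, n, n * t A} : Set L) := by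
      intro m hm
      rcases normal_small A hN hn hz hm with h1 | h1 | ⟨-, -, c', k', h1⟩
      · exact Or.inl h1
      · exact Or.inr (Or.inl h1)
      · -- `n⁻¹ m` is over the centre
        have h2 := mul_mem (inv_mem hnN) hm
        have h3 : ∀ ty c k c' k', (cmul ty (cinv ty ⟨1, 1, c, k⟩) ⟨1, 1, c', k'⟩).a = 0 := by decide +kernel
        rcases normal_small A hN hn hz h2 with h4 | h4 | ⟨-, -, c'', k'', h4⟩
        · right; right; left
          exact (inv_mul_eq_one.1 h4).symm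
        · right; right; right
          exact inv_mul_eq_iff_eq_mul.1 h4
        · exfalso
          rw [h1, hck, A.el_inv, A.el_mul] at h4
          have h5 := A.inj h4
          have h6 := h3 A.ty c k c' k'
          rw [h5] at h6
          exact absurd (show (1 : F4) = 0 from h6) (by decide)
    calc Nat.card N = Set.ncard (N : Set L) := Nat.card_coe_set_eq _
      _ ≤ Set.ncard ({1, t A, n, n * t A} : Set L) := Set.ncard_le_ncard h1 (Set.toFinite _)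
      _ ≤ 4 := by
        refine (Set.ncard_insert_le _ _).trans ?_
        refine (Nat.add_le_add_right (Set.ncard_insert_le _ _) 1).trans ?_
        have := ncard_pair n (n * t A)
        omega
  · push Not at hex
    have h1 : (N : Set L) ⊆ ({1, t A} : Set L) := by
      intro n h
      by_cases h1 : n = 1
      · exact Or.inl h1
      · exact Or.inr (hex n h h1)
    calc Nat.card N = Set.ncard (N : Set L) := Nat.card_coe_set_eq _
      _ ≤ Set.ncard ({1, t A} : Set L) := Set.ncard_le_ncard h1 (Set.toFinite _)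
      _ ≤ 2 := ncard_pair _ _
      _ ≤ 4 := by norm_num

/-- the check of (5.4): no `x ∈ S` with `[x, S] ≤ ⟨t⟩` and `x² ∈ s^{±1} ⟨t⟩` -/
theorem no_root {x : L} (hx : x ∈ S A) (h : ∀ y ∈ S A, ⁅x, y⁆ = 1 ∨ ⁅x, y⁆ = t A) :
    x * x ≠ A.s ∧ x * x ≠ A.s⁻¹ ∧ x * x ≠ A.s * t A ∧ x * x ≠ A.s⁻¹ * t A := by
  obtain ⟨p, hp, rfl⟩ := hx
  have h1 : ∀ q ∈ T0, cc A.ty p q = cone ∨ cc A.ty p q = ct := by
    intro q hq
    have := h (A.el q) ((el_mem_S A).2 (T0_t0 q hq))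
    rw [el_cc, t_eq, ← A.el_one] at this
    exact this.imp A.inj A.inj
  have h2 := k54_code A.ty p hp h1
  have e1 : A.s = A.el ⟨0, 0, 0, 1⟩ := by rw [A.el_sp, A.sp_one]
  have e2 : A.s⁻¹ = A.el ⟨0, 0, 0, 3⟩ := by
    rw [A.el_sp, ← A.sp_one, A.sp_neg]; rfl
  have key : ∀ q : Code, q.k = 1 ∨ q.k = 3 → A.el p * A.el p ≠ A.el q := by
    intro q hq he
    rw [A.el_mul] at he
    rw [A.inj he] at h2
    rcases h2 with h3 | h3 <;> rcases hq with h4 | h4 <;> rw [h3] at h4 <;> exact absurd h4 (by decide)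
  refine ⟨?_, ?_, ?_, ?_⟩
  · rw [e1]; exact key _ (by decide)
  · rw [e2]; exact key _ (by decide)
  · rw [e1, t_eq, A.el_mul ⟨0, 0, 0, 1⟩ ct]
    apply key
    generalize A.ty = ty
    revert ty; decide +kernel
  · rw [e2, t_eq, A.el_mul ⟨0, 0, 0, 3⟩ ct]
    apply key
    generalize A.ty = ty
    revert ty; decide +kernel

end Cfsg.Agent.UGT.Cov.FourK
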