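import Cfsg.Agent.UGT.Cov.Ext

/-!
# GAMMA, 2-local version, for the covers of `PSL(3,4)` with centre `4 × 2` or `4 × 4`

`gamma2`: no four-group `W` of automorphisms of `K` such that for each involution `v ∈ W` and each `W`-invariant
2-subgroup `S` of `C_K(v)` the semidirect product `S W` has `W` as a normal subgroup (modulo the identification of `K`
with `Inn(K)`).
-/

set_option autoImplicit false
set_option linter.constructorNameAsVariable false
set_option linter.unusedSectionVars false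
set_option linter.unusedVariables false

namespace Cfsg.Agent.UGT.Cov

open Subgroup
open Cfsg.Agent.SporadicA.FieldFour
open Cfsg.Agent.ONType.Psl
open Cfsg.Agent.ONType.Comm (cm)
open Cfsg.Agent.LThreeFour
open Cfsg.Agent.StdLThreeFour.Base (e e_mul e_zero e_inv e_02 e_01 e_12)
open Cfsg.Agent.OddHalf.D9.L34Mult

variable {M : Type*} [Group M] {π : M →* PSL3} {b : MulAut M →* MulAut PSL3}

/-- fixed points of an automorphism -/
def fixS (v : MulAut M) : Subgroup M where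
  carrier := {m | v m = m}
  mul_mem' := by
    intro x y hx hy
    show v (x * y) = x * y
    rw [map_mul, show v x = x from hx, show v y = y from hy]
  one_mem' := map_one v
  inv_mem' := by
    intro x hx
    show v x⁻¹ = x⁻¹
    rw [map_inv, show v x = x from hx]

theorem mem_fixS {v : MulAut M} {m : M} : m ∈ fixS v ↔ v m = m := Iff.rfl

/-! ### action on the centre -/

/-- a type which is an involution: `c`, or `s₀` fixed and `ω s₀ ↔ ω² s₀` -/
theorem gp_cases : ∀ τ : Ty, τ ≠ ty1 → τ.mul τ = ty1 →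
    (τ.2.1 = true ∧ ∀ s, gp τ s = s) ∨
    ∃ s0 : F4, s0 ≠ 0 ∧ gp τ s0 = s0 ∧ gp τ (ω * s0) = ω2 * s0 ∧ gp τ (ω2 * s0) = ω * s0 := by
  decide +kernel

theorem all_of_s0 : ∀ s0 s : F4, s0 ≠ 0 → s = 0 ∨ s = s0 ∨ s = ω * s0 ∨ s = ω2 * s0 := by decide

theorem aux1 : ∀ s0 : F4, ω * s0 + ω2 * s0 = s0 := by decide
theorem aux2 : ∀ s0 : F4, ω * s0 * (ω2 * s0) = s0 * s0 := by decide
theorem aux3 : ∀ s0 : F4, ω * s0 * (ω * s0) + s0 * s0 = ω2 * s0 * (ω2 * s0) := by decide

namespace Ext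

variable (E : Ext π b)
include E

/-- an automorphism is of pure type after conjugation by an inner automorphism, or inner -/
theorem exists_pure {α : MulAut M} (h2 : α * α = 1) (ho : datPSL.tyHom (b α) ≠ 1) :
    ∃ (k : M) (τ : Ty), τ ≠ ty1 ∧ τ.mul τ = ty1 ∧
      datPSL.IsTau τ (b (MulAut.conj k * α * (MulAut.conj k)⁻¹)) := by
  have hne : b α ≠ 1 := fun h1 => ho (by rw [h1, map_one])
  have hsq : b α * b α = 1 := by rw [← map_mul, h2, map_one]
  obtain ⟨l, hl⟩ := datPSL.inv_class (b α) hne hsq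
  obtain ⟨k, rfl⟩ := E.ce.surj l
  rcases hl with ⟨τ, hτ, hl⟩ | hl
  · refine ⟨k, τ, hτ, ?_, ?_⟩
    · have h3 := hl.hasTy.mul hl.hasTy
      have h4 : MulAut.conj (π k) * b α * (MulAut.conj (π k))⁻¹ *
          (MulAut.conj (π k) * b α * (MulAut.conj (π k))⁻¹) = 1 := by
        calc _ = MulAut.conj (π k) * (b α * b α) * (MulAut.conj (π k))⁻¹ := by group
          _ = 1 := by rw [hsq]; group
      rw [h4] at h3
      exact h3.unique datPSL.hasTy_one
    · rw [map_mul, map_mul, map_inv, CE.bar_conj E.ce b E.bar]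
      exact hl
  · exfalso
    apply ho
    rw [datPSL.inner_iff]
    refine ⟨(π k)⁻¹ * datPSL.x 0 2 1 * π k, ?_⟩
    rw [map_mul, map_mul, map_inv, ← hl]
    group

/-- conjugation by inner automorphisms does not change the action on the centre -/
theorem conj_act (α : MulAut M) (k : M) {z : M} (hz : π z = 1) :
    (MulAut.conj k * α * (MulAut.conj k)⁻¹) z = α z := by
  rw [MulAut.mul_apply, MulAut.mul_apply, ← map_inv, E.conj_ker _ hz, E.conj_ker _ (E.ker_map α hz)]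

/-- **An outer involutory automorphism acts nontrivially on the centre**, if the centre is not cyclic and not
elementary abelian. -/
theorem ker_cyclic [Finite M] {α : MulAut M} (h2 : α * α = 1) (ho : datPSL.tyHom (b α) ≠ 1)
    (hfix : ∀ z, π z = 1 → α z = z) :
    (∀ z, π z = 1 → z * z = 1) ∨ ∃ g0 : M, π g0 = 1 ∧ ∀ z, π z = 1 → z ∈ zpowers g0 := by
  obtain ⟨k, τ, hτ, hτ2, ht⟩ := E.exists_pure h2 ho
  have C := E.ce
  have hg : ∀ s, E.ce.g s = if τ.2.1 then (E.ce.g (gp τ s))⁻¹ else E.ce.g (gp τ s) := by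
    intro s
    rw [← E.act_g ht s, E.conj_act α k (E.ce.g_map s), hfix _ (E.ce.g_map s)]
  have hgen : ∀ B : Subgroup M, (∀ s, E.ce.g s ∈ B) → ∀ z, π z = 1 → z ∈ B := fun B hB z hz =>
    E.ce.ker_gen E.perf E.ker2 B hB hz
  rcases gp_cases τ hτ hτ2 with ⟨h1, h3⟩ | ⟨s0, h0, h3, h4, h5⟩
  · left
    have hsq : ∀ s, E.ce.g s * E.ce.g s = 1 := by
      intro s
      have h6 := hg s
      rw [if_pos h1, h3] at h6
      calc E.ce.g s * E.ce.g s = E.ce.g s * (E.ce.g s)⁻¹ := by rw [← h6]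
        _ = 1 := mul_inv_cancel _
    intro z hz
    obtain ⟨i, j, rfl⟩ := E.ce.ker_form E.perf E.ker2 z hz
    have hc : Commute (E.ce.g 1 ^ i) (E.ce.g ω ^ j) :=
      (show Commute (E.ce.g 1) (E.ce.g ω ^ j) from E.ce.g_cen 1 _).pow_left i
    rw [← pow_two, hc.mul_pow, ← pow_mul, ← pow_mul, mul_comm i, mul_comm j, pow_mul, pow_mul,
      pow_two, pow_two, hsq, hsq, one_pow, one_pow, one_mul]
  · right
    refine ⟨E.ce.g (ω * s0), E.ce.g_map _, hgen _ ?_⟩
    have m1 : E.ce.g (ω * s0) ∈ zpowers (E.ce.g (ω * s0)) := mem_zpowers _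
    have hadd := E.ce.g_add (ω * s0) (ω2 * s0)
    rw [aux1, aux2] at hadd
    have m2 : E.ce.g (ω2 * s0) ∈ zpowers (E.ce.g (ω * s0)) ∧
        E.ce.g s0 ∈ zpowers (E.ce.g (ω * s0)) := by
      rcases hb : τ.2.1 with _ | _
      · have h6 := hg (ω * s0)
        rw [hb, if_neg (by simp), h4] at h6
        refine ⟨h6 ▸ m1, ?_⟩
        have e1 : E.ce.g s0 = E.ce.g (ω2 * s0) * E.ce.g (ω2 * s0) := by
          rw [hadd, ← h6, E.ce.g_sq, ← E.ce.f_add, aux3, ← E.ce.g_sq, ← h6]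
          exact E.ce.g_sq _
        rw [e1, ← h6]
        exact mul_mem m1 m1
      · have h6 := hg (ω * s0)
        rw [hb, if_pos rfl, h4] at h6
        have h7 := hg s0
        rw [hb, if_pos rfl, h3] at h7
        have h8 : E.ce.g (ω2 * s0) = (E.ce.g (ω * s0))⁻¹ := by rw [h6, inv_inv]
        refine ⟨h8 ▸ inv_mem m1, ?_⟩
        have h9 : E.ce.g s0 * E.ce.g s0 = 1 := by
          calc E.ce.g s0 * E.ce.g s0 = E.ce.g s0 * (E.ce.g s0)⁻¹ := by rw [← h7]
            _ = 1 := mul_inv_cancel _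
        have e1 : E.ce.g s0 = 1 := by
          rw [hadd, h8, mul_inv_cancel, one_mul, ← E.ce.g_sq, h9]
        rw [e1]
        exact one_mem _
    intro s
    rcases all_of_s0 s0 s h0 with rfl | rfl | rfl | rfl
    · rw [E.ce.g_zero]; exact one_mem _
    · exact m2.2
    · exact m1
    · exact m2.1

end Ext

/-! ### pairs of commuting automorphisms -/

/-- commuting involutions; `u'` normalises the group generated modulo fixed 2-subgroups of `u` -/
structure Q2 (u u' : MulAut M) : Prop where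
  sq : u * u = 1
  sq' : u' * u' = 1
  comm : u * u' = u' * u
  fix : ∀ S : Subgroup M, IsPGroup 2 S → (∀ s ∈ S, u s = s) → (∀ s ∈ S, u' s ∈ S) →
    ∀ s ∈ S, u' s = s ∨ MulAut.conj (s * (u' s)⁻¹) = u ∨
      (s * (u' s)⁻¹ * (s * (u' s)⁻¹) = 1 ∧ u' (s * (u' s)⁻¹) = s * (u' s)⁻¹ ∧
        (MulAut.conj (s * (u' s)⁻¹) = 1 → u' s = s))

theorem Q2.conj {u u' : MulAut M} (h : Q2 u u') (k : M) :
    Q2 (MulAut.conj k * u * (MulAut.conj k)⁻¹) (MulAut.conj k * u' * (MulAut.conj k)⁻¹) := by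
  have ap : ∀ (w : MulAut M) (m : M), (MulAut.conj k * w * (MulAut.conj k)⁻¹) m =
      k * w (k⁻¹ * m * k) * k⁻¹ := by
    intro w m
    rw [MulAut.mul_apply, MulAut.mul_apply, ← map_inv, MulAut.conj_apply, MulAut.conj_apply, inv_inv]
  refine ⟨?_, ?_, ?_, ?_⟩
  · calc MulAut.conj k * u * (MulAut.conj k)⁻¹ * (MulAut.conj k * u * (MulAut.conj k)⁻¹)
        = MulAut.conj k * (u * u) * (MulAut.conj k)⁻¹ := by group
      _ = 1 := by rw [h.sq]; group
  · calc MulAut.conj k * u' * (MulAut.conj k)⁻¹ * (MulAut.conj k * u' * (MulAut.conj k)⁻¹)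
        = MulAut.conj k * (u' * u') * (MulAut.conj k)⁻¹ := by group
      _ = 1 := by rw [h.sq']; group
  · calc MulAut.conj k * u * (MulAut.conj k)⁻¹ * (MulAut.conj k * u' * (MulAut.conj k)⁻¹)
        = MulAut.conj k * (u * u') * (MulAut.conj k)⁻¹ := by group
      _ = MulAut.conj k * (u' * u) * (MulAut.conj k)⁻¹ := by rw [h.comm]
      _ = _ := by group
  · intro S hS h1 h2 s hs
    have hS' : IsPGroup 2 (S.map (MulAut.conj k⁻¹).toMonoidHom) := hS.map _
    have hmem : ∀ x, x ∈ S.map (MulAut.conj k⁻¹).toMonoidHom ↔ k * x * k⁻¹ ∈ S := by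
      intro x
      constructor
      · rintro ⟨y, hy, rfl⟩
        show k * (k⁻¹ * y * k⁻¹⁻¹) * k⁻¹ ∈ S
        have : k * (k⁻¹ * y * k⁻¹⁻¹) * k⁻¹ = y := by group
        rw [this]; exact hy
      · intro hx
        refine ⟨k * x * k⁻¹, hx, ?_⟩
        show k⁻¹ * (k * x * k⁻¹) * k⁻¹⁻¹ = x
        group
    have h3 : ∀ x ∈ S.map (MulAut.conj k⁻¹).toMonoidHom, u x = x := by
      intro x hx
      have h4 := h1 _ ((hmem x).mp hx)
      rw [ap] at h4
      have e1 : k⁻¹ * (k * x * k⁻¹) * k = x := by group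
      rw [e1] at h4
      exact mul_left_cancel (mul_right_cancel h4)
    have h4 : ∀ x ∈ S.map (MulAut.conj k⁻¹).toMonoidHom,
        u' x ∈ S.map (MulAut.conj k⁻¹).toMonoidHom := by
      intro x hx
      have h5 := h2 _ ((hmem x).mp hx)
      rw [ap] at h5
      have e1 : k⁻¹ * (k * x * k⁻¹) * k = x := by group
      rw [e1] at h5
      exact (hmem _).mpr h5
    have hs' : k⁻¹ * s * k ∈ S.map (MulAut.conj k⁻¹).toMonoidHom := by
      rw [hmem]
      have : k * (k⁻¹ * s * k) * k⁻¹ = s := by group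
      rw [this]; exact hs
    have e1 : s * (k * u' (k⁻¹ * s * k) * k⁻¹)⁻¹ =
        k * (k⁻¹ * s * k * (u' (k⁻¹ * s * k))⁻¹) * k⁻¹ := by group
    rcases h.fix _ hS' h3 h4 _ hs' with h5 | h5 | ⟨h5, h6, h7⟩
    · left
      rw [ap, h5]; group
    · right; left
      rw [ap, e1, map_mul, map_mul, h5, map_inv]
    · right; right
      rw [ap, e1]
      set c := k⁻¹ * s * k * (u' (k⁻¹ * s * k))⁻¹ with hc
      refine ⟨?_, ?_, ?_⟩
      · calc k * c * k⁻¹ * (k * c * k⁻¹) = k * (c * c) * k⁻¹ := by group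
          _ = 1 := by rw [h5]; group
      · rw [ap]
        have e2 : k⁻¹ * (k * c * k⁻¹) * k = c := by group
        rw [e2, h6]
      · intro h8
        have h9 : MulAut.conj c = 1 := by
          rw [map_mul, map_mul, map_inv] at h8
          calc MulAut.conj c = (MulAut.conj k)⁻¹ *
                (MulAut.conj k * MulAut.conj c * (MulAut.conj k)⁻¹) * MulAut.conj k := by group
            _ = 1 := by rw [h8]; group
        rw [h7 h9]; group

theorem T_of_fix (E : Ext π b) {α : MulAut M} (h : b α (t 0 2 1) = t 0 2 1) {m : M}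
    (hm : π m ∈ datPSL.T) : π (α m) ∈ datPSL.T := by
  have h1 : π m * datPSL.x 0 2 1 = datPSL.x 0 2 1 * π m := Dat.cent_x02.mpr hm
  rw [← E.bar]
  apply Dat.cent_x02.mp
  have h2 := congrArg (b α) h1
  rw [map_mul, map_mul] at h2
  have h3 : b α (datPSL.x 0 2 1) = datPSL.x 0 2 1 := h
  rw [h3] at h2
  exact h2

theorem isPGroup_T (E : Ext π b) : IsPGroup 2 (datPSL.T.comap π) := by
  have h1 : IsPGroup 2 datPSL.T := IsPGroup.of_card (n := 6) (by rw [datPSL.card_T]; norm_num)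
  exact h1.comap_of_ker_isPGroup π E.ker2

/-- the 2-subgroup used below -/
theorem Q2.fixT (E : Ext π b) {u u' : MulAut M} (h : Q2 u u') (hf : b u' (t 0 2 1) = t 0 2 1) {s : M}
    (hs : π s ∈ datPSL.T) (hus : u s = s) : u' s = s ∨ MulAut.conj (s * (u' s)⁻¹) = u ∨
      (s * (u' s)⁻¹ * (s * (u' s)⁻¹) = 1 ∧ u' (s * (u' s)⁻¹) = s * (u' s)⁻¹ ∧
        (MulAut.conj (s * (u' s)⁻¹) = 1 → u' s = s)) := by
  refine h.fix (datPSL.T.comap π ⊓ fixS u) ((isPGroup_T E).to_le inf_le_left) (fun m hm => hm.2) ?_ s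
    ⟨hs, hus⟩
  intro m hm
  refine ⟨T_of_fix E hf hm.1, ?_⟩
  show u (u' m) = u' m
  have h1 := DFunLike.congr_fun h.comm m
  rw [MulAut.mul_apply, MulAut.mul_apply, show u m = m from hm.2] at h1
  exact h1

theorem sq_bar' {u : MulAut M} (hu : u * u = 1) : b u * b u = 1 := by
  rw [← map_mul, hu, map_one]

/-! ### outer - inner -/

theorem outer_inner [Finite M] (E : Ext π b) {u u' : MulAut M} (h : Q2 u' u)
    (ho : datPSL.tyHom (b u) ≠ 1) {k : M} (hk : u' = MulAut.conj k) (h1 : u' ≠ 1) :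
    (∀ z, π z = 1 → z * z = 1) ∨ ∃ g0 : M, π g0 = 1 ∧ ∀ z, π z = 1 → z ∈ zpowers g0 := by
  apply E.ker_cyclic h.sq' ho
  intro z hz
  have hp : IsPGroup 2 (π.ker) := E.ker2
  rcases h.fix π.ker hp (fun s hs => by rw [hk]; exact E.conj_ker k hs)
    (fun s hs => E.ker_map u hs) z hz with h2 | h2 | ⟨-, -, h2⟩
  · exact h2
  · exfalso
    apply h1
    rw [← h2]
    apply E.conj_one
    rw [map_mul, map_inv, hz, E.ker_map u hz, inv_one, mul_one]
  · apply h2
    apply E.conj_one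
    rw [map_mul, map_inv, hz, E.ker_map u hz, inv_one, mul_one]

/-! ### inner - inner -/

theorem inner_inner (E : Ext π b) {u u' : MulAut M} (h : Q2 u u') {k k' : M}
    (hk : u = MulAut.conj k) (hk' : u' = MulAut.conj k') (hk1 : π k ≠ 1) (hk1' : π k' ≠ 1)
    (hne : π k ≠ π k') (hf : ∃ s, E.ce.f s ≠ 1) : False := by
  have C := E.ce
  have cinj : ∀ {x y : PSL3}, MulAut.conj x = MulAut.conj y → x = y := fun h => Gamma.conj_inj h
  have hsq : ∀ {u : MulAut M} {k : M}, u * u = 1 → u = MulAut.conj k → π k * π k = 1 := by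
    intro u k hu hk
    apply cinj
    rw [map_mul, map_one, ← CE.bar_conj E.ce b E.bar, ← hk]
    exact sq_bar' hu
  obtain ⟨g, hg⟩ := Cfsg.Agent.StdLThreeFour.Facts1.inv_conj hk1 (hsq h.sq hk)
  obtain ⟨g, rfl⟩ := E.ce.surj g
  have hQ := h.conj g
  set v := MulAut.conj g * u * (MulAut.conj g)⁻¹ with hv
  set v' := MulAut.conj g * u' * (MulAut.conj g)⁻¹ with hv'
  have hc1 : v = MulAut.conj (g * k * g⁻¹) := by rw [hv, hk, map_mul, map_mul, map_inv]
  obtain ⟨j, hj⟩ : ∃ j, j = g * k' * g⁻¹ := ⟨_, rfl⟩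
  have hc2 : v' = MulAut.conj j := by rw [hj, hv', hk', map_mul, map_mul, map_inv]
  have hπ1 : π (g * k * g⁻¹) = t 0 2 1 := by
    rw [map_mul, map_mul, map_inv]; exact hg
  have hπj : π j = π g * π k' * (π g)⁻¹ := by rw [hj, map_mul, map_mul, map_inv]
  have hj1 : π j ≠ 1 := by
    intro h1
    apply hk1'
    rw [hπj] at h1
    calc π k' = (π g)⁻¹ * (π g * π k' * (π g)⁻¹) * π g := by group
      _ = 1 := by rw [h1]; group
  have hj2 : π j ≠ t 0 2 1 := by
    intro h1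
    apply hne
    rw [hπj, ← hg] at h1
    exact (mul_left_cancel (mul_right_cancel h1)).symm
  have hjj : π j * π j = 1 := hsq hQ.sq' hc2
  have hb1 : b v = MulAut.conj (t 0 2 1) := by rw [hc1, CE.bar_conj E.ce b E.bar, hπ1]
  have hb2 : b v' = MulAut.conj (π j) := by rw [hc2, CE.bar_conj E.ce b E.bar]
  have hcomm : π j * t 0 2 1 = t 0 2 1 * π j := by
    apply cinj
    rw [map_mul, map_mul, ← hb1, ← hb2, ← map_mul, ← map_mul, hQ.comm]
  have hfix2 : b v' (t 0 2 1) = t 0 2 1 := by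
    rw [hb2, MulAut.conj_apply, hcomm, mul_inv_cancel_right]
  obtain ⟨a, b', c, hjc⟩ := (Cfsg.Agent.StdL34.PslCent.cent_t02 _).1 hcomm
  have hje : π j = e a b' c := hjc
  have hab : a * b' = 0 := by
    rw [hje, Cfsg.Agent.StdLThreeFour.Facts1.e_sq] at hjj
    exact (Cfsg.Agent.StdLThreeFour.Facts1.e_one hjj).2.2
  have hx02 : v = MulAut.conj (E.ce.x 0 2 1) := by
    apply E.ce.eq_of_bar E.perf b E.bar
    rw [hb1, CE.bar_conj E.ce b E.bar, E.ce.map_x 0 2 (by decide)]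
  have hfix : ∀ w : F4, v (E.ce.x 0 1 (w * w) * E.ce.x 1 2 w) = E.ce.x 0 1 (w * w) * E.ce.x 1 2 w := by
    intro w
    have h1 := Gamma.comm_s E.ce 1 w
    rw [one_mul, one_mul, one_mul, E.ce.f_sq, mul_one] at h1
    rw [hx02, MulAut.conj_apply, h1, mul_inv_cancel_right]
  have hπs : ∀ w : F4, π (E.ce.x 0 1 (w * w) * E.ce.x 1 2 w) = e (w * w) w 0 := by
    intro w
    rw [map_mul, E.ce.map_x 0 1 (by decide), E.ce.map_x 1 2 (by decide)]
    unfold e
    rw [t_zero, mul_one]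
  have hT : ∀ w : F4, π (E.ce.x 0 1 (w * w) * E.ce.x 1 2 w) ∈ datPSL.T := by
    intro w
    rw [hπs]
    exact ⟨⟨w * w, w, 0⟩, rfl⟩
  have hL : ∀ w : F4, π (E.ce.x 0 1 (w * w) * E.ce.x 1 2 w) *
      (π (v' (E.ce.x 0 1 (w * w) * E.ce.x 1 2 w)))⁻¹ = e 0 0 (a * w + w * w * b') := by
    intro w
    rw [← E.bar, hb2, MulAut.conj_apply, hπs, hje,
      ← Cfsg.Agent.StdLThreeFour.Facts1.e_comm (w * w) w 0 a b' c]
    group
  have hcases : ∀ w : F4, v' (E.ce.x 0 1 (w * w) * E.ce.x 1 2 w) = E.ce.x 0 1 (w * w) * E.ce.x 1 2 w ∨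
      π (E.ce.x 0 1 (w * w) * E.ce.x 1 2 w) *
        (π (v' (E.ce.x 0 1 (w * w) * E.ce.x 1 2 w)))⁻¹ = e 0 0 1 ∨
      (v' (E.ce.x 0 1 (w * w) * E.ce.x 1 2 w * (v' (E.ce.x 0 1 (w * w) * E.ce.x 1 2 w))⁻¹) =
        E.ce.x 0 1 (w * w) * E.ce.x 1 2 w * (v' (E.ce.x 0 1 (w * w) * E.ce.x 1 2 w))⁻¹ ∧
        (π (E.ce.x 0 1 (w * w) * E.ce.x 1 2 w) *
          (π (v' (E.ce.x 0 1 (w * w) * E.ce.x 1 2 w)))⁻¹ = 1 →
          v' (E.ce.x 0 1 (w * w) * E.ce.x 1 2 w) = E.ce.x 0 1 (w * w) * E.ce.x 1 2 w)) := by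
    intro w
    rcases hQ.fixT E hfix2 (hT w) (hfix w) with h1 | h1 | ⟨-, h1, h2⟩
    · exact Or.inl h1
    · right; left
      rw [← map_inv, ← map_mul, e_02]
      apply cinj
      rw [← CE.bar_conj E.ce b E.bar, h1, hb1]
    · right; right
      refine ⟨h1, fun h3 => h2 ?_⟩
      apply E.conj_one
      rw [map_mul, map_inv]; exact h3
  -- elements over `x 0 2 d` centralised by `j`
  have hjx : ∀ (d : F4) (y : M), π y = e 0 0 d → v' y = y → E.ce.f (a * d) * E.ce.f (b' * d * (b' * d)) = 1 := by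
    intro d y hy hvy
    obtain ⟨y0, hy0, rfl⟩ : ∃ y0, π y0 = 1 ∧ y = E.ce.x 0 2 d * y0 := by
      refine ⟨(E.ce.x 0 2 d)⁻¹ * y, ?_, by group⟩
      rw [map_mul, map_inv, E.ce.map_x 0 2 (by decide), hy, e_02, inv_mul_cancel]
    obtain ⟨j0, hj0, hj1'⟩ : ∃ j0, π j0 = 1 ∧
        j = E.ce.x 0 1 a * E.ce.x 1 2 b' * E.ce.x 0 2 c * j0 := by
      refine ⟨(E.ce.x 0 1 a * E.ce.x 1 2 b' * E.ce.x 0 2 c)⁻¹ * j, ?_, by group⟩
      rw [map_mul, map_inv, map_mul, map_mul, E.ce.map_x 0 1 (by decide), E.ce.map_x 1 2 (by decide),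
        E.ce.map_x 0 2 (by decide), hje]
      show (e a b' c)⁻¹ * e a b' c = 1
      rw [inv_mul_cancel]
    have h1 : j * E.ce.x 0 2 d = E.ce.x 0 2 d * j := by
      rw [hc2, MulAut.conj_apply, mul_inv_eq_iff_eq_mul, ← mul_assoc] at hvy
      have h2 := E.ce.cen y0 hy0
      have h3 : j * E.ce.x 0 2 d * y0 = E.ce.x 0 2 d * j * y0 := by
        rw [hvy, mul_assoc _ y0 j, h2 j, ← mul_assoc]
      exact mul_right_cancel h3
    rw [hj1'] at h1
    have k0 := E.ce.cen j0 hj0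
    have k1 := E.ce.rel_row 0 2 1 (by decide) (by decide) (by decide) d a
    have k2 := E.ce.rel_col 0 2 1 (by decide) (by decide) (by decide) d b'
    have k3 := E.ce.x_add 0 2 (by decide) c d
    have k4 := E.ce.x_add 0 2 (by decide) d c
    have k5 : E.ce.x 0 2 d * (E.ce.x 0 1 a * E.ce.x 1 2 b' * E.ce.x 0 2 c * j0) =
        E.ce.x 0 1 a * E.ce.x 1 2 b' * E.ce.x 0 2 c * j0 * E.ce.x 0 2 d *
          (E.ce.f (d * a) * E.ce.f (d * b' * (d * b'))) := by
      have c1 := E.ce.f_cen (d * a)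
      have c2 := E.ce.f_cen (d * d * (b' * b'))
      have e9 : d * b' * (d * b') = d * d * (b' * b') := by ring
      rw [e9]
      calc E.ce.x 0 2 d * (E.ce.x 0 1 a * E.ce.x 1 2 b' * E.ce.x 0 2 c * j0)
          = (E.ce.x 0 2 d * E.ce.x 0 1 a) * E.ce.x 1 2 b' * E.ce.x 0 2 c * j0 := by
            simp only [mul_assoc]
        _ = (E.ce.x 0 1 a * E.ce.x 0 2 d * E.ce.f (d * a)) * E.ce.x 1 2 b' * E.ce.x 0 2 c * j0 := by
            rw [k1]
        _ = E.ce.x 0 1 a * E.ce.x 0 2 d * (E.ce.f (d * a) * (E.ce.x 1 2 b' * E.ce.x 0 2 c * j0)) := by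
            simp only [mul_assoc]
        _ = E.ce.x 0 1 a * E.ce.x 0 2 d * ((E.ce.x 1 2 b' * E.ce.x 0 2 c * j0) * E.ce.f (d * a)) := by
            rw [c1]
        _ = E.ce.x 0 1 a * (E.ce.x 0 2 d * E.ce.x 1 2 b') * E.ce.x 0 2 c * j0 * E.ce.f (d * a) := by
            simp only [mul_assoc]
        _ = E.ce.x 0 1 a * (E.ce.x 1 2 b' * E.ce.x 0 2 d * E.ce.f (d * d * (b' * b'))) *
              E.ce.x 0 2 c * j0 * E.ce.f (d * a) := by rw [k2]
        _ = E.ce.x 0 1 a * E.ce.x 1 2 b' * E.ce.x 0 2 d * (E.ce.f (d * d * (b' * b')) *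
              (E.ce.x 0 2 c * j0)) * E.ce.f (d * a) := by simp only [mul_assoc]
        _ = E.ce.x 0 1 a * E.ce.x 1 2 b' * E.ce.x 0 2 d * ((E.ce.x 0 2 c * j0) *
              E.ce.f (d * d * (b' * b'))) * E.ce.f (d * a) := by rw [c2]
        _ = E.ce.x 0 1 a * E.ce.x 1 2 b' * (E.ce.x 0 2 d * E.ce.x 0 2 c) * j0 *
              (E.ce.f (d * d * (b' * b')) * E.ce.f (d * a)) := by simp only [mul_assoc]
        _ = E.ce.x 0 1 a * E.ce.x 1 2 b' * (E.ce.x 0 2 c * E.ce.x 0 2 d) * j0 *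
              (E.ce.f (d * d * (b' * b')) * E.ce.f (d * a)) := by rw [k3, k4, add_comm]
        _ = E.ce.x 0 1 a * E.ce.x 1 2 b' * E.ce.x 0 2 c * (E.ce.x 0 2 d * j0) *
              (E.ce.f (d * d * (b' * b')) * E.ce.f (d * a)) := by simp only [mul_assoc]
        _ = E.ce.x 0 1 a * E.ce.x 1 2 b' * E.ce.x 0 2 c * (j0 * E.ce.x 0 2 d) *
              (E.ce.f (d * a) * E.ce.f (d * d * (b' * b'))) := by rw [← k0, ← c1]
        _ = _ := by simp only [mul_assoc]
    rw [k5] at h1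
    have h2 := left_eq_mul.mp h1
    rw [mul_comm a d, mul_comm b' d]
    exact h2
  obtain ⟨ha0, hb0⟩ : a = 0 ∧ b' = 0 := by
    by_contra hcon
    have hall : ∀ t : F4, t = 0 ∨ t = 1 ∨ E.ce.f (a * t) * E.ce.f (b' * t * (b' * t)) = 1 := by
      intro t
      obtain ⟨w, hw⟩ : ∃ w : F4, a * w + w * w * b' = t := by
        have : ∀ a b' t : F4, a * b' = 0 → ¬ (a = 0 ∧ b' = 0) → ∃ w : F4, a * w + w * w * b' = t := by
          decide
        exact this a b' t hab hcon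
      have hLw := hL w
      rw [hw] at hLw
      rcases hcases w with h1 | h1 | ⟨h1, -⟩
      · left
        rw [h1, mul_inv_cancel] at hLw
        exact (Cfsg.Agent.StdLThreeFour.Facts1.e_one hLw.symm).2.2
      · right; left
        rw [hLw] at h1
        exact (Cfsg.Agent.StdLThreeFour.Facts1.e_inj h1).2.2
      · right; right
        refine hjx t _ ?_ h1
        rw [map_mul, map_inv]; exact hLw
    have hw1 : E.ce.f (a * ω) * E.ce.f (b' * ω * (b' * ω)) = 1 := by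
      rcases hall ω with h | h | h
      · exact absurd h (by decide)
      · exact absurd h (by decide)
      · exact h
    have hw2 : E.ce.f (a * ω2) * E.ce.f (b' * ω2 * (b' * ω2)) = 1 := by
      rcases hall ω2 with h | h | h
      · exact absurd h (by decide)
      · exact absurd h (by decide)
      · exact h
    have h11 : E.ce.f (a * 1) * E.ce.f (b' * 1 * (b' * 1)) = 1 := by
      have e1 : a * 1 = a * ω + a * ω2 := by
        have : ∀ a : F4, a * 1 = a * ω + a * ω2 := by decide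
        exact this a
      have e2 : b' * 1 * (b' * 1) = b' * ω * (b' * ω) + b' * ω2 * (b' * ω2) := by
        have : ∀ a : F4, a * 1 * (a * 1) = a * ω * (a * ω) + a * ω2 * (a * ω2) := by decide
        exact this b'
      rw [e1, e2, E.ce.f_add, E.ce.f_add]
      have c1 := E.ce.f_cen (a * ω2) (E.ce.f (b' * ω * (b' * ω)))
      calc E.ce.f (a * ω) * E.ce.f (a * ω2) * (E.ce.f (b' * ω * (b' * ω)) *
            E.ce.f (b' * ω2 * (b' * ω2)))
          = E.ce.f (a * ω) * (E.ce.f (a * ω2) * E.ce.f (b' * ω * (b' * ω))) *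
            E.ce.f (b' * ω2 * (b' * ω2)) := by simp only [mul_assoc]
        _ = E.ce.f (a * ω) * (E.ce.f (b' * ω * (b' * ω)) * E.ce.f (a * ω2)) *
            E.ce.f (b' * ω2 * (b' * ω2)) := by rw [c1]
        _ = (E.ce.f (a * ω) * E.ce.f (b' * ω * (b' * ω))) * (E.ce.f (a * ω2) *
            E.ce.f (b' * ω2 * (b' * ω2))) := by simp only [mul_assoc]
        _ = 1 := by rw [hw1, hw2, mul_one]
    have hG : ∀ t : F4, E.ce.f (a * t) * E.ce.f (b' * t * (b' * t)) = 1 := by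
      intro t
      rcases hall t with rfl | rfl | h
      · rw [mul_zero, mul_zero, mul_zero, E.ce.f_zero, mul_one]
      · exact h11
      · exact h
    obtain ⟨s, hs⟩ := hf
    apply hs
    obtain ⟨t, ht⟩ : ∃ t : F4, (a * t = s ∧ b' * t * (b' * t) = 0) ∨
        (a * t = 0 ∧ b' * t * (b' * t) = s) := by
      have : ∀ a b' s : F4, a * b' = 0 → ¬ (a = 0 ∧ b' = 0) → ∃ t : F4,
        (a * t = s ∧ b' * t * (b' * t) = 0) ∨ (a * t = 0 ∧ b' * t * (b' * t) = s) := by decide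
      exact this a b' s hab hcon
    have h1 := hG t
    rcases ht with ⟨k1, k2⟩ | ⟨k1, k2⟩
    · rw [k1, k2, E.ce.f_zero, mul_one] at h1
      exact h1
    · rw [k1, k2, E.ce.f_zero, one_mul] at h1
      exact h1
  subst ha0 hb0
  have hjt : π j = t 0 2 c := by rw [hje, e_02]
  have hc0 : c ≠ 0 := by
    rintro rfl
    exact hj1 (by rw [hjt, t_zero])
  have hc1' : c ≠ 1 := by
    rintro rfl
    exact hj2 hjt
  have hcc := Gamma.aux_cc c hc0 hc1'
  have hxc : v' = MulAut.conj (E.ce.x 0 2 c) := by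
    apply E.ce.eq_of_bar E.perf b E.bar
    rw [hb2, CE.bar_conj E.ce b E.bar, E.ce.map_x 0 2 (by decide), hjt]
  have hf1 : ∀ w : F4, E.ce.f (w * w) = 1 := by
    intro w
    have h1 : v' (E.ce.x 0 1 (w * w) * E.ce.x 1 2 w) = E.ce.x 0 1 (w * w) * E.ce.x 1 2 w := by
      rcases hcases w with h1 | h1 | ⟨-, h1⟩
      · exact h1
      · exfalso
        rw [hL w] at h1
        have h2 := (Cfsg.Agent.StdLThreeFour.Facts1.e_inj h1).2.2
        rw [zero_mul, mul_zero, add_zero] at h2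
        exact absurd h2 (by decide)
      · apply h1
        rw [hL w, zero_mul, mul_zero, add_zero, e_zero]
    rw [hxc, MulAut.conj_apply, Gamma.comm_s, mul_inv_eq_iff_eq_mul] at h1
    have h2 : E.ce.f (c * (w * w)) * E.ce.f (c * c * (w * w)) = 1 := mul_eq_left.mp h1
    rw [← E.ce.f_add, ← add_mul, hcc, one_mul] at h2
    exact h2
  obtain ⟨s, hs⟩ := hf
  apply hs
  have h1 := hf1 (s * s)
  have e2 : ∀ s : F4, s * s * (s * s) = s := by decide
  rw [e2] at h1
  exact h1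

/-! ### field - graph -/

theorem graph_code : ∀ (τ : Ty) (p : Code) (a : F4), τ.2.1 = true → a ≠ 0 →
    (cact p τ ⟨a, 0, 0⟩).a = 0 ∧ (cact p τ ⟨a, 0, 0⟩).b ≠ 0 := by
  decide +kernel

theorem no_inv_code : ∀ (a : F4) (q : Code), a ≠ 0 → q.a = 0 → q.b ≠ 0 →
    cmul (cmul ⟨a, 0, 0⟩ (cinv q)) (cmul ⟨a, 0, 0⟩ (cinv q)) ≠ cone := by
  decide +kernel

theorem field_graph (E : Ext π b) {u u' : MulAut M} (h : Q2 u u') (V : Subgroup (MulAut PSL3))
    (hV : IsPGroup 2 V) (m1 : b u ∈ V) (m2 : b u' ∈ V)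
    (h1 : (datPSL.tyHom (b u)).ty.1 = true) (h2 : (datPSL.tyHom (b u)).ty.2.1 = false)
    (h3 : (datPSL.tyHom (b u')).ty.2.1 = true) : False := by
  obtain ⟨τ0, hτ0⟩ := datPSL.hasTy (b u)
  have hty0 : datPSL.tyHom (b u) = ⟨τ0⟩ := hτ0.tyHom
  have hne0 : τ0 ≠ ty1 := by
    rintro rfl
    rw [hty0] at h1
    exact absurd h1 (by decide)
  obtain ⟨l, hl, hl'⟩ := Dat.exists_conj_pure (A := datPSL) V hV m1 (sq_bar' h.sq) hne0 hτ0
  obtain ⟨g, rfl⟩ := E.ce.surj l
  have hQ := h.conj g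
  set v := MulAut.conj g * u * (MulAut.conj g)⁻¹ with hv
  set v' := MulAut.conj g * u' * (MulAut.conj g)⁻¹ with hv'
  have e1 : ∀ u : MulAut M, b (MulAut.conj g * u * (MulAut.conj g)⁻¹) =
      MulAut.conj (π g) * b u * (MulAut.conj (π g))⁻¹ := by
    intro u
    rw [map_mul, map_mul, map_inv b, CE.bar_conj E.ce b E.bar]
  have e2 : ∀ u : MulAut M, datPSL.tyHom (b (MulAut.conj g * u * (MulAut.conj g)⁻¹)) =
      datPSL.tyHom (b u) := by
    intro u
    rw [e1, map_mul, map_mul, map_inv, datPSL.tyHom_conj]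
    group
  have hτ : datPSL.IsTau τ0 (b v) := by rw [hv, e1]; exact hl
  rw [hty0] at h1 h2
  rw [← e2 u'] at h3
  obtain ⟨τ1, τ2, d⟩ := τ0
  simp only at h1 h2
  subst h1 h2
  have hfix2 : b v' (t 0 2 1) = t 0 2 1 := by
    have h4 := hl' _ m2
    rw [Dat.mem_MT_iff] at h4
    rw [hv', e1]
    exact h4
  obtain ⟨a01, a12, a02, a21, k1, k2, k3, k4, k5, k6⟩ := Gamma.aux_fix d
  have f1 : v (E.ce.x 0 1 a01) = E.ce.x 0 1 a01 := by
    rw [E.pure hτ (by decide)]
    unfold imgx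
    rw [if_neg (by simp), k3]
  have ha : a01 ≠ 0 := by
    rintro rfl
    rw [zero_mul] at k1
    exact absurd k1 (by decide)
  have hT : π (E.ce.x 0 1 a01) ∈ datPSL.T := by
    rw [E.ce.map_x 0 1 (by decide)]
    refine ⟨⟨a01, 0, 0⟩, ?_⟩
    exact datPSL.el_x01 _
  obtain ⟨p, τ', hcd⟩ := datPSL.exists_cd (α := b v') hfix2
  have hty : (datPSL.tyHom (b v')).ty = τ' := by rw [hcd.hasTy.tyHom]
  rw [hty] at h3
  have g3 : datPSL.el ⟨a01, 0, 0⟩ = t 0 1 a01 := datPSL.el_x01 _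
  have g4 := hcd.apply ⟨a01, 0, 0⟩
  rw [g3] at g4
  rcases hQ.fixT E hfix2 hT f1 with h4 | h4 | ⟨h4, -, -⟩
  · have g2 : b v' (t 0 1 a01) = t 0 1 a01 := by
      rw [← E.ce.map_x 0 1 (by decide), E.bar, h4]
    rw [g2, ← g3] at g4
    have g5 := datPSL.inj g4
    exact Gamma.aux_graph τ' p _ h3 ha (congrArg Code.a g5).symm
  · have h5 := E.tyHom_conj (E.ce.x 0 1 a01 * (v' (E.ce.x 0 1 a01))⁻¹)
    rw [h4, hτ.hasTy.tyHom] at h5
    have h6 := congrArg (fun x : TyG => x.ty.1) h5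
    have h7 : true = false := h6
    exact absurd h7 (by decide)
  · have h5 := congrArg π h4
    rw [map_mul, map_mul, map_inv, ← E.bar, E.ce.map_x 0 1 (by decide), g4, map_one, ← g3,
      datPSL.el_inv, datPSL.el_mul, datPSL.el_mul, ← datPSL.el_one] at h5
    obtain ⟨h6, h7⟩ := graph_code τ' p a01 h3 ha
    exact no_inv_code a01 _ ha h6 h7 (datPSL.inj h5)

/-! ### The theorem -/

/-- the elements of a four-group -/
theorem four_mem {X : Type*} [Group X] {W : Subgroup X} (hW2 : ∀ w ∈ W, w * w = 1)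
    (hW4 : Nat.card W = 4) {x y : X} (hx : x ∈ W) (hy : y ∈ W) (hx1 : x ≠ 1) (hy1 : y ≠ 1)
    (hxy : x ≠ y) {w : X} (hw : w ∈ W) : w = 1 ∨ w = x ∨ w = y ∨ w = x * y := by
  have h1 : x * y ≠ 1 := by
    intro h
    apply hxy
    have h2 : x * x = x * y := by rw [hW2 x hx, h]
    exact mul_left_cancel h2
  have hsub : ({1, x, y, x * y} : Set X) ⊆ (W : Set X) := by
    intro z hz
    simp only [Set.mem_insert_iff, Set.mem_singleton_iff] at hz
    rcases hz with rfl | rfl | rfl | rfl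
    · exact one_mem W
    · exact hx
    · exact hy
    · exact mul_mem hx hy
  have hfin : (W : Set X).Finite := by
    apply Set.finite_of_ncard_ne_zero
    have : (W : Set X).ncard = 4 := by rw [← hW4]; rfl
    omega
  have hc : ({1, x, y, x * y} : Set X).ncard = 4 := by
    rw [Set.ncard_insert_of_notMem, Set.ncard_insert_of_notMem, Set.ncard_insert_of_notMem,
      Set.ncard_singleton]
    · intro h
      have h3 : y = x * y := by simpa using h
      exact hx1 (right_eq_mul.mp h3)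
    · intro h
      simp only [Set.mem_insert_iff, Set.mem_singleton_iff] at h
      rcases h with h | h
      · exact hxy h
      · exact hy1 (left_eq_mul.mp h)
    · intro h
      simp only [Set.mem_insert_iff, Set.mem_singleton_iff] at h
      rcases h with h | h | h
      · exact hx1 h.symm
      · exact hy1 h.symm
      · exact h1 h.symm
  have heq : ({1, x, y, x * y} : Set X) = (W : Set X) := by
    apply Set.eq_of_subset_of_ncard_le hsub ?_ hfin
    rw [hc]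
    have : (W : Set X).ncard = 4 := by rw [← hW4]; rfl
    omega
  have h4 : w ∈ ({1, x, y, x * y} : Set X) := by rw [heq]; exact hw
  simpa using h4

/-- the hypothesis on the four-group gives `Q2` -/
theorem mk_Q2 {W : Subgroup (MulAut M)} (hW2 : ∀ w ∈ W, w * w = 1) (hW4 : Nat.card W = 4)
    (hcen : ∀ k : M, MulAut.conj k = 1 → k ∈ center M)
    (H : ∀ v ∈ W, v ≠ 1 → ∀ S : Subgroup M, IsPGroup 2 S → (∀ w ∈ W, ∀ s ∈ S, w s ∈ S) →
      (∀ s ∈ S, v s = s) → ∀ s ∈ S,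
        (∀ w ∈ W, MulAut.conj (s * (w s)⁻¹) ∈ W ∧ (s * (w s)⁻¹ ∈ center M → w s = s)) ∨
        (∀ w ∈ W, s * (w s)⁻¹ * (s * (w s)⁻¹) = 1 ∧ (∀ w' ∈ W, w' (s * (w s)⁻¹) = s * (w s)⁻¹) ∧
          (s * (w s)⁻¹ ∈ center M → w s = s))) {u u' : MulAut M} (hu : u ∈ W) (hu' : u' ∈ W)
    (hu1 : u ≠ 1) (hu1' : u' ≠ 1) (hne : u ≠ u') : Q2 u u' := by
  have hcomm : u * u' = u' * u := by
    have h1 := hW2 _ (mul_mem hu hu')
    have h2 := hW2 u hu
    have h3 := hW2 u' hu'
    calc u * u' = u * (u * u' * (u * u')) * u' := by rw [h1, mul_one]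
      _ = (u * u) * u' * u * (u' * u') := by group
      _ = u' * u := by rw [h2, h3, one_mul, mul_one]
  refine ⟨hW2 u hu, hW2 u' hu', hcomm, ?_⟩
  intro S hS h1 h2 s hs
  have hWS : ∀ w ∈ W, ∀ s ∈ S, w s ∈ S := by
    intro w hw s hs
    rcases four_mem hW2 hW4 hu hu' hu1 hu1' hne hw with rfl | rfl | rfl | rfl
    · exact hs
    · rw [h1 s hs]; exact hs
    · exact h2 s hs
    · rw [MulAut.mul_apply, h1 _ (h2 s hs)]; exact h2 s hs
  rcases H u hu hu1 S hS hWS h1 s hs with hH | hH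
  swap
  · obtain ⟨h3, h4, h5⟩ := hH u' hu'
    exact Or.inr (Or.inr ⟨h3, h4 u' hu', fun h6 => h5 (hcen _ h6)⟩)
  obtain ⟨h3, h4⟩ := hH u' hu'
  have key : MulAut.conj s * u' * (MulAut.conj s)⁻¹ = MulAut.conj (s * (u' s)⁻¹) * u' := by
    apply MulEquiv.ext
    intro m
    rw [MulAut.mul_apply, MulAut.mul_apply, MulAut.mul_apply, ← map_inv, MulAut.conj_apply,
      MulAut.conj_apply, MulAut.conj_apply, map_mul, map_mul, map_inv, inv_inv]
    group
  rcases four_mem hW2 hW4 hu hu' hu1 hu1' hne h3 with h5 | h5 | h5 | h5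
  · exact Or.inl (h4 (hcen _ h5))
  · exact Or.inr (Or.inl h5)
  · exfalso
    apply hu1'
    rw [h5, hW2 u' hu'] at key
    calc u' = (MulAut.conj s)⁻¹ * (MulAut.conj s * u' * (MulAut.conj s)⁻¹) * MulAut.conj s := by
          group
      _ = 1 := by rw [key]; group
  · exfalso
    apply hne
    have h6 : MulAut.conj s * u = u * MulAut.conj s := by
      apply MulEquiv.ext
      intro m
      rw [MulAut.mul_apply, MulAut.mul_apply, MulAut.conj_apply, MulAut.conj_apply, map_mul,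
        map_mul, map_inv, h1 s hs]
    rw [h5, mul_assoc u u' u', hW2 u' hu', mul_one] at key
    calc u = (MulAut.conj s)⁻¹ * (MulAut.conj s * u) := by group
      _ = (MulAut.conj s)⁻¹ * (u * MulAut.conj s) := by rw [h6]
      _ = (MulAut.conj s)⁻¹ * (MulAut.conj s * u' * (MulAut.conj s)⁻¹ * MulAut.conj s) := by
          rw [key]
      _ = u' := by group

/-- **GAMMA, 2-local version.** -/
theorem gamma2' {K : Type*} [Group K] [Finite K] (hperf : commutator K = ⊤)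
    (h2 : IsPGroup 2 (center K)) {F : Type*} [Field F] [Fintype F] (hF : Fintype.card F = 4)
    (e : K ⧸ center K ≃* Matrix.ProjectiveSpecialLinearGroup (Fin 3) F)
    (hnc : ¬ IsCyclic (center K)) (hne : ∃ z ∈ center K, z * z ≠ 1) (W : Subgroup (MulAut K))
    (hW2 : ∀ w ∈ W, w * w = 1) (hW4 : Nat.card W = 4)
    (H : ∀ v ∈ W, v ≠ 1 → ∀ S : Subgroup K, IsPGroup 2 S → (∀ w ∈ W, ∀ s ∈ S, w s ∈ S) →
      (∀ s ∈ S, v s = s) → ∀ s ∈ S,
        (∀ w ∈ W, MulAut.conj (s * (w s)⁻¹) ∈ W ∧ (s * (w s)⁻¹ ∈ center K → w s = s)) ∨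
        (∀ w ∈ W, s * (w s)⁻¹ * (s * (w s)⁻¹) = 1 ∧ (∀ w' ∈ W, w' (s * (w s)⁻¹) = s * (w s)⁻¹) ∧
          (s * (w s)⁻¹ ∈ center K → w s = s))) : False := by
  obtain ⟨π, b, E, hker⟩ := exists_ext hperf h2 hF e
  have hcen : ∀ k : K, MulAut.conj k = 1 → k ∈ center K := by
    intro k hk
    rw [← hker]
    exact E.map_one_of_conj hk
  have hmem : ∀ k : K, π k = 1 ↔ k ∈ center K := by
    intro k
    rw [← hker]
    exact Iff.rfl
  have hf : ∃ s, E.ce.f s ≠ 1 := by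
    by_contra hcon
    push Not at hcon
    obtain ⟨z, hz, hz2⟩ := hne
    obtain ⟨i, j, rfl⟩ := E.ce.ker_form hperf E.ker2 z ((hmem z).mpr hz)
    apply hz2
    have g1 : ∀ s, E.ce.g s * E.ce.g s = 1 := fun s => by rw [E.ce.g_sq]; exact hcon _
    have hc : Commute (E.ce.g 1 ^ i) (E.ce.g ω ^ j) :=
      (show Commute (E.ce.g 1) (E.ce.g ω ^ j) from E.ce.g_cen 1 _).pow_left i
    rw [← pow_two, hc.mul_pow, ← pow_mul, ← pow_mul, mul_comm i, mul_comm j, pow_mul, pow_mul,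
      pow_two, pow_two, g1, g1, one_pow, one_pow, one_mul]
  have hno : ¬ ((∀ z, π z = 1 → z * z = 1) ∨ ∃ g0 : K, π g0 = 1 ∧ ∀ z, π z = 1 → z ∈ zpowers g0) := by
    rintro (h1 | ⟨g0, h3, h4⟩)
    · obtain ⟨z, hz, hz2⟩ := hne
      exact hz2 (h1 z ((hmem z).mpr hz))
    · apply hnc
      refine ⟨⟨⟨g0, (hmem g0).mp h3⟩, ?_⟩⟩
      intro z
      obtain ⟨n, hn⟩ := mem_zpowers_iff.mp (h4 z.1 ((hmem z.1).mpr z.2))
      exact mem_zpowers_iff.mpr ⟨n, Subtype.ext (by rw [← hn]; rfl)⟩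
  have hmk : ∀ {u u' : MulAut K}, u ∈ W → u' ∈ W → u ≠ 1 → u' ≠ 1 → u ≠ u' → Q2 u u' :=
    fun a1 a2 a3 a4 a5 => mk_Q2 hW2 hW4 hcen H a1 a2 a3 a4 a5
  -- the four-group
  have hfour : ∀ a : MulAut K, ∃ y ∈ W, y ≠ 1 ∧ y ≠ a := by
    intro a
    by_contra hcon
    push Not at hcon
    have hsub : (W : Set (MulAut K)) ⊆ ({1, a} : Set (MulAut K)) := by
      intro y hy
      by_cases h1 : y = 1
      · simp [h1]
      · simp [hcon y hy h1]
    have hle : (W : Set (MulAut K)).ncard ≤ ({1, a} : Set (MulAut K)).ncard :=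
      Set.ncard_le_ncard hsub (Set.toFinite _)
    have h2 : ({1, a} : Set (MulAut K)).ncard ≤ 2 := Set.ncard_insert_le _ _ |>.trans (by simp)
    have h3 : (W : Set (MulAut K)).ncard = 4 := by rw [← hW4]; rfl
    omega
  obtain ⟨u, hu, hu1, -⟩ := hfour 1
  obtain ⟨v, hv, hv1, hvu⟩ := hfour u
  have huv1 : u * v ≠ 1 := by
    intro hc
    apply hvu
    have : u * u = u * v := by rw [hW2 u hu, hc]
    exact (mul_left_cancel this).symm
  have huv : u * v ∈ W := mul_mem hu hv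
  have hne1 : u ≠ u * v := fun h => hv1 (left_eq_mul.mp h)
  have hne2 : v ≠ u * v := fun h => hu1 (right_eq_mul.mp h)
  have hV : IsPGroup 2 (W.map b) := by
    have h1 : IsPGroup 2 W := IsPGroup.of_card (n := 2) (by rw [hW4]; norm_num)
    exact h1.map b
  have mV : ∀ {w}, w ∈ W → b w ∈ W.map b := fun hw => ⟨_, hw, rfl⟩
  have hk1 : ∀ {x : MulAut K} {k : K}, x ≠ 1 → x = MulAut.conj k → π k ≠ 1 := by
    intro x k hx hk h
    exact hx (by rw [hk, E.conj_one h])
  by_cases t1 : datPSL.tyHom (b u) = 1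
  · obtain ⟨k, hk⟩ := E.inner t1
    by_cases t2 : datPSL.tyHom (b v) = 1
    · obtain ⟨k', hk'⟩ := E.inner t2
      refine inner_inner E (hmk hu hv hu1 hv1 (Ne.symm hvu)) hk hk' (hk1 hu1 hk) (hk1 hv1 hk') ?_ hf
      intro h
      apply huv1
      rw [hk, hk', ← map_mul]
      apply E.conj_one
      have h5 : π k * π k = 1 := by
        apply Gamma.conj_inj
        rw [map_mul, map_one, ← CE.bar_conj E.ce b E.bar, ← hk]
        exact sq_bar' (hW2 u hu)
      rw [map_mul, ← h, h5]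
    · exact hno (outer_inner E (hmk hu hv hu1 hv1 (Ne.symm hvu)) t2 hk hu1)
  · by_cases t2 : datPSL.tyHom (b v) = 1
    · obtain ⟨k', hk'⟩ := E.inner t2
      exact hno (outer_inner E (hmk hv hu hv1 hu1 hvu) t1 hk' hv1)
    · by_cases t3 : datPSL.tyHom (b (u * v)) = 1
      · obtain ⟨k', hk'⟩ := E.inner t3
        exact hno (outer_inner E (hmk huv hu huv1 hu1 hne1.symm) t1 hk' huv1)
      · have sq : ∀ x : MulAut K, x * x = 1 → datPSL.tyHom (b x) * datPSL.tyHom (b x) = 1 := by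
          intro x hx
          rw [← map_mul, sq_bar' hx, map_one]
        have s1 := sq u (hW2 u hu)
        have s2 := sq v (hW2 v hv)
        have s3 := sq (u * v) (hW2 _ huv)
        have e3 : datPSL.tyHom (b (u * v)) = datPSL.tyHom (b u) * datPSL.tyHom (b v) := by
          rw [map_mul, map_mul]
        have b1 : bits (datPSL.tyHom (b u)) ≠ (false, false) := fun h => t1 (sq_inner _ h s1)
        have b2 : bits (datPSL.tyHom (b v)) ≠ (false, false) := fun h => t2 (sq_inner _ h s2)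
        have b3 : bits (datPSL.tyHom (b (u * v))) ≠ (false, false) := fun h => t3 (sq_inner _ h s3)
        have f12 := field_graph E (hmk hu hv hu1 hv1 (Ne.symm hvu)) _ hV (mV hu) (mV hv)
        have f21 := field_graph E (hmk hv hu hv1 hu1 hvu) _ hV (mV hv) (mV hu)
        have f31 := field_graph E (hmk huv hu huv1 hu1 hne1.symm) _ hV (mV huv) (mV hu)
        rw [e3] at b3 f31
        generalize datPSL.tyHom (b u) = g at b1 b3 f12 f21 f31
        generalize datPSL.tyHom (b v) = k at b2 b3 f12 f21 f31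
        have key : ∀ g k : TyG, bits g ≠ (false, false) → bits k ≠ (false, false) →
            bits (g * k) ≠ (false, false) →
            (g.ty.1 = true ∧ g.ty.2.1 = false ∧ k.ty.2.1 = true) ∨
            (k.ty.1 = true ∧ k.ty.2.1 = false ∧ g.ty.2.1 = true) ∨
            ((g * k).ty.1 = true ∧ (g * k).ty.2.1 = false ∧ g.ty.2.1 = true) := by
          rintro ⟨⟨a1, a2, a3⟩⟩ ⟨⟨c1, c2, c3⟩⟩ k1 k2 k3
          have e : bits ((⟨(a1, a2, a3)⟩ : TyG) * ⟨(c1, c2, c3)⟩) = (xor a1 c1, xor a2 c2) := rfl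
          rw [e] at k3
          clear e
          change (a1, a2) ≠ (false, false) at k1
          change (c1, c2) ≠ (false, false) at k2
          show (a1 = true ∧ a2 = false ∧ c2 = true) ∨ (c1 = true ∧ c2 = false ∧ a2 = true) ∨
            (xor a1 c1 = true ∧ xor a2 c2 = false ∧ a2 = true)
          revert a1 a2 c1 c2
          decide
        rcases key g k b1 b2 b3 with ⟨k1, k2, k3⟩ | ⟨k1, k2, k3⟩ | ⟨k1, k2, k3⟩
        · exact f12 k1 k2 k3
        · exact f21 k1 k2 k3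
        · exact f31 k1 k2 k3

/-- **GAMMA, 2-local version**, the special case -/
theorem gamma2 {K : Type*} [Group K] [Finite K] (hperf : commutator K = ⊤)
    (h2 : IsPGroup 2 (center K)) {F : Type*} [Field F] [Fintype F] (hF : Fintype.card F = 4)
    (e : K ⧸ center K ≃* Matrix.ProjectiveSpecialLinearGroup (Fin 3) F)
    (hnc : ¬ IsCyclic (center K)) (hne : ∃ z ∈ center K, z * z ≠ 1) (W : Subgroup (MulAut K))
    (hW2 : ∀ w ∈ W, w * w = 1) (hW4 : Nat.card W = 4)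
    (H : ∀ v ∈ W, v ≠ 1 → ∀ S : Subgroup K, IsPGroup 2 S → (∀ w ∈ W, ∀ s ∈ S, w s ∈ S) →
      (∀ s ∈ S, v s = s) → ∀ s ∈ S, ∀ w ∈ W, MulAut.conj (s * (w s)⁻¹) ∈ W ∧
        (s * (w s)⁻¹ ∈ center K → w s = s)) : False :=
  gamma2' hperf h2 hF e hnc hne W hW2 hW4
    (fun v hv hv1 S hS h1 h2 s hs => Or.inl (H v hv hv1 S hS h1 h2 s hs))

end Cfsg.Agent.UGT.Cov
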