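import Cfsg.Agent.UGT.Cov.KC
import Cfsg.Agent.UGT.FL34.FixX

/-!
# K-facts for `4₁.L₃(4)`, `4₂.L₃(4)`: involutory automorphisms

(k3), (k4), (k5) of THEOREM I34, part [A].
-/

set_option autoImplicit false
set_option linter.constructorNameAsVariable false
set_option linter.unusedSectionVars false
set_option linter.unusedVariables false

namespace Cfsg.Agent.UGT.Cov

open Subgroup
open Cfsg.Agent.SporadicA.FieldFour
open Cfsg.Agent.ONType.Psl (PSL3 t kap)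
open Cfsg.Agent.StdL34 (Cov Code Ty cz t0 nk trF invs ctau cmul cinv cact cone elx)
open Cfsg.Agent.OddHalf.D9.L34Mult (CE)
open Cfsg.Agent.UGT.ThEL34 (fx mem_fx)
open Cfsg.Agent.UGT.FL34 (f0 g0 x0 isTau_f0 isTau_g0 isTau_x0 simple_f0 simple_g0 solv0)
open Cfsg.Agent.LThreeFour (datPSL)

variable {K : Type*} [Group K] {A : Cov K} {π : K →* PSL3} {b : MulAut K →* MulAut PSL3}

/-! ### the image of a pure automorphism -/

theorem pu0 : ∀ (e f : Bool) (i j : Fin 3) (u : F4),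
    Cfsg.Agent.LThreeFour.pu (e, f, 0) i j u = StdL34.fr e u := by decide

theorem KC.bar_tau (D : KC A π b) {τ : Ty} {φ : MulAut K} (h : A.IsTau τ φ) :
    datPSL.IsTau (τ.1, τ.2, 0) (b φ) := by
  intro i j hij u
  have h1 := congrArg π (h i j hij u)
  rw [← D.bar, D.map_x i j hij] at h1
  have h2 : b φ (t i j u) = Cfsg.Agent.LThreeFour.imgx t (τ.1, τ.2, 0) i j u := by
    rw [h1]
    unfold StdL34.imgx Cfsg.Agent.LThreeFour.imgx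
    rw [pu0]
    split_ifs with hc
    · exact D.map_x _ _ (Cfsg.Agent.ONType.OuterL.rv_ne hij.symm) _
    · exact D.map_x i j hij _
  exact h2

theorem KC.bar_f (D : KC A π b) {φ : MulAut K} (h : A.IsTau (true, false) φ) : b φ = f0 :=
  (D.bar_tau h).ext isTau_f0

theorem KC.bar_g (D : KC A π b) {φ : MulAut K} (h : A.IsTau (false, true) φ) : b φ = g0 :=
  (D.bar_tau h).ext isTau_g0

theorem KC.bar_c (D : KC A π b) {φ : MulAut K} (h : A.IsTau (true, true) φ) : b φ = x0 :=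
  (D.bar_tau h).ext isTau_x0

theorem KC.fx_le (D : KC A π b) (φ : MulAut K) : fx φ ≤ (fx (b φ)).comap π := by
  intro k hk
  show b φ (π k) = π k
  rw [D.bar, show φ k = k from hk]

/-! ### (k3) -/

theorem k3_code : ∀ (ty : Bool) (τ : Ty), invs ty τ = true →
    (∃ a b' c k, cmul ty (ctau ty τ ⟨a, b', c, k⟩) (cinv ty ⟨a, b', c, k⟩) = ⟨0, 0, 1, 0⟩) ∧
    ∃ a b' c k, cmul ty (ctau ty τ ⟨a, b', c, k⟩) (cinv ty ⟨a, b', c, k⟩) = ⟨0, 0, 1, 2⟩ := by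
  decide +kernel

theorem cmove_code : ∀ (ty : Bool) (m : Fin 4),
    ∃ a b' c k, cmul ty (ctau ty (true, true) ⟨a, b', c, k⟩) (cinv ty ⟨a, b', c, k⟩) =
      ⟨0, 0, 0, m⟩ := by
  decide +kernel

theorem x02_ncen (D : KC A π b) {c : F4} (hc : c ≠ 0) {ζ : K} (hζ : ζ ∈ center K) :
    A.x 0 2 c * ζ ∉ center K := by
  intro h
  have h1 : A.x 0 2 c ∈ center K := by
    have := mul_mem h (inv_mem hζ)
    rwa [mul_inv_cancel_right] at this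
  rw [← D.ker] at h1
  have h2 : t 0 2 c = 1 := by
    rw [← D.map_x 0 2 (by decide)]; exact h1
  have h3 : datPSL.x 0 2 c = 1 := h2
  rw [← datPSL.el_x02, datPSL.el_eq_one] at h3
  exact hc (congrArg Cfsg.Agent.LThreeFour.Code.c h3)

theorem KC.z_mem (D : KC A π b) : A.z ∈ center K := by
  rw [D.cz]
  exact mul_mem (mem_zpowers _) (mem_zpowers _)

theorem KC.z_ne (D : KC A π b) : A.z ≠ 1 := by
  intro h
  have h1 : A.el ⟨0, 0, 0, 2⟩ = A.el ⟨0, 0, 0, 0⟩ := by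
    rw [A.el_sp, A.el_sp, ← A.z_eq, h, A.sp_zero]
  exact absurd (congrArg Code.k (A.inj h1)) (by decide)

theorem KC.exists_sp (D : KC A π b) {u : K} (hu : u ∈ center K) : ∃ k : Fin 4, u = A.sp k := by
  rw [D.cz] at hu
  obtain ⟨n, rfl⟩ := mem_zpowers_iff.mp hu
  have h1 : A.s ^ (n % 4) = A.s ^ n := by
    have := zpow_mod_orderOf A.s n
    rwa [D.ord] at this
  have h2 : 0 ≤ n % 4 := Int.emod_nonneg _ (by norm_num)
  have h3 : n % 4 < 4 := Int.emod_lt_of_pos _ (by norm_num)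
  refine ⟨⟨(n % 4).toNat, by omega⟩, ?_⟩
  show A.s ^ n = A.s ^ (n % 4).toNat
  rw [← h1, ← zpow_natCast, Int.toNat_of_nonneg h2]

/-- the involution of the centre -/
theorem KC.eq_z (D : KC A π b) {u : K} (hu : u ∈ center K) (hu1 : u ≠ 1) (huu : u * u = 1) :
    u = A.z := by
  obtain ⟨k, rfl⟩ := D.exists_sp hu
  rw [A.sp_add] at huu
  have h1 : A.el ⟨0, 0, 0, k + k⟩ = A.el ⟨0, 0, 0, 0⟩ := by rw [A.el_sp, A.el_sp, huu, A.sp_zero]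
  have h2 : k + k = 0 := congrArg Code.k (A.inj h1)
  have h3 : ∀ k : Fin 4, k + k = 0 → k = 0 ∨ k = 2 := by decide
  rcases h3 k h2 with rfl | rfl
  · exact absurd A.sp_zero hu1
  · exact A.z_eq.symm

/-- (k3), outer automorphisms inverting the centre -/
theorem KC.k3_tau (D : KC A π b) {τ : Ty} {φ : MulAut K} (h : A.IsTau τ φ)
    (hi : invs A.ty τ = true) :
    φ (A.x 0 2 1) = A.x 0 2 1 ∧ (∃ x, φ x * x⁻¹ = A.x 0 2 1) ∧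
      ∃ y, φ y * y⁻¹ = A.x 0 2 1 * A.z := by
  obtain ⟨⟨a, b', c, k, h1⟩, a2, b2, c2, k2, h2⟩ := k3_code A.ty τ hi
  refine ⟨?_, ⟨A.el ⟨a, b', c, k⟩, ?_⟩, ⟨A.el ⟨a2, b2, c2, k2⟩, ?_⟩⟩
  · rw [h.x02]
    congr 1
    have : ∀ e, StdL34.fr e (1 : F4) = 1 := by decide
    exact this _
  · rw [h.el, A.el_inv, A.el_mul, h1, A.el_x02]
  · rw [h.el, A.el_inv, A.el_mul, h2, el_x02z]

/-- (k3), the type `c`: all `c ζ` are conjugate -/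
theorem KC.k3_c (D : KC A π b) {φ : MulAut K} (h : A.IsTau (true, true) φ) {ζ : K}
    (hζ : ζ ∈ center K) : ∃ x, φ x * x⁻¹ = ζ := by
  obtain ⟨m, rfl⟩ := D.exists_sp hζ
  obtain ⟨a, b', c, k, h1⟩ := cmove_code A.ty m
  refine ⟨A.el ⟨a, b', c, k⟩, ?_⟩
  rw [h.el, A.el_inv, A.el_mul, h1, A.el_sp]

theorem sq_code : ∀ (ty : Bool) (m : Fin 4), m = 0 ∨ m = 2 → ∃ k : Fin 4,
    cmul ty ⟨F4.v, F4.v, 0, k⟩ ⟨F4.v, F4.v, 0, k⟩ = ⟨0, 0, F4.w, m⟩ := by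
  decide

theorem x02_comm_code : ∀ (ty : Bool) (p : Code) (k : Fin 4), k = 0 ∨ k = 2 → t0 p →
    cmul ty p ⟨0, 0, 1, k⟩ = cmul ty ⟨0, 0, 1, k⟩ p := by
  decide +kernel

/-- the centraliser of `x₀₂(1)` -/
theorem comm_x02_iff (A : Cov K) {k : K} : k * A.x 0 2 1 = A.x 0 2 1 * k ↔ ∃ p, t0 p ∧ A.el p = k := by
  constructor
  · intro h
    obtain ⟨p, rfl⟩ := Cov.mem_of_commute h
    refine ⟨p, ?_, rfl⟩
    rw [← A.el_x02, A.el_mul, A.el_mul] at h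
    exact (StdL34.t0_comm A.ty p).mp (A.inj h)
  · rintro ⟨p, hp, rfl⟩
    rw [← A.el_x02, A.el_mul, A.el_mul, (StdL34.t0_comm A.ty p).mpr hp]

/-- (k3), (k4) for inner automorphisms -/
theorem KC.k3_inner (D : KC A π b) :
    (∃ x, MulAut.conj (A.x 0 2 1) x * x⁻¹ = A.x 0 2 F4.w) ∧
    (∃ y, MulAut.conj (A.x 0 2 1) y * y⁻¹ = A.x 0 2 F4.w * A.z) ∧
    (∃ r, r * A.x 0 2 1 = A.x 0 2 1 * r ∧ r * r = A.x 0 2 F4.w) ∧
    (∃ r, r * A.x 0 2 1 = A.x 0 2 1 * r ∧ r * r = A.x 0 2 F4.w * A.z) ∧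
    ∃ p q, p * A.x 0 2 1 = A.x 0 2 1 * p ∧ q * A.x 0 2 1 = A.x 0 2 1 * q ∧
      p * q * p⁻¹ * q⁻¹ = A.z := by
  have hx : ∀ x m : K, x * A.x 0 2 1 * x⁻¹ = A.x 0 2 1 * m →
      MulAut.conj (A.x 0 2 1) x * x⁻¹ = m := by
    intro x m h
    rw [MulAut.conj_apply, A.x_inv 0 2 (by decide)]
    calc A.x 0 2 1 * x * A.x 0 2 1 * x⁻¹ = A.x 0 2 1 * (x * A.x 0 2 1 * x⁻¹) := by group
      _ = A.x 0 2 1 * (A.x 0 2 1 * m) := by rw [h]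
      _ = (A.x 0 2 1 * A.x 0 2 1) * m := by group
      _ = m := by rw [A.x_sq 0 2 (by decide), one_mul]
  have h1 : A.h⁻¹ * A.x 0 2 1 * A.h = A.x 0 2 F4.v := A.h_x 0 2 (by decide) 1
  have h2 : A.x 0 2 F4.v = A.x 0 2 1 * A.x 0 2 F4.w := by
    rw [A.x_add 0 2 (by decide)]; rfl
  have hz : A.el ⟨0, 0, F4.w, 2⟩ = A.x 0 2 F4.w * A.z := by
    rw [A.el_eq, A.x_zero 0 1 (by decide), A.x_zero 1 2 (by decide), A.z_eq, one_mul, one_mul]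
  have h3 : A.x 0 1 1 * A.x 0 2 F4.v * (A.x 0 1 1)⁻¹ = A.x 0 2 F4.v * A.z := by
    have := A.row 0 1 2 (by decide) (by decide) (by decide) 1 F4.v
    have e1 : StdL34.t2 (1 * F4.v) = 2 := by decide
    rw [e1, ← A.z_eq] at this
    have hz' : A.z * (A.x 0 1 1)⁻¹ = (A.x 0 1 1)⁻¹ * A.z := by
      rw [A.z_eq]; exact A.sp_cen 2 _
    rw [this, mul_assoc, hz', ← mul_assoc, mul_inv_cancel_right]
  refine ⟨⟨A.h⁻¹, hx _ _ ?_⟩, ⟨A.x 0 1 1 * A.h⁻¹, hx _ _ ?_⟩, ?_, ?_, ?_⟩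
  · rw [inv_inv, h1, h2]
  · calc A.x 0 1 1 * A.h⁻¹ * A.x 0 2 1 * (A.x 0 1 1 * A.h⁻¹)⁻¹
        = A.x 0 1 1 * (A.h⁻¹ * A.x 0 2 1 * A.h) * (A.x 0 1 1)⁻¹ := by group
      _ = A.x 0 2 F4.v * A.z := by rw [h1, h3]
      _ = _ := by rw [h2, mul_assoc]
  · obtain ⟨k, hk⟩ := sq_code A.ty 0 (Or.inl rfl)
    refine ⟨A.el ⟨F4.v, F4.v, 0, k⟩, (comm_x02_iff A).mpr ⟨⟨F4.v, F4.v, 0, k⟩, rfl, rfl⟩, ?_⟩
    rw [A.el_mul, hk, A.el_x02]
  · obtain ⟨k, hk⟩ := sq_code A.ty 2 (Or.inr rfl)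
    refine ⟨A.el ⟨F4.v, F4.v, 0, k⟩, (comm_x02_iff A).mpr ⟨⟨F4.v, F4.v, 0, k⟩, rfl, rfl⟩, ?_⟩
    rw [A.el_mul, hk, hz]
  · refine ⟨A.el ⟨1, 0, 0, 0⟩, A.el ⟨0, 0, F4.w, 0⟩, (comm_x02_iff A).mpr ⟨⟨1, 0, 0, 0⟩, rfl, rfl⟩,
      (comm_x02_iff A).mpr ⟨⟨0, 0, F4.w, 0⟩, rfl, rfl⟩, ?_⟩
    rw [A.el_inv, A.el_inv, A.el_mul, A.el_mul, A.el_mul, A.z_eq, ← A.el_sp]
    congr 1
    have : ∀ ty, cmul ty (cmul ty (cmul ty ⟨1, 0, 0, 0⟩ ⟨0, 0, F4.w, 0⟩) (cinv ty ⟨1, 0, 0, 0⟩))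
      (cinv ty ⟨0, 0, F4.w, 0⟩) = ⟨0, 0, 0, 2⟩ := by decide
    exact this A.ty

theorem KC.k4_inner (D : KC A π b) : IsPGroup 2 (fx (MulAut.conj (A.x 0 2 1))) := by
  rintro ⟨k, hk⟩
  refine ⟨4, ?_⟩
  apply Subtype.ext
  show k ^ (2 ^ 4) = 1
  have h1 : k * A.x 0 2 1 = A.x 0 2 1 * k := by
    have h2 : A.x 0 2 1 * k * (A.x 0 2 1)⁻¹ = k := hk
    rw [mul_inv_eq_iff_eq_mul] at h2
    exact h2.symm
  obtain ⟨p, -, rfl⟩ := (comm_x02_iff A).mp h1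
  have h2 := StdL34.pow16 A.ty p
  have e : A.el p ^ (2 ^ 4) = ((A.el p * A.el p) * (A.el p * A.el p) * ((A.el p * A.el p) * (A.el p * A.el p))) *
      ((A.el p * A.el p) * (A.el p * A.el p) * ((A.el p * A.el p) * (A.el p * A.el p))) := by
    simp only [← pow_two, ← pow_mul]
    norm_num
  rw [e]
  simp only [A.el_mul]
  rw [h2, A.el_one]

/-! ### (k5) -/

theorem k5_code : ∀ (ty : Bool) (τ : Ty), τ ≠ (false, false) → ∃ a b' c k,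
    t0 ⟨a, b', c, k⟩ ∧ (fun q : Code => ¬ cz (cmul ty q q))
      (cmul ty (ctau ty τ ⟨a, b', c, k⟩) (cinv ty ⟨a, b', c, k⟩)) := by
  decide +kernel

theorem cz_iff (D : KC A π b) (p : Code) : A.el p ∈ center K ↔ cz p := by
  constructor
  · intro h
    rw [← D.ker] at h
    exact Cov.cz_of_conj (D.conj_one h)
  · intro h
    rw [Cov.cz_el h, D.cz]
    exact mem_zpowers_iff.mpr ⟨((p.k : ℕ) : ℤ), by rw [zpow_natCast]; rfl⟩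

/-- (k5) in adapted coordinates -/
theorem KC.k5_tau (D : KC A π b) {τ : Ty} (hτ : τ ≠ (false, false)) {φ : MulAut K}
    (h : A.IsTau τ φ) : ∃ p, p * A.x 0 2 1 = A.x 0 2 1 * p ∧
      φ p * p⁻¹ * (φ p * p⁻¹) ∉ center K := by
  obtain ⟨a, b', c, k, h0, h1⟩ := k5_code A.ty τ hτ
  refine ⟨A.el ⟨a, b', c, k⟩, (comm_x02_iff A).mpr ⟨_, h0, rfl⟩, ?_⟩
  rw [h.el, A.el_inv, A.el_mul, A.el_mul, cz_iff D]
  exact h1

/-- **(k5)** -/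
theorem KC.k5 (D : KC A π b) {φ : MulAut K} (ho : ∀ k, φ ≠ MulAut.conj k) (h2 : φ * φ = 1)
    {s : K} (hs : s * s = 1) (hc : s ∉ center K) (hφs : φ s = s) :
    ∃ p, p * s = s * p ∧ φ p * p⁻¹ * (φ p * p⁻¹) ∉ center K := by
  obtain ⟨A', π', b', D', -, -, ⟨τ, hτ, ht⟩, hs'⟩ := D.adapt2 ho h2 hs hc hφs
  obtain ⟨p, hp, hp'⟩ := D'.k5_tau hτ ht
  refine ⟨p, ?_, hp'⟩
  rcases hs' with h | h
  · rw [h, hp]
  · have hz : p * A'.z = A'.z * p := mem_center_iff.mp D'.z_mem p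
    rw [h, ← mul_assoc, hp, mul_assoc, hz, ← mul_assoc]

end Cfsg.Agent.UGT.Cov
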