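import Cfsg.Agent.UGT.Cov.KC
import Cfsg.Agent.UGT.FL34.FixX

/-!
# The components of the fixed points of field and graph automorphisms of `4ᵢ.L₃(4)`

`res_tau`: for `φ` of type field or graph, `J = ⁅D, D⁆`, `D = π⁻¹(C(b φ))`, is simple, `J ≤ C_K(φ) ≤ J Z(K)`,
`J ∩ Z(K) = 1`.
-/

set_option autoImplicit false
set_option linter.constructorNameAsVariable false
set_option linter.unusedSectionVars false
set_option linter.unusedVariables false

namespace Cfsg.Agent.UGT.Cov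

open Subgroup
open scoped commutatorElement

/-! ### generalities -/

section general

variable {K P : Type*} [Group K] [Group P] {π : K →* P}

theorem comm_le (D : Subgroup K) : ⁅D, D⁆ ≤ D := by
  rw [Subgroup.commutator_le]
  intro x hx y hy
  rw [commutatorElement_def]
  exact mul_mem (mul_mem (mul_mem hx hy) (inv_mem hx)) (inv_mem hy)

theorem map_comm_comap (hsurj : Function.Surjective π) {F0 : Subgroup P} (hperf : ⁅F0, F0⁆ = F0) :
    (⁅F0.comap π, F0.comap π⁆).map π = F0 := by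
  rw [Subgroup.map_commutator, Subgroup.map_comap_eq_self_of_surjective hsurj, hperf]

theorem comap_eq_sup (hsurj : Function.Surjective π) {F0 : Subgroup P} (hperf : ⁅F0, F0⁆ = F0) :
    F0.comap π ≤ ⁅F0.comap π, F0.comap π⁆ ⊔ π.ker := by
  intro d hd
  have h1 : π d ∈ (⁅F0.comap π, F0.comap π⁆).map π := by
    rw [map_comm_comap hsurj hperf]; exact hd
  obtain ⟨j, hj, hj'⟩ := h1
  have h2 : d = j * (j⁻¹ * d) := by group
  rw [h2]
  refine mul_mem_sup hj ?_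
  show π (j⁻¹ * d) = 1
  rw [map_mul, map_inv, hj', inv_mul_cancel]

theorem comm_mul_cen {x y c d : K} (hc : ∀ m, c * m = m * c) (hd : ∀ m, d * m = m * d) :
    ⁅x * c, y * d⁆ = ⁅x, y⁆ := by
  rw [commutatorElement_def, commutatorElement_def]
  calc x * c * (y * d) * (x * c)⁻¹ * (y * d)⁻¹
      = x * (c * (y * d)) * (c⁻¹ * x⁻¹) * (d⁻¹ * y⁻¹) := by group
    _ = x * (y * d * c) * (c⁻¹ * x⁻¹) * (d⁻¹ * y⁻¹) := by rw [hc]
    _ = x * y * (d * (x⁻¹ * d⁻¹)) * y⁻¹ := by group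
    _ = x * y * (x⁻¹ * d⁻¹ * d) * y⁻¹ := by rw [hd]
    _ = _ := by group

theorem comm_comm_comap (hcen : ∀ k, π k = 1 → ∀ m, k * m = m * k)
    (hsurj : Function.Surjective π) {F0 : Subgroup P} (hperf : ⁅F0, F0⁆ = F0) :
    ⁅⁅F0.comap π, F0.comap π⁆, ⁅F0.comap π, F0.comap π⁆⁆ = ⁅F0.comap π, F0.comap π⁆ := by
  apply le_antisymm
  · exact Subgroup.commutator_mono (comm_le _) (comm_le _)
  · rw [Subgroup.commutator_le]
    intro x hx y hy
    have key : ∀ d ∈ F0.comap π, ∃ j ∈ ⁅F0.comap π, F0.comap π⁆, ∃ c, π c = 1 ∧ d = j * c := by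
      intro d hd
      have h1 : π d ∈ (⁅F0.comap π, F0.comap π⁆).map π := by
        rw [map_comm_comap hsurj hperf]; exact hd
      obtain ⟨j, hj, hj'⟩ := h1
      exact ⟨j, hj, j⁻¹ * d, by rw [map_mul, map_inv, hj', inv_mul_cancel], by group⟩
    obtain ⟨j, hj, c, hc, rfl⟩ := key x hx
    obtain ⟨j', hj', c', hc', rfl⟩ := key y hy
    rw [comm_mul_cen (hcen c hc) (hcen c' hc')]
    exact Subgroup.commutator_mem_commutator hj hj'

/-- transfer: a central 2-subgroup splitting off the Sylow 2-subgroup meets the commutator group trivially -/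
theorem comm_inf_cen [Finite K] {D T Z : Subgroup K} (hTD : T ≤ D) (hodd : ¬ 2 ∣ T.relIndex D)
    {C : Type*} [CommGroup C] (ϕ : T →* C) (hZT : Z ≤ T) (hZc : ∀ z ∈ Z, ∀ m, z * m = m * z)
    (hZ2 : IsPGroup 2 Z) (hinj : ∀ z (hz : z ∈ Z), ϕ ⟨z, hZT hz⟩ = 1 → z = 1) :
    ∀ z ∈ ⁅D, D⁆, z ∈ Z → z = 1 := by
  intro z hzD hz
  let H : Subgroup D := T.subgroupOf D
  let ϕ' : H →* C := ϕ.comp (subgroupOfEquivOfLe hTD).toMonoidHom
  have hzD' : z ∈ D := hTD (hZT hz)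
  have hmem : (⟨z, hzD'⟩ : D) ∈ _root_.commutator D := by
    have h1 : (_root_.commutator D).map D.subtype = ⁅D, D⁆ := by
      rw [commutator_def, Subgroup.map_commutator, ← MonoidHom.range_eq_map, D.range_subtype]
    rw [← h1] at hzD
    obtain ⟨y, hy, hy'⟩ := hzD
    have : y = ⟨z, hzD'⟩ := Subtype.ext hy'
    rwa [← this]
  have h1 : (MonoidHom.transfer ϕ') ⟨z, hzD'⟩ = 1 :=
    Abelianization.commutator_subset_ker (MonoidHom.transfer ϕ') hmem
  have hcenz : ∀ k : ℕ, ∀ m : K, m⁻¹ * z ^ k * m = z ^ k := by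
    intro k m
    have : Commute z m := hZc z hz m
    have h2 := (this.pow_left k).eq
    rw [mul_assoc, h2, ← mul_assoc, inv_mul_cancel, one_mul]
  have key : ∀ (k : ℕ) (g₀ : D), g₀⁻¹ * (⟨z, hzD'⟩ : D) ^ k * g₀ ∈ H →
      g₀⁻¹ * (⟨z, hzD'⟩ : D) ^ k * g₀ = (⟨z, hzD'⟩ : D) ^ k := by
    intro k g₀ _
    apply Subtype.ext
    exact hcenz k g₀
  rw [MonoidHom.transfer_eq_pow ϕ' _ key] at h1
  have h2 : z ^ H.index = 1 := by
    apply hinj (z ^ H.index) (pow_mem hz _)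
    exact h1
  obtain ⟨n, hn⟩ := hZ2 ⟨z, hz⟩
  have hn' : z ^ 2 ^ n = 1 := congrArg Subtype.val hn
  have h3 : orderOf z ∣ H.index := orderOf_dvd_of_pow_eq_one h2
  have h4 : orderOf z ∣ 2 ^ n := orderOf_dvd_of_pow_eq_one hn'
  obtain ⟨m, -, hm⟩ := (Nat.dvd_prime_pow Nat.prime_two).mp h4
  rcases m with _ | m
  · exact orderOf_eq_one_iff.mp hm
  · exfalso
    apply hodd
    refine dvd_trans ?_ h3
    rw [hm, pow_succ]
    exact dvd_mul_left _ _

end general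

open Cfsg.Agent.SporadicA.FieldFour
open Cfsg.Agent.ONType.Psl (PSL3 t kap)
open Cfsg.Agent.StdL34 (Cov Code Ty cz t0 nk trF invs ctau cmul cinv cact cone elx cq)
open Cfsg.Agent.OddHalf.D9.L34Mult (CE)
open Cfsg.Agent.UGT.ThEL34 (fx mem_fx)
open Cfsg.Agent.UGT.FL34 (f0 g0 x0 isTau_f0 isTau_g0 isTau_x0 simple_f0 simple_g0 solv0)
open Cfsg.Agent.LThreeFour (datPSL)

/-- `F ∩ P̄` is a Sylow 2-subgroup of `F` -/
theorem odd_relIndex {F0 : Subgroup PSL3} (ht : t 0 2 1 ∈ F0)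
    (hZ : ∀ q ∈ F0, q ∈ datPSL.T → (∀ q' ∈ F0, q' ∈ datPSL.T → q * q' = q' * q) → ∃ c, q = t 0 2 c) :
    ¬ 2 ∣ (datPSL.T ⊓ F0).relIndex F0 := by
  have hfin : Finite PSL3 := datPSL.finite
  have hp : Fact (Nat.Prime 2) := ⟨Nat.prime_two⟩
  have hT2 : IsPGroup 2 datPSL.T := IsPGroup.of_card (n := 6) (by rw [datPSL.card_T]; norm_num)
  have hQ2 : IsPGroup 2 ((datPSL.T ⊓ F0).subgroupOf F0) := by
    refine IsPGroup.of_injective (hT2.to_le inf_le_left : IsPGroup 2 ↥(datPSL.T ⊓ F0))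
      (subgroupOfEquivOfLe (inf_le_right : datPSL.T ⊓ F0 ≤ F0)).toMonoidHom ?_
    exact (subgroupOfEquivOfLe _).injective
  obtain ⟨S, hS⟩ := hQ2.exists_le_sylow
  have htT : t 0 2 1 ∈ datPSL.T := ⟨⟨0, 0, 1⟩, datPSL.el_x02 1⟩
  have htS : (⟨t 0 2 1, ht⟩ : F0) ∈ (S : Subgroup F0) := hS ⟨htT, ht⟩
  have ht1 : t 0 2 1 ≠ 1 := by
    intro h
    have h2 : datPSL.x 0 2 1 = 1 := h
    rw [← datPSL.el_x02, datPSL.el_eq_one] at h2
    exact absurd h2 (by decide)
  have hnt : Nontrivial (S : Subgroup F0) :=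
    ⟨⟨⟨_, htS⟩, 1, fun h => ht1 (congrArg (fun x => ((x : (S : Subgroup F0)) : F0).1) h)⟩⟩
  have hcnt := S.isPGroup'.center_nontrivial
  obtain ⟨⟨z, hzc⟩, hz1⟩ := exists_ne (1 : center (S : Subgroup F0))
  have hcomm : ∀ x : F0, x ∈ (S : Subgroup F0) → (z : F0).1 * x.1 = x.1 * (z : F0).1 := by
    intro x hx
    have h1 := mem_center_iff.mp hzc ⟨x, hx⟩
    have h2 := congrArg (fun y : (S : Subgroup F0) => ((y : F0) : PSL3)) h1
    exact h2.symm
  have hzT : (z : F0).1 ∈ datPSL.T := by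
    rw [← Cfsg.Agent.LThreeFour.Dat.cent_x02]
    exact hcomm _ htS
  obtain ⟨c, hc⟩ := hZ _ (z : F0).2 hzT (fun q' h1 h2 => hcomm ⟨q', h1⟩ (hS ⟨h2, h1⟩))
  have hc0 : c ≠ 0 := by
    rintro rfl
    apply hz1
    apply Subtype.ext
    apply Subtype.ext
    apply Subtype.ext
    rw [show (((⟨z, hzc⟩ : center (S : Subgroup F0)) : (S : Subgroup F0)) : F0).1 = t 0 2 0 from hc,
      Cfsg.Agent.ONType.Psl.t_zero]
    rfl
  have hSQ : (S : Subgroup F0) ≤ (datPSL.T ⊓ F0).subgroupOf F0 := by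
    intro x hx
    refine ⟨?_, x.2⟩
    have h1 := hcomm x hx
    rw [hc] at h1
    exact (Cfsg.Agent.LThreeFour.Dat.cent_x02_any (A := datPSL) hc0).mp h1.symm
  have heq : (datPSL.T ⊓ F0).subgroupOf F0 = S := le_antisymm hS hSQ
  unfold Subgroup.relIndex
  rw [heq]
  exact S.not_dvd_index

/-! ### The component -/

/-- number of nonzero entries -/
def nz (u : F4) : ZMod 4 := if u = 0 then 0 else 1

/-- the central coordinate of a code of a fixed point modulo the centre -/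
def kapp (ty : Bool) (τ : Ty) (p : Code) : ZMod 4 :=
  (show ZMod 4 from p.k) + if ty && τ.1 then 2 * (nz p.a + nz p.b + nz p.c) else 0

set_option maxRecDepth 100000 in
theorem kapp_hom : ∀ (ty : Bool) (τ : Ty), (τ = (true, false) ∨ τ = (false, true)) → ∀ p : Code,
    cq (ctau ty τ p) p → ∀ q : Code, cq (ctau ty τ q) q →
      kapp ty τ (cmul ty p q) = kapp ty τ p + kapp ty τ q := by
  decide +kernel

/-- the centre of `F ∩ P̄` -/
theorem center_code : ∀ (ty : Bool) (τ : Ty), (τ = (true, false) ∨ τ = (false, true)) → ∀ a b c : F4,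
    cq (ctau ty τ ⟨a, b, c, 0⟩) ⟨a, b, c, 0⟩ → (∀ a' b' c' : F4,
      cq (ctau ty τ ⟨a', b', c', 0⟩) ⟨a', b', c', 0⟩ →
      cq (cmul ty ⟨a, b, c, 0⟩ ⟨a', b', c', 0⟩) (cmul ty ⟨a', b', c', 0⟩ ⟨a, b, c, 0⟩)) →
      a = 0 ∧ b = 0 := by
  decide +kernel

variable {K : Type*} [Group K] {A : Cov K} {π : K →* PSL3} {b : MulAut K →* MulAut PSL3}

theorem KC.bar_tau' (D : KC A π b) {τ : Ty} {φ : MulAut K} (h : A.IsTau τ φ) :
    datPSL.IsTau (τ.1, τ.2, 0) (b φ) := by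
  intro i j hij u
  have pu0 : ∀ (e f : Bool) (i j : Fin 3) (u : F4),
    Cfsg.Agent.LThreeFour.pu (e, f, 0) i j u = StdL34.fr e u := by decide
  have h1 := congrArg π (h i j hij u)
  rw [← D.bar, D.map_x i j hij] at h1
  have h2 : b φ (t i j u) = Cfsg.Agent.LThreeFour.imgx t (τ.1, τ.2, 0) i j u := by
    rw [h1]
    unfold StdL34.imgx Cfsg.Agent.LThreeFour.imgx
    rw [pu0]
    split_ifs with hc
    · exact D.map_x _ _ (Cfsg.Agent.ONType.OuterL.rv_ne hij.symm) _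
    · exact D.map_x i j hij _
  exact h2

theorem KC.pi_sp (D : KC A π b) (k : Fin 4) : π (A.sp k) = 1 := by
  have h : A.sp k ∈ π.ker := by
    rw [D.ker, mem_center_iff]
    exact fun m => (A.sp_cen k m).symm
  exact h

theorem KC.pi_el (D : KC A π b) (p : Code) : π (A.el p) = datPSL.el ⟨p.a, p.b, p.c⟩ := by
  rw [A.el_eq, map_mul, map_mul, map_mul, D.pi_sp, mul_one, D.map_x 0 1 (by decide),
    D.map_x 1 2 (by decide), D.map_x 0 2 (by decide)]
  rfl

theorem KC.pi_el_iff (D : KC A π b) (p q : Code) : π (A.el p) = π (A.el q) ↔ cq p q := by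
  rw [D.pi_el, D.pi_el]
  constructor
  · intro h
    have h1 := datPSL.inj h
    exact ⟨congrArg LThreeFour.Code.a h1, congrArg LThreeFour.Code.b h1,
      congrArg LThreeFour.Code.c h1⟩
  · rintro ⟨h1, h2, h3⟩
    rw [h1, h2, h3]

theorem KC.of_pi (D : KC A π b) {k : K} (h : π k = 1) : ∃ m : Fin 4, k = A.sp m := by
  have h1 : MulAut.conj k = 1 := D.conj_one h
  exact Cov.conj_eq_one h1

theorem KC.exists_code (D : KC A π b) {l : K} (h : π l ∈ datPSL.T) : ∃ p, A.el p = l := by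
  obtain ⟨q, hq⟩ := h
  obtain ⟨m, hm⟩ := D.of_pi (k := (A.el ⟨q.a, q.b, q.c, 0⟩)⁻¹ * l) (by
    rw [map_mul, map_inv, D.pi_el, ← hq, inv_mul_cancel])
  refine ⟨⟨q.a, q.b, q.c, m⟩, ?_⟩
  rw [A.el_nk]
  show A.el ⟨q.a, q.b, q.c, 0⟩ * A.sp m = l
  rw [← hm, mul_inv_cancel_left]

theorem KC.fixed_code (D : KC A π b) {τ : Ty} {φ : MulAut K} (h : A.IsTau τ φ) (p : Code) :
    π (A.el p) ∈ fx (b φ) ↔ cq (ctau A.ty τ p) p := by
  rw [mem_fx, D.bar, h.el, D.pi_el_iff]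

/-- the data of the component of the fixed points -/
structure ResData (φ : MulAut K) (J : Subgroup K) : Prop where
  le : J ≤ fx φ
  simple : IsSimpleGroup J
  perf : ⁅J, J⁆ = J
  inf : ∀ j ∈ J, j ∈ center K → j = 1
  sup : fx φ ≤ J ⊔ center K
  comm : ⁅fx φ, fx φ⁆ = J
  inv : ∃ s ∈ J, s ≠ 1 ∧ s * s = 1

theorem KC.res_tau [Finite K] (D : KC A π b) {τ : Ty} (hτ : τ = (true, false) ∨ τ = (false, true))
    {φ : MulAut K} (h : A.IsTau τ φ) :
    ResData φ ⁅(fx (b φ)).comap π, (fx (b φ)).comap π⁆ ∧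
      (⁅(fx (b φ)).comap π, (fx (b φ)).comap π⁆).map π = fx (b φ) ∧ IsSimpleGroup (fx (b φ)) := by
  classical
  set F0 := fx (b φ) with hF0
  have hsimple : IsSimpleGroup F0 := by
    rcases hτ with rfl | rfl
    · rw [hF0, (D.bar_tau' h).ext isTau_f0]; exact simple_f0
    · rw [hF0, (D.bar_tau' h).ext isTau_g0]; exact simple_g0
  have htF : ∀ i j : Fin 3, (i = 0 ∧ j = 2 ∨ i = 2 ∧ j = 0) → t i j 1 ∈ F0 := by
    intro i j hij
    have h1 : i ≠ j := by
      rcases hij with ⟨rfl, rfl⟩ | ⟨rfl, rfl⟩ <;> decide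
    show b φ (t i j 1) = t i j 1
    rw [← D.map_x i j h1, D.bar]
    congr 1
    rcases hij with ⟨rfl, rfl⟩ | ⟨rfl, rfl⟩
    · rw [h.x02]
      have : ∀ e, StdL34.fr e (1 : F4) = 1 := by decide
      rw [this]
    · rw [h.x20]
      have : ∀ e, StdL34.fr e (1 : F4) = 1 := by decide
      rw [this]
  have ht02 : t 0 2 1 ∈ F0 := htF 0 2 (Or.inl ⟨rfl, rfl⟩)
  have ht20 : t 2 0 1 ∈ F0 := htF 2 0 (Or.inr ⟨rfl, rfl⟩)
  have hnc : t 0 2 1 * t 2 0 1 ≠ t 2 0 1 * t 0 2 1 := by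
    intro hc
    have h1 : (t 0 2 1 * t 2 0 1) ^ (2 ^ 1) = 1 := by
      rw [pow_one, pow_two]
      calc t 0 2 1 * t 2 0 1 * (t 0 2 1 * t 2 0 1)
          = t 0 2 1 * t 2 0 1 * (t 2 0 1 * t 0 2 1) := by rw [← hc]
        _ = t 0 2 1 * (t 2 0 1 * t 2 0 1) * t 0 2 1 := by group
        _ = 1 := by
          have e1 : t 2 0 1 * t 2 0 1 = 1 := datPSL.x_sq 2 0 (by decide) 1
          have e2 : t 0 2 1 * t 0 2 1 = 1 := datPSL.x_sq 0 2 (by decide) 1
          rw [e1, mul_one, e2]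
    exact StdL34.PslCent.tt_pow_ne 1 h1
  have hperf : ⁅F0, F0⁆ = F0 := by
    have h1 : _root_.commutator F0 = ⊥ ∨ _root_.commutator F0 = ⊤ :=
      hsimple.eq_bot_or_eq_top_of_normal _ inferInstance
    have h2 : (_root_.commutator F0).map F0.subtype = ⁅F0, F0⁆ := by
      rw [commutator_def, Subgroup.map_commutator, ← MonoidHom.range_eq_map, F0.range_subtype]
    rcases h1 with h1 | h1
    · exfalso
      apply hnc
      have h3 : ⁅(⟨t 0 2 1, ht02⟩ : F0), ⟨t 2 0 1, ht20⟩⁆ ∈ _root_.commutator F0 :=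
        Subgroup.commutator_mem_commutator (mem_top _) (mem_top _)
      rw [h1, mem_bot, commutatorElement_eq_one_iff_mul_comm] at h3
      exact congrArg Subtype.val h3
    · rw [h1, ← MonoidHom.range_eq_map, F0.range_subtype] at h2
      exact h2.symm
  -- Sylow
  have hodd : ¬ 2 ∣ (datPSL.T ⊓ F0).relIndex F0 := by
    apply odd_relIndex ht02
    intro q hq hqT hq'
    obtain ⟨k, rfl⟩ := D.ce.surj q
    obtain ⟨p, rfl⟩ := D.exists_code hqT
    have hp : cq (ctau A.ty τ ⟨p.a, p.b, p.c, 0⟩) ⟨p.a, p.b, p.c, 0⟩ := by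
      rw [← D.fixed_code h, D.pi_el]
      rw [D.pi_el] at hq
      exact hq
    obtain ⟨ha, hb⟩ := center_code A.ty τ hτ p.a p.b p.c hp (by
      intro a' b' c' hc'
      rw [← D.pi_el_iff, ← A.el_mul, ← A.el_mul, map_mul, map_mul]
      have h1 := hq' (π (A.el ⟨a', b', c', 0⟩)) ((D.fixed_code h _).mpr hc')
        (by rw [D.pi_el]; exact ⟨_, rfl⟩)
      have h2 : π (A.el ⟨p.a, p.b, p.c, 0⟩) = π (A.el p) := by rw [D.pi_el, D.pi_el]
      rw [h2]; exact h1)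
    refine ⟨p.c, ?_⟩
    rw [D.pi_el, ha, hb]
    exact datPSL.el_x02 _
  have hsurj := D.ce.surj
  have hcen := D.ce.cen
  set T1 : Subgroup K := (datPSL.T ⊓ F0).comap π with hT1
  have hT1D : T1 ≤ F0.comap π := comap_mono inf_le_right
  have hodd1 : ¬ 2 ∣ T1.relIndex (F0.comap π) := by
    rw [hT1, relIndex_comap, map_comap_eq_self_of_surjective hsurj]
    exact hodd
  have hcode : ∀ l : T1, ∃ p, A.el p = (l : K) := fun l => D.exists_code l.2.1
  choose cd hcd using hcode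
  have hcdq : ∀ l : T1, cq (ctau A.ty τ (cd l)) (cd l) := by
    intro l
    rw [← D.fixed_code h, hcd]
    exact l.2.2
  let ϕ : T1 →* Multiplicative (ZMod 4) := MonoidHom.mk'
    (fun l => Multiplicative.ofAdd (kapp A.ty τ (cd l))) (by
      intro l m
      have h1 : cd (l * m) = cmul A.ty (cd l) (cd m) := by
        apply A.inj
        rw [hcd, ← A.el_mul, hcd, hcd]; rfl
      rw [h1, kapp_hom A.ty τ hτ _ (hcdq l) _ (hcdq m), ofAdd_add])
  have hZT : π.ker ≤ T1 := by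
    intro z hz
    rw [hT1, mem_comap, show π z = 1 from hz]
    exact one_mem _
  have hker1 : ∀ z ∈ ⁅F0.comap π, F0.comap π⁆, z ∈ π.ker → z = 1 := by
    refine comm_inf_cen hT1D hodd1 ϕ hZT (fun z hz => hcen z hz) D.ker2 ?_
    intro z hz hz1
    obtain ⟨m, rfl⟩ := D.of_pi hz
    have h1 : cd ⟨A.sp m, hZT hz⟩ = ⟨0, 0, 0, m⟩ := by
      apply A.inj
      rw [hcd, A.el_sp]
    have h2 : kapp A.ty τ (cd ⟨A.sp m, hZT hz⟩) = 0 := Multiplicative.ofAdd.injective hz1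
    rw [h1] at h2
    have h3 : ∀ (ty : Bool) (τ : Ty) (m : Fin 4), kapp ty τ ⟨0, 0, 0, m⟩ = 0 → m = 0 := by decide
    rw [h3 _ _ _ h2, A.sp_zero]
  have hmap := map_comm_comap hsurj hperf
  have hsup := comap_eq_sup hsurj hperf
  have hJJ := comm_comm_comap hcen hsurj hperf
  set J := ⁅F0.comap π, F0.comap π⁆ with hJ
  have hle : J ≤ fx φ := by
    rw [hJ, Subgroup.commutator_le]
    intro x hx y hy
    have key : ∀ x ∈ F0.comap π, ∃ c, π c = 1 ∧ φ x = x * c := by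
      intro x hx
      refine ⟨x⁻¹ * φ x, ?_, by group⟩
      rw [map_mul, map_inv, ← D.bar, show b φ (π x) = π x from hx, inv_mul_cancel]
    obtain ⟨c, hc, hxc⟩ := key x hx
    obtain ⟨c', hc', hyc⟩ := key y hy
    show φ ⁅x, y⁆ = ⁅x, y⁆
    rw [map_commutatorElement, hxc, hyc, comm_mul_cen (hcen c hc) (hcen c' hc')]
  have hfxD : fx φ ≤ F0.comap π := by
    intro k hk
    show b φ (π k) = π k
    rw [D.bar, show φ k = k from hk]
  refine ⟨⟨hle, ?_, hJJ, ?_, ?_, ?_, ?_⟩, hmap, hsimple⟩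
  · -- simple
    let f : J →* F0 := (π.comp J.subtype).codRestrict F0 (fun j => by
      rw [← hmap]; exact ⟨j, j.2, rfl⟩)
    have hf : Function.Bijective f := by
      constructor
      · rw [injective_iff_map_eq_one]
        intro j hj
        have h1 : π (j : K) = 1 := congrArg Subtype.val hj
        exact Subtype.ext (hker1 j j.2 h1)
      · rintro ⟨q, hq⟩
        rw [← hmap] at hq
        obtain ⟨j, hj, rfl⟩ := hq
        exact ⟨⟨j, hj⟩, Subtype.ext rfl⟩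
    have e := MulEquiv.ofBijective f hf
    exact e.isSimpleGroup
  · intro j hj hjc
    refine hker1 j hj ?_
    rw [D.ker]; exact hjc
  · refine hfxD.trans (hsup.trans ?_)
    rw [D.ker]
  · apply le_antisymm
    · exact Subgroup.commutator_mono hfxD hfxD
    · rw [← hJJ]
      exact Subgroup.commutator_mono hle hle
  · have h1 : t 0 2 1 ∈ J.map π := by rw [hmap]; exact ht02
    obtain ⟨s, hs, hs'⟩ := h1
    refine ⟨s, hs, ?_, ?_⟩
    · rintro rfl
      rw [map_one] at hs'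
      have h2 : datPSL.x 0 2 1 = 1 := hs'.symm
      rw [← datPSL.el_x02, datPSL.el_eq_one] at h2
      exact absurd h2 (by decide)
    · apply hker1 _ (mul_mem hs hs)
      show π (s * s) = 1
      rw [map_mul, hs']
      exact datPSL.x_sq 0 2 (by decide) 1

end Cfsg.Agent.UGT.Cov
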