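import Cfsg.Agent.UGT.Cov.K4
import Cfsg.Agent.UGT.Cov.Res
import Cfsg.Agent.LThreeFour.Solv

/-!
# K-facts for `4₁.L₃(4)`, `4₂.L₃(4)`, continued
-/

set_option autoImplicit false
set_option linter.constructorNameAsVariable false
set_option linter.unusedSectionVars false
set_option linter.unusedVariables false

namespace Cfsg.Agent.UGT.Cov

open Subgroup
open scoped commutatorElement
open Cfsg.Agent.SporadicA.FieldFour
open Cfsg.Agent.ONType.Psl (PSL3 t kap)
open Cfsg.Agent.StdL34 (Cov Code Ty cz t0 nk trF invs ctau cmul cinv cact cone elx cq)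
open Cfsg.Agent.OddHalf.D9.L34Mult (CE)
open Cfsg.Agent.UGT.ThEL34 (fx mem_fx)
open Cfsg.Agent.UGT.FL34 (f0 g0 x0 isTau_f0 isTau_g0 isTau_x0 simple_f0 simple_g0 solv0)
open Cfsg.Agent.LThreeFour (datPSL)

/-- the facts on the isomorphism type -/
structure FourKind (K : Type*) [Group K] : Prop where
  perf : _root_.commutator K = ⊤
  cyc : IsCyclic (center K)
  card : Nat.card (center K) = 4
  psl : Nonempty (K ⧸ center K ≃* Matrix.ProjectiveSpecialLinearGroup (Fin 3) F4)

theorem FourKind.kc {K : Type*} [Group K] [Finite K] (h : FourKind K) :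
    ∃ (A : Cov K) (π : K →* PSL3) (b : MulAut K →* MulAut PSL3), KC A π b := by
  obtain ⟨e⟩ := h.psl
  exact exists_kc h.cyc h.card h.perf F4.card_eq e

variable {K : Type*} [Group K] {A : Cov K} {π : K →* PSL3} {b : MulAut K →* MulAut PSL3}

theorem four_dvd {x : K} {n : ℕ} (h : x ^ 2 ^ n = 1) (h2 : x * x ≠ 1) : 4 ∣ orderOf x := by
  obtain ⟨m, -, hm⟩ := (Nat.dvd_prime_pow Nat.prime_two).mp (orderOf_dvd_of_pow_eq_one h)
  rcases (by omega : m = 0 ∨ m = 1 ∨ 2 ≤ m) with rfl | rfl | h3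
  · exfalso
    apply h2
    rw [orderOf_eq_one_iff.mp hm, one_mul]
  · exfalso
    apply h2
    rw [← pow_two]
    have := pow_orderOf_eq_one x
    rwa [hm, pow_one] at this
  · rw [hm]
    obtain ⟨k, rfl⟩ := Nat.exists_eq_add_of_le h3
    exact ⟨2 ^ k, by rw [pow_add]; norm_num⟩

theorem el_pow (A : Cov K) (p : Code) : A.el p ^ 2 ^ 4 = 1 := by
  have h2 := StdL34.pow16 A.ty p
  have e : A.el p ^ (2 ^ 4) = ((A.el p * A.el p) * (A.el p * A.el p) * ((A.el p * A.el p) * (A.el p * A.el p))) *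
      ((A.el p * A.el p) * (A.el p * A.el p) * ((A.el p * A.el p) * (A.el p * A.el p))) := by
    simp only [← pow_two, ← pow_mul]
    norm_num
  rw [e]
  simp only [A.el_mul]
  rw [h2, A.el_one]

/-- **(k5)** -/
theorem KC.k5' (D : KC A π b) {φ : MulAut K} (ho : ∀ k, φ ≠ MulAut.conj k) (h2 : φ * φ = 1)
    {s : K} (hs : s * s = 1) (hc : s ∉ center K) (hφs : φ s = s) :
    ∃ p, p * s = s * p ∧ 4 ∣ orderOf (φ p * p⁻¹) ∧ φ p * p⁻¹ * (φ p * p⁻¹) ∉ center K := by
  obtain ⟨A', π', b', D', -, -, ⟨τ, hτ, ht⟩, hs'⟩ := D.adapt2 ho h2 hs hc hφs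
  obtain ⟨x, y, w, k, h0, h1⟩ := k5_code A'.ty τ hτ
  have hp : A'.el ⟨x, y, w, k⟩ * A'.x 0 2 1 = A'.x 0 2 1 * A'.el ⟨x, y, w, k⟩ :=
    (comm_x02_iff A').mpr ⟨_, h0, rfl⟩
  have hp' : φ (A'.el ⟨x, y, w, k⟩) * (A'.el ⟨x, y, w, k⟩)⁻¹ *
      (φ (A'.el ⟨x, y, w, k⟩) * (A'.el ⟨x, y, w, k⟩)⁻¹) ∉ center K := by
    rw [ht.el, A'.el_inv, A'.el_mul, A'.el_mul, cz_iff D']
    exact h1
  refine ⟨A'.el ⟨x, y, w, k⟩, ?_, ?_, hp'⟩
  · rcases hs' with h | h
    · rw [h, hp]
    · have hz : A'.el ⟨x, y, w, k⟩ * A'.z = A'.z * A'.el ⟨x, y, w, k⟩ :=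
        mem_center_iff.mp D'.z_mem _
      rw [h, ← mul_assoc, hp, mul_assoc, hz, ← mul_assoc]
  · refine four_dvd (n := 4) ?_ ?_
    · rw [ht.el, A'.el_inv, A'.el_mul]
      exact el_pow A' _
    · intro h
      rw [h] at hp'
      exact hp' (one_mem _)

/-- the centraliser in `PSL(3,4)` of a perfect subgroup containing an involution is trivial -/
theorem cent_perfect {F0 : Subgroup PSL3} (hperf : ⁅F0, F0⁆ = F0) (ht : t 0 2 1 ∈ F0) {c : PSL3}
    (hc : ∀ f ∈ F0, c * f = f * c) : c = 1 := by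
  have hfin : Finite PSL3 := datPSL.finite
  have hp : Fact (Nat.Prime 2) := ⟨Nat.prime_two⟩
  by_contra hc1
  have hT2 : IsPGroup 2 datPSL.T := IsPGroup.of_card (n := 6) (by rw [datPSL.card_T]; norm_num)
  have hcT : c ∈ datPSL.T := by
    rw [← Cfsg.Agent.LThreeFour.Dat.cent_x02]
    exact hc _ ht
  -- an involution in `⟨c⟩`
  have h2 : 2 ∣ orderOf c := by
    obtain ⟨n, hn⟩ := hT2 ⟨c, hcT⟩
    have hn' : c ^ 2 ^ n = 1 := congrArg Subtype.val hn
    obtain ⟨m, -, hm⟩ := (Nat.dvd_prime_pow Nat.prime_two).mp (orderOf_dvd_of_pow_eq_one hn')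
    rcases m with _ | m
    · exact absurd (orderOf_eq_one_iff.mp hm) hc1
    · rw [hm, pow_succ]; exact dvd_mul_left _ _
  obtain ⟨k, hk⟩ := h2
  have hk0 : 0 < k := by
    have := orderOf_pos c
    omega
  set d := c ^ k with hd
  have hd1 : d ≠ 1 := by
    intro h
    have := orderOf_dvd_of_pow_eq_one h
    have := Nat.le_of_dvd hk0 this
    omega
  have hdd : d * d = 1 := by
    rw [hd, ← pow_add, ← two_mul, ← hk, pow_orderOf_eq_one]
  have hdF : ∀ f ∈ F0, d * f = f * d := by
    intro f hf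
    exact ((show Commute c f from hc f hf).pow_left k).eq
  obtain ⟨g, hg⟩ := datPSL.invol_conj d hd1 hdd
  have hF2 : IsPGroup 2 F0 := by
    rintro ⟨f, hf⟩
    have h3 : g * f * g⁻¹ ∈ datPSL.T := by
      rw [← Cfsg.Agent.LThreeFour.Dat.cent_x02, ← hg]
      calc g * f * g⁻¹ * (g * d * g⁻¹) = g * (f * d) * g⁻¹ := by group
        _ = g * (d * f) * g⁻¹ := by rw [hdF f hf]
        _ = _ := by group
    obtain ⟨n, hn⟩ := hT2 ⟨_, h3⟩
    refine ⟨n, Subtype.ext ?_⟩
    have hn' : (g * f * g⁻¹) ^ 2 ^ n = 1 := congrArg Subtype.val hn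
    rw [conj_pow] at hn'
    show f ^ 2 ^ n = 1
    calc f ^ 2 ^ n = g⁻¹ * (g * f ^ 2 ^ n * g⁻¹) * g := by group
      _ = 1 := by rw [hn']; group
  have hnil : Group.IsNilpotent F0 := hF2.isNilpotent
  have hsol : Group.IsSolvable F0 := inferInstance
  have ht1 : t 0 2 1 ≠ 1 := by
    intro h
    have h2 : datPSL.x 0 2 1 = 1 := h
    rw [← datPSL.el_x02, datPSL.el_eq_one] at h2
    exact absurd h2 (by decide)
  have hnt : Nontrivial F0 := ⟨⟨⟨_, ht⟩, 1, fun h => ht1 (congrArg Subtype.val h)⟩⟩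
  have h8 := Group.IsSolvable.commutator_lt_top_of_nontrivial F0
  apply h8.ne
  apply Subgroup.map_injective F0.subtype_injective
  rw [commutator_def, Subgroup.map_commutator, ← MonoidHom.range_eq_map, F0.range_subtype, hperf]

/-- a perfect subgroup of a solvable group is trivial -/
theorem eq_bot_of_perfect {X : Type*} [Group X] {B : Subgroup X} (hs : Group.IsSolvable B)
    (h : ⁅B, B⁆ = B) : B = ⊥ := by
  by_contra hne
  have hnt : Nontrivial B := (nontrivial_iff_ne_bot B).mpr hne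
  have h8 := Group.IsSolvable.commutator_lt_top_of_nontrivial B
  apply h8.ne
  apply Subgroup.map_injective B.subtype_injective
  rw [commutator_def, Subgroup.map_commutator, ← MonoidHom.range_eq_map, B.range_subtype, h]

/-- the preimage of a solvable subgroup is solvable -/
theorem KC.solv_comap (D : KC A π b) {F0 : Subgroup PSL3} (h : Group.IsSolvable F0) :
    Group.IsSolvable (F0.comap π) := by
  let f : F0.comap π →* F0 := (π.comp (F0.comap π).subtype).codRestrict F0 (fun x => x.2)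
  have h1 : Group.IsSolvable f.ker := Group.isSolvable_of_comm (fun x y => by
    apply Subtype.ext
    apply Subtype.ext
    have h2 : π ((x : F0.comap π) : K) = 1 := congrArg Subtype.val (show f x = 1 from x.2)
    exact D.ce.cen _ h2 _)
  exact Group.isSolvable_of_ker_le_range f.ker.subtype f (by rw [Subgroup.range_subtype])

/-- `C_K(c)` is solvable -/
theorem KC.solv_c (D : KC A π b) {φ : MulAut K} (h : A.IsTau (true, true) φ) :
    Group.IsSolvable ((fx (b φ)).comap π) :=
  D.solv_comap (by rw [D.bar_c h]; exact solv0)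

/-- a square in `C_K(c)` -/
theorem KC.sq_c (D : KC A π b) {φ : MulAut K} (h : A.IsTau (true, true) φ) :
    ∃ r, φ r = r ∧ r * r ∉ center K ∧ r * r * (r * r) = 1 := by
  obtain ⟨x, y, w, k, h1, h2⟩ := StdL34.sq_fix A.ty (true, true) (by
    have : ∀ ty, invs ty (true, true) = true := by decide
    exact this A.ty) (by rintro ⟨-, h⟩; exact absurd h (by decide))
  have hr : A.el ⟨x, y, w, k⟩ * A.el ⟨x, y, w, k⟩ = A.x 0 2 1 ∨
      A.el ⟨x, y, w, k⟩ * A.el ⟨x, y, w, k⟩ = A.x 0 2 1 * A.z := by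
    rw [A.el_mul]
    rcases h2 with h2 | h2
    · left; rw [h2, A.el_x02]
    · right; rw [h2, el_x02z]
  refine ⟨A.el ⟨x, y, w, k⟩, by rw [h.el, h1], ?_, ?_⟩
  · rcases hr with h | h
    · rw [h]
      have := x02_ncen D (c := 1) (by decide) (one_mem (center K))
      rwa [mul_one] at this
    · rw [h]
      exact x02_ncen D (by decide) D.z_mem
  · have hx := A.x_sq 0 2 (by decide) 1
    have hz := z_sq A
    rcases hr with h | h
    · rw [h, hx]
    · rw [h]
      have hc : A.z * A.x 0 2 1 = A.x 0 2 1 * A.z := by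
        rw [A.z_eq]; exact A.sp_cen 2 _
      calc A.x 0 2 1 * A.z * (A.x 0 2 1 * A.z) = A.x 0 2 1 * (A.z * A.x 0 2 1) * A.z := by group
        _ = A.x 0 2 1 * (A.x 0 2 1 * A.z) * A.z := by rw [hc]
        _ = (A.x 0 2 1 * A.x 0 2 1) * (A.z * A.z) := by group
        _ = 1 := by rw [hx, hz, one_mul]

/-- outer involutory automorphisms are not in the commutator group of `Aut K` -/
theorem KC.ncomm (D : KC A π b) {φ : MulAut K} (h2 : φ * φ = 1)
    (h : φ ∈ _root_.commutator (MulAut K)) : ∃ k, φ = MulAut.conj k := by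
  have h1 : b φ ∈ _root_.commutator (MulAut PSL3) := by
    have h3 : _root_.commutator (MulAut K) ≤ (_root_.commutator (MulAut PSL3)).comap b := by
      rw [commutator_def, Subgroup.commutator_le]
      intro x _ y _
      rw [Subgroup.mem_comap, map_commutatorElement]
      exact Subgroup.commutator_mem_commutator trivial trivial
    exact h3 h
  obtain ⟨l, hl⟩ := datPSL.inner_of_comm h1 (n := 1)
    (by rw [pow_one, pow_two, ← map_mul, h2, map_one])
  obtain ⟨k, rfl⟩ := D.ce.surj l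
  exact ⟨k, D.ce.inner_of_bar D.perf b D.bar hl⟩

/-- outer involutory automorphisms are not squares -/
theorem KC.nsq (D : KC A π b) {φ β : MulAut K} (h2 : φ * φ = 1) (h : β * β = φ) :
    ∃ k, φ = MulAut.conj k := by
  have h3 : β ^ 2 ^ 2 = (β * β) * (β * β) := by
    simp only [← pow_two, ← pow_mul]
  rw [← h]
  apply D.inner
  rw [map_mul, map_mul]
  exact Cfsg.Agent.LThreeFour.Dat.tyHom_sq (n := 2) (by rw [← map_pow, h3, h, h2, map_one])

/-- a perfect group of inner automorphisms commuting with `c` is trivial -/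
theorem KC.cent_c (D : KC A π b) {φ : MulAut K} (h : A.IsTau (true, true) φ)
    (B : Subgroup (MulAut K)) (hB : B ≤ (MulAut.conj : K →* MulAut K).range) (hp : ⁅B, B⁆ = B)
    (hc : ∀ a ∈ B, a * φ = φ * a) : B = ⊥ := by
  have hle : B ≤ ((fx (b φ)).comap π).map (MulAut.conj : K →* MulAut K) := by
    intro a ha
    obtain ⟨k, rfl⟩ := hB ha
    refine ⟨k, ?_, rfl⟩
    have h1 : MulAut.conj (φ k * k⁻¹) = 1 := by
      have h3 : MulAut.conj (φ k) = φ * MulAut.conj k * φ⁻¹ := by
        apply MulEquiv.ext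
        intro m
        rw [MulAut.mul_apply, MulAut.mul_apply, MulAut.conj_apply, MulAut.conj_apply, map_mul,
          map_mul, map_inv, MulAut.apply_inv_self]
      rw [map_mul, map_inv, h3, ← hc _ ha]
      group
    have h2 := D.map_one_of_conj h1
    rw [map_mul, map_inv, mul_inv_eq_one] at h2
    show b φ (π k) = π k
    rw [D.bar, h2]
  have hs : Group.IsSolvable (((fx (b φ)).comap π).map (MulAut.conj : K →* MulAut K)) := by
    have := D.solv_c h
    exact Group.isSolvable_of_surjective ((MulAut.conj : K →* MulAut K).subgroupMap_surjective _)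
  have hs' : Group.IsSolvable B :=
    Group.isSolvable_of_isSolvable_injective (Subgroup.inclusion_injective hle)
  exact eq_bot_of_perfect hs' hp

/-- `C_{Aut K}(J)` contains no inner automorphism -/
theorem KC.cent_J [Finite K] (D : KC A π b) {τ : Ty} (hτ : τ = (true, false) ∨ τ = (false, true))
    {φ : MulAut K} (h : A.IsTau τ φ) {k : K}
    (hk : ∀ j ∈ ⁅(fx (b φ)).comap π, (fx (b φ)).comap π⁆, MulAut.conj k j = j) :
    MulAut.conj k = 1 := by
  obtain ⟨R, hmap, hsimple⟩ := D.res_tau hτ h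
  apply D.conj_one
  have hperf : ⁅fx (b φ), fx (b φ)⁆ = fx (b φ) := by
    rw [← hmap, ← Subgroup.map_commutator, R.perf]
  have ht : t 0 2 1 ∈ fx (b φ) := by
    show b φ (t 0 2 1) = t 0 2 1
    rw [← D.map_x 0 2 (by decide), D.bar, h.x02]
    have : ∀ e, StdL34.fr e (1 : F4) = 1 := by decide
    rw [this]
  apply cent_perfect hperf ht
  intro f hf
  rw [← hmap] at hf
  obtain ⟨j, hj, rfl⟩ := hf
  have h1 := hk j hj
  rw [MulAut.conj_apply, mul_inv_eq_iff_eq_mul] at h1
  rw [← map_mul, ← map_mul, h1]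

/-- orders -/
theorem KC.card_J [Finite K] (D : KC A π b) {τ : Ty} (hτ : τ = (true, false) ∨ τ = (false, true))
    {φ : MulAut K} (h : A.IsTau τ φ) :
    Nat.card (center K) * Nat.card ↥⁅(fx (b φ)).comap π, (fx (b φ)).comap π⁆ < Nat.card K := by
  obtain ⟨R, hmap, hsimple⟩ := D.res_tau hτ h
  have hfin : Finite PSL3 := datPSL.finite
  set J := ⁅(fx (b φ)).comap π, (fx (b φ)).comap π⁆ with hJ
  have h1 : Nat.card J = Nat.card (fx (b φ)) := by
    rw [← hmap]
    let f : J →* J.map π := π.subgroupMap J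
    apply Nat.card_congr
    refine Equiv.ofBijective f ⟨?_, π.subgroupMap_surjective J⟩
    rw [injective_iff_map_eq_one]
    intro j hj
    apply Subtype.ext
    apply R.inf j j.2
    rw [← D.ker]
    exact congrArg Subtype.val hj
  have h2 : Nat.card K = Nat.card (center K) * Nat.card PSL3 := by
    have h3 := Subgroup.card_mul_index π.ker
    rw [Subgroup.index_ker, MonoidHom.range_eq_top.mpr D.ce.surj] at h3
    rw [← h3, D.ker]
    congr 1
    exact Nat.card_congr (Subgroup.topEquiv.toEquiv)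
  have h3 : fx (b φ) ≠ ⊤ := by
    intro htop
    have h4 : b φ = 1 := by
      apply MulEquiv.ext
      intro m
      have : m ∈ fx (b φ) := by rw [htop]; exact mem_top m
      exact this
    have h5 : φ = 1 := by
      apply D.ce.eq_of_bar D.perf b D.bar
      rw [h4, map_one]
    rw [h5] at h
    have h6 := (h.hasTy).unique (Cov.isTau_one (A := A)).hasTy
    rcases hτ with rfl | rfl
    · exact absurd h6 (by decide)
    · exact absurd h6 (by decide)
  rw [h1, h2]
  apply Nat.mul_lt_mul_of_pos_left ?_ Nat.card_pos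
  have h4 := Subgroup.card_mul_index (fx (b φ))
  have h5 : (fx (b φ)).index ≠ 1 := by rwa [Ne, Subgroup.index_eq_one]
  have h6 : 0 < (fx (b φ)).index := Nat.pos_of_ne_zero Subgroup.index_ne_zero_of_finite
  have h7 : 0 < Nat.card (fx (b φ)) := Nat.card_pos
  have h8 : 2 ≤ (fx (b φ)).index := by omega
  rw [← h4]
  calc Nat.card (fx (b φ)) < Nat.card (fx (b φ)) * 2 := by omega
    _ ≤ _ := Nat.mul_le_mul_left _ h8

end Cfsg.Agent.UGT.Cov
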