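import Cfsg.Agent.StdL34.ExistsCov
import Cfsg.Agent.StdL34.Inv2
import Cfsg.Agent.UGT.Cov.Ext

/-!
# Coordinates on `4₁.L₃(4)`, `4₂.L₃(4)` over `PSL(3,4)`, adapted to an involutory automorphism

* `KC A π b` : coordinates `A` on `K`, `π : K → PSL(3,4)` with `π (A.x i j u) = t i j u`, `b : Aut K → Aut PSL(3,4)`.
* `exists_kc`, `exists_adapted` (an involutory automorphism is of pure type or the conjugation by `A.x 0 2 1`),
  `exists_adapted2` (moreover a given fixed noncentral involution is `A.x 0 2 1` or `A.x 0 2 1 * z`).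
-/

set_option autoImplicit false
set_option linter.constructorNameAsVariable false
set_option linter.unusedSectionVars false
set_option linter.unusedVariables false

namespace Cfsg.Agent.UGT.Cov

open Subgroup
open Cfsg.Agent.SporadicA.FieldFour
open Cfsg.Agent.ONType.Psl (PSL3 t kap)
open Cfsg.Agent.StdL34 (Cov Code Ty cz t0 nk trF invs ctau cmul cinv cact cone elx imgx)
open Cfsg.Agent.OddHalf.D9.L34Mult (CE)

/-- Coordinates over `PSL(3,4)`. -/
structure KC {K : Type*} [Group K] (A : Cov K) (π : K →* PSL3) (b : MulAut K →* MulAut PSL3) : Prop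
    extends Ext π b where
  map_x : ∀ i j, i ≠ j → ∀ u, π (A.x i j u) = t i j u
  ker : π.ker = center K
  cz : center K = zpowers A.s
  ord : orderOf A.s = 4

section

open Cfsg.Agent.ONType.Psl
open Cfsg.Agent.ONType.Lift
open Cfsg.Agent.ONType.Data
open Cfsg.Agent.ONType.OuterL (rv rv_ne rv_rv)
open Cfsg.Agent.ONType.OuterM (trn)
open Cfsg.Agent.StdL34 (gty gty_eq t2_eq card_code fr)

variable {M : Type*} [Group M] {π : M →* PSL3}

/-- a copy of `StdL34.exists_cov_of` with a longer conclusion -/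
theorem exists_cov_of' [Finite M] (C : CExt π) (z : M) (ty : Bool) (hker : π.ker = zpowers z)
    (hz : orderOf z = 4) (hperf : commutator M = ⊤) (R : MRel C.x z C.h (gty ty))
    (hcen : ∀ k : M, (∀ m, k * m = m * k) → π k = 1) :
    ∃ A : Cov M, A.s = z ∧ A.x = C.x := by
  classical
  have hπz : π z = 1 := by
    have : z ∈ π.ker := by rw [hker]; exact mem_zpowers z
    exact this
  have hz4 : z ^ 4 = 1 := by rw [← hz]; exact pow_orderOf_eq_one z
  have hpow : ∀ y : M, π y = 1 → ∃ k : Fin 4, y = z ^ (k : ℕ) := by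
    intro y hy
    have h1 : y ∈ zpowers z := by rw [← hker]; exact hy
    rw [mem_zpowers_iff_mem_range_orderOf] at h1
    obtain ⟨k, hk, hk'⟩ := Finset.mem_image.1 h1
    rw [Finset.mem_range, hz] at hk
    exact ⟨⟨k, hk⟩, hk'.symm⟩
  have hπel : ∀ p : Code, π (elx C.x z p) = t 0 1 p.a * t 1 2 p.b * t 0 2 p.c := by
    intro p
    unfold elx
    rw [map_mul, map_mul, map_mul, map_pow, hπz, one_pow, mul_one, C.map_x 0 1 (by decide),
      C.map_x 1 2 (by decide), C.map_x 0 2 (by decide)]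
  have hinj : Function.Injective (elx C.x z) := by
    intro p q h
    have h1 := congrArg π h
    rw [hπel, hπel] at h1
    obtain ⟨ha, hb, hc⟩ := Cfsg.Agent.ONType.PslCard.t_inj h1
    have hk : z ^ (p.k : ℕ) = z ^ (q.k : ℕ) := by
      unfold elx at h
      rw [ha, hb, hc] at h
      exact mul_left_cancel h
    have hk' : p.k = q.k := by
      have h2 := pow_inj_mod.1 hk
      rw [hz] at h2
      apply Fin.ext
      rw [Nat.mod_eq_of_lt p.k.2, Nat.mod_eq_of_lt q.k.2] at h2
      exact h2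
    cases p; cases q
    simp only at ha hb hc hk'
    subst ha hb hc hk'
    rfl
  have hmem : ∀ l : M, π l * t 0 2 1 = t 0 2 1 * π l ↔ ∃ p, l = elx C.x z p := by
    intro l
    rw [Cfsg.Agent.StdL34.PslCent.cent_t02]
    constructor
    · rintro ⟨a, b, c, h⟩
      have h1 : π ((elx C.x z ⟨a, b, c, 0⟩)⁻¹ * l) = 1 := by
        rw [map_mul, map_inv, hπel, h, inv_mul_cancel]
      obtain ⟨k, hk⟩ := hpow _ h1
      refine ⟨⟨a, b, c, k⟩, ?_⟩
      rw [inv_mul_eq_iff_eq_mul] at hk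
      rw [hk]
      unfold elx
      simp
    · rintro ⟨p, rfl⟩
      exact ⟨p.a, p.b, p.c, hπel p⟩
  have hzz1 : z * z ≠ 1 := by
    intro h
    have h2 := orderOf_dvd_of_pow_eq_one (x := z) (n := 2) (by rw [pow_two]; exact h)
    rw [hz] at h2
    omega
  have hrow : ∀ u v : F4, C.x 0 1 u * C.x 0 2 v = C.x 0 2 v * C.x 0 1 u * (z * z) ^ trn (u * v) := by
    intro u v
    rw [R.row 0 1 2 (by decide) (by decide) (by decide) u v, pow_mul, pow_two]
  have hcol : ∀ u v : F4, C.x 1 2 u * C.x 0 2 v = C.x 0 2 v * C.x 1 2 u * (z * z) ^ trn (u * v) := by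
    intro u v
    rw [R.col 1 2 0 (by decide) (by decide) (by decide) u v, pow_mul, pow_two]
  have hcz : ∀ m : M, z * m = m * z := C.cen z hπz
  refine ⟨{ s := z, x := C.x, h := C.h, ty := ty, s_cen := hcz, s_pow := hz4, x_add := R.add, x_row := ?_, x_col := ?_, x_sum := ?_, x_wey := R.weyl, h_pow := R.h3, h_x := R.tor, h_eq := R.torus, el_inj := hinj, gen := ?_, odd_index := ?_, cent := ?_, r_ne := ?_, outer := ?_ }, rfl, rfl⟩
  · intro i j k h1 h2 h3 u v
    rw [R.row i j k h1 h2 h3, t2_eq]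
  · intro i j k h1 h2 h3 u v
    rw [R.col i j k h1 h2 h3, t2_eq]
  · intro i j k h1 h2 h3 u v
    rw [R.sum i j k h1 h2 h3, gty_eq, ← mul_assoc]
  · exact Cfsg.Agent.ONType.OuterC.closure_x C hperf
  · refine ⟨(centralizer ({t 0 2 1} : Set PSL3)).comap π, ?_, ?_⟩
    · intro l
      rw [mem_comap, mem_centralizer_singleton_iff]
      exact hmem l
    · have hcard : Nat.card ((centralizer ({t 0 2 1} : Set PSL3)).comap π) = 256 := by
        rw [← card_code]
        symm
        apply Nat.card_congr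
        refine Equiv.ofBijective (fun p => ⟨elx C.x z p, ?_⟩) ⟨?_, ?_⟩
        · rw [mem_comap, mem_centralizer_singleton_iff]
          exact (hmem _).2 ⟨p, rfl⟩
        · intro p q h
          exact hinj (congrArg Subtype.val h)
        · rintro ⟨l, hl⟩
          rw [mem_comap, mem_centralizer_singleton_iff] at hl
          obtain ⟨p, hp⟩ := (hmem _).1 hl
          exact ⟨p, Subtype.ext hp.symm⟩
      have hM : Nat.card M = 80640 := by
        rw [C.card_M, hker, Nat.card_zpowers, hz]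
      have h1 := Subgroup.card_mul_index ((centralizer ({t 0 2 1} : Set PSL3)).comap π)
      rw [hcard, hM] at h1
      omega
  · intro l hl
    apply (hmem l).1
    have := congrArg π hl
    rw [map_mul, map_mul, C.map_x 0 2 (by decide)] at this
    exact this
  · intro n h
    have := congrArg π h
    rw [map_pow, map_mul, C.map_x 0 2 (by decide), C.map_x 2 0 (by decide), map_one] at this
    exact Cfsg.Agent.StdL34.PslCent.tt_pow_ne n this
  · intro α
    have hαz : α (z * z) = z * z := by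
      have h1 : π (α z) = 1 := by
        apply hcen
        intro m
        have := congrArg α (hcz (α.symm m))
        rw [map_mul, map_mul, MulEquiv.apply_symm_apply] at this
        exact this
      obtain ⟨k, hk⟩ := hpow _ h1
      have h2 : orderOf (α z) = 4 := by
        rw [← hz]; exact orderOf_injective α.toMonoidHom α.injective z
      rw [map_mul, hk, ← pow_add]
      have h3 : orderOf (z ^ (k : ℕ)) = 4 := by rw [← hk, h2]
      obtain ⟨k, hk4⟩ := k
      simp only at h3 ⊢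
      interval_cases k
      · rw [pow_zero, orderOf_one] at h3; omega
      · rw [pow_two]
      · exfalso
        have := orderOf_dvd_of_pow_eq_one (x := z ^ 2) (n := 2) (by rw [← pow_mul]; exact hz4)
        rw [h3] at this
        omega
      · show z ^ (4 + 2) = z * z
        rw [pow_add, hz4, one_mul, pow_two]
    obtain ⟨l, σ, hσ, -, hx⟩ := Cfsg.Agent.ONType.OuterM.exists_outer C hcen (z * z) hzz1 hrow hcol α
      (fun l => by
        rw [MulAut.mul_apply, MulAut.conj_apply, hαz]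
        rw [← mul_assoc, ← hcz l, mul_assoc z l z, ← hcz l, ← mul_assoc, mul_inv_cancel_right])
    have hσ' : ∃ e : Bool, ∀ u, σ u = fr e u := by
      rcases hσ with h | h
      · exact ⟨false, fun u => by rw [h]; rfl⟩
      · exact ⟨true, fun u => by rw [h]; rfl⟩
    obtain ⟨e, he⟩ := hσ'
    rcases hx with hx | hx
    · refine ⟨l, (e, false), fun i j hij u => ?_⟩
      have := hx i j hij u
      rw [MulAut.mul_apply, MulAut.conj_apply, he] at this
      exact this
    · refine ⟨l, (e, true), fun i j hij u => ?_⟩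
      have := hx i j hij u
      rw [MulAut.mul_apply, MulAut.conj_apply, he] at this
      exact this

end

/-- **Existence of coordinates.** -/
theorem exists_kc {M : Type*} [Group M] [Finite M] (hZc : IsCyclic (center M))
    (hZ4 : Nat.card (center M) = 4) (hperf : commutator M = ⊤)
    {F : Type*} [Field F] [Fintype F] (hF : Fintype.card F = 4)
    (e : M ⧸ center M ≃* Matrix.ProjectiveSpecialLinearGroup (Fin 3) F) :
    ∃ (A : Cov M) (π : M →* PSL3) (b : MulAut M →* MulAut PSL3), KC A π b := by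
  obtain ⟨e'⟩ := nonempty_psl_equiv (n := Fin 3) F hF
  obtain ⟨π, C, z, hker, hcz, hz, hR⟩ := Cfsg.Agent.ONType.Data.exists_data (M := M) hZc hZ4 hperf F4
    F4.card_eq (e.trans e'.symm)
  have hcen : ∀ k : M, (∀ m, k * m = m * k) → π k = 1 := by
    intro k hk
    have : k ∈ π.ker := by
      rw [hker, Subgroup.mem_center_iff]
      exact fun m => (hk m).symm
    exact this
  have hex : ∃ ty, Cfsg.Agent.ONType.Data.MRel C.x z C.h (Cfsg.Agent.StdL34.gty ty) := by
    rcases hR with h | h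
    · exact ⟨false, h⟩
    · exact ⟨true, h⟩
  obtain ⟨ty, R⟩ := hex
  obtain ⟨A, hA, hAx⟩ := exists_cov_of' C z ty (hker.trans hcz) hz hperf R hcen
  have hce : CE π := ⟨C.surj, C.cen⟩
  obtain ⟨b, hb⟩ := hce.exists_bar hcen
  refine ⟨A, π, b, ⟨⟨hce, hperf, ?_, hcen, hb⟩, ?_, hker, ?_, ?_⟩⟩
  · rw [hker]
    exact IsPGroup.of_card (n := 2) (by rw [hZ4]; norm_num)
  · intro i j hij u
    rw [hAx]
    exact C.map_x i j hij u
  · rw [hA, hcz]
  · rw [hA, hz]

/-! ### Transport -/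

section

variable {K : Type*} [Group K]

theorem elx_map (A : Cov K) (γ : MulAut K) (p : Code) :
    elx (fun i j u => γ (A.x i j u)) (γ A.s) p = γ (elx A.x A.s p) := by
  unfold elx
  simp only [map_mul, map_pow]

/-- transport of coordinates by an automorphism -/
def mapE (A : Cov K) (γ : MulAut K) : Cov K where
  s := γ A.s
  x := fun i j u => γ (A.x i j u)
  h := γ A.h
  ty := A.ty
  s_cen m := by
    have := congrArg γ (A.s_cen (γ.symm m))
    rwa [map_mul, map_mul, MulEquiv.apply_symm_apply] at this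
  s_pow := by rw [← map_pow, A.s_pow, map_one]
  x_add i j h u v := by rw [← map_mul, A.x_add i j h]
  x_row i j k h1 h2 h3 u v := by
    have := congrArg γ (A.x_row i j k h1 h2 h3 u v)
    simpa only [map_mul, map_pow] using this
  x_col i j k h1 h2 h3 u v := by
    have := congrArg γ (A.x_col i j k h1 h2 h3 u v)
    simpa only [map_mul, map_pow] using this
  x_sum i j k h1 h2 h3 u v := by
    have := congrArg γ (A.x_sum i j k h1 h2 h3 u v)
    simpa only [map_mul, map_pow] using this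
  x_wey i j k l h1 h2 u := by
    have := congrArg γ (A.x_wey i j k l h1 h2 u)
    simpa only [map_mul, map_inv] using this
  h_pow := by rw [← map_pow, A.h_pow, map_one]
  h_x i j h u := by
    have := congrArg γ (A.h_x i j h u)
    simpa only [map_mul, map_inv] using this
  h_eq i j h := by
    have := congrArg γ (A.h_eq i j h)
    simpa only [map_mul] using this
  el_inj := by
    intro p q h
    rw [elx_map, elx_map] at h
    exact A.el_inj (γ.injective h)
  gen := by
    have h1 : {y | ∃ i j u, i ≠ j ∧ y = γ (A.x i j u)} =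
        γ.toMonoidHom '' {y | ∃ i j u, i ≠ j ∧ y = A.x i j u} := by
      ext y
      constructor
      · rintro ⟨i, j, u, h, rfl⟩
        exact ⟨_, ⟨i, j, u, h, rfl⟩, rfl⟩
      · rintro ⟨_, ⟨i, j, u, h, rfl⟩, rfl⟩
        exact ⟨i, j, u, h, rfl⟩
    rw [h1, ← MonoidHom.map_closure, A.gen, ← MonoidHom.range_eq_map]
    exact MonoidHom.range_eq_top.mpr γ.surjective
  odd_index := by
    obtain ⟨T, hT, h2⟩ := A.odd_index
    refine ⟨T.map γ.toMonoidHom, ?_, ?_⟩
    · intro l
      constructor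
      · rintro ⟨m, hm, rfl⟩
        obtain ⟨p, rfl⟩ := (hT m).mp hm
        exact ⟨p, (elx_map A γ p).symm⟩
      · rintro ⟨p, rfl⟩
        rw [elx_map]
        exact ⟨_, (hT _).mpr ⟨p, rfl⟩, rfl⟩
    · have h3 : (T.map γ.toMonoidHom).index = T.index :=
        Subgroup.index_map_equiv (H := T) (γ : K ≃* K)
      rw [h3]; exact h2
  cent l h := by
    have h1 : γ.symm l * A.x 0 2 1 = A.x 0 2 1 * γ.symm l := by
      apply γ.injective
      rw [map_mul, map_mul, MulEquiv.apply_symm_apply]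
      exact h
    obtain ⟨p, hp⟩ := A.cent _ h1
    refine ⟨p, ?_⟩
    rw [elx_map, ← hp, MulEquiv.apply_symm_apply]
  r_ne n h := by
    apply A.r_ne n
    apply γ.injective
    rw [map_pow, map_mul, map_one]
    exact h
  outer α := by
    obtain ⟨l, τ, h⟩ := A.outer (γ⁻¹ * α * γ)
    refine ⟨γ l, τ, ?_⟩
    intro i j hij u
    have h1 := congrArg γ (h i j hij u)
    have h2 : γ ((γ⁻¹ * α * γ) (A.x i j u)) = α (γ (A.x i j u)) := by
      rw [MulAut.mul_apply, MulAut.mul_apply, MulAut.apply_inv_self]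
    rw [map_mul, map_mul, h2, map_inv] at h1
    rw [h1]
    unfold imgx
    split <;> rfl

theorem mapE_x (A : Cov K) (γ : MulAut K) (i j : Fin 3) (u : F4) :
    (mapE A γ).x i j u = γ (A.x i j u) := rfl

theorem mapE_s (A : Cov K) (γ : MulAut K) : (mapE A γ).s = γ A.s := rfl

theorem mapE_isTau {A : Cov K} (γ : MulAut K) {τ : Ty} {φ : MulAut K}
    (h : A.IsTau τ (γ⁻¹ * φ * γ)) : (mapE A γ).IsTau τ φ := by
  intro i j hij u
  have h1 := congrArg γ (h i j hij u)
  have h2 : γ ((γ⁻¹ * φ * γ) (A.x i j u)) = φ (γ (A.x i j u)) := by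
    rw [MulAut.mul_apply, MulAut.mul_apply, MulAut.apply_inv_self]
  rw [h2] at h1
  show φ (γ (A.x i j u)) = imgx (fun i j u => γ (A.x i j u)) τ i j u
  rw [h1]
  unfold imgx
  split <;> rfl

variable {A : Cov K} {π : K →* PSL3} {b : MulAut K →* MulAut PSL3}

/-- the record is transported by inner automorphisms -/
theorem KC.mapE (D : KC A π b) (l : K) :
    KC (mapE A (MulAut.conj l)) ((MulAut.conj (π l)⁻¹).toMonoidHom.comp π)
      ((MulAut.conj (MulAut.conj (π l)⁻¹)).toMonoidHom.comp b) := by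
  have h1 : ∀ k, ((MulAut.conj (π l)⁻¹).toMonoidHom.comp π) k = (π l)⁻¹ * π k * π l := by
    intro k
    show (π l)⁻¹ * π k * ((π l)⁻¹)⁻¹ = _
    rw [inv_inv]
  have h2 : ∀ k, ((MulAut.conj (π l)⁻¹).toMonoidHom.comp π) k = 1 ↔ π k = 1 := by
    intro k
    rw [h1]
    constructor
    · intro h
      calc π k = π l * ((π l)⁻¹ * π k * π l) * (π l)⁻¹ := by group
        _ = 1 := by rw [h]; group
    · intro h
      rw [h]; group
  have hker : ((MulAut.conj (π l)⁻¹).toMonoidHom.comp π).ker = π.ker := by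
    ext k
    exact h2 k
  have hs : MulAut.conj l A.s = A.s := by
    rw [MulAut.conj_apply, ← A.s_cen, mul_inv_cancel_right]
  refine ⟨⟨⟨?_, ?_⟩, D.perf, ?_, ?_, ?_⟩, ?_, ?_, ?_, ?_⟩
  · exact (MulAut.conj (π l)⁻¹).surjective.comp D.ce.surj
  · intro k hk m
    exact D.ce.cen k ((h2 k).mp hk) m
  · rw [hker]; exact D.ker2
  · intro k hk
    exact (h2 k).mpr (D.cen k hk)
  · intro α m
    show (MulAut.conj (MulAut.conj (π l)⁻¹) (b α)) ((MulAut.conj (π l)⁻¹) (π m)) =
      (MulAut.conj (π l)⁻¹) (π (α m))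
    rw [MulAut.conj_apply, MulAut.mul_apply, MulAut.mul_apply, MulAut.inv_apply_self, D.bar]
  · intro i j hij u
    rw [h1, mapE_x, MulAut.conj_apply, map_mul, map_mul, map_inv, D.map_x i j hij]
    group
  · rw [hker]; exact D.ker
  · rw [mapE_s, hs]; exact D.cz
  · rw [mapE_s, hs]; exact D.ord

/-- **Adapted coordinates.** -/
theorem KC.adapt (D : KC A π b) {φ : MulAut K} (h1 : φ ≠ 1) (h2 : φ * φ = 1) :
    ∃ (A' : Cov K) (π' : K →* PSL3) (b' : MulAut K →* MulAut PSL3), KC A' π' b' ∧ A'.ty = A.ty ∧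
      ((∃ τ, τ ≠ (false, false) ∧ A'.IsTau τ φ) ∨ φ = MulAut.conj (A'.x 0 2 1)) := by
  obtain ⟨l, hl⟩ := A.inv_class φ h1 h2
  refine ⟨Cfsg.Agent.UGT.Cov.mapE A (MulAut.conj l⁻¹), _, _, D.mapE l⁻¹, rfl, ?_⟩
  have e0 : (MulAut.conj l⁻¹)⁻¹ * φ * MulAut.conj l⁻¹ =
      MulAut.conj l * φ * (MulAut.conj l)⁻¹ := by
    rw [map_inv, inv_inv]
  rcases hl with ⟨τ, hτ, hl⟩ | hl
  · left
    refine ⟨τ, hτ, mapE_isTau _ ?_⟩
    rw [e0]; exact hl
  · right
    rw [mapE_x]
    have e1 : MulAut.conj (MulAut.conj l⁻¹ (A.x 0 2 1)) =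
        MulAut.conj l⁻¹ * MulAut.conj (A.x 0 2 1) * (MulAut.conj l⁻¹)⁻¹ := by
      rw [MulAut.conj_apply, map_mul, map_mul, map_inv, map_inv, map_inv]
    rw [e1, ← hl, ← e0]
    generalize MulAut.conj l⁻¹ = c
    group

theorem z_fix (A : Cov K) (φ : MulAut K) : φ A.z = A.z := by
  obtain ⟨l, τ, hl⟩ := A.exists_tau φ
  have h1 : φ A.z = MulAut.conj l⁻¹ ((MulAut.conj l * φ) A.z) := by
    rw [MulAut.mul_apply, map_inv, MulAut.inv_apply_self]
  rw [h1, A.z_eq, hl.sp]
  have h2 : ∀ e, StdL34.sg e 2 = 2 := by decide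
  rw [h2, MulAut.conj_apply, ← A.sp_cen, mul_inv_cancel_right]

theorem z_sq (A : Cov K) : A.z * A.z = 1 := by
  rw [A.z_eq, A.sp_add, show (2 : Fin 4) + 2 = 0 from rfl, A.sp_zero]

theorem conj_x02_code : ∀ (ty : Bool) (a b c : F4) (k : Fin 4),
    cmul ty (cmul ty (cinv ty ⟨a, b, c, k⟩) ⟨0, 0, 1, 0⟩) ⟨a, b, c, k⟩ = ⟨0, 0, 1, 0⟩ ∨
    cmul ty (cmul ty (cinv ty ⟨a, b, c, k⟩) ⟨0, 0, 1, 0⟩) ⟨a, b, c, k⟩ = ⟨0, 0, 1, 2⟩ := by
  decide +kernel

theorem el_x02z (A : Cov K) : A.el ⟨0, 0, 1, 2⟩ = A.x 0 2 1 * A.z := by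
  rw [A.el_eq, A.x_zero 0 1 (by decide), A.x_zero 1 2 (by decide), A.z_eq, one_mul, one_mul]

/-- a noncentral involution is `A.x 0 2 1` up to `z`, in suitable coordinates -/
theorem KC.adapt_inv (D : KC A π b) {s : K} (hs : s * s = 1) (hc : s ∉ center K) :
    ∃ (A' : Cov K) (π' : K →* PSL3) (b' : MulAut K →* MulAut PSL3), KC A' π' b' ∧ A'.ty = A.ty ∧
      A'.z = A.z ∧ (s = A'.x 0 2 1 ∨ s = A'.x 0 2 1 * A'.z) := by
  have h1 : MulAut.conj s ≠ 1 := by
    intro h
    apply hc
    rw [← D.ker]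
    exact D.map_one_of_conj h
  have h2 : MulAut.conj s * MulAut.conj s = 1 := by rw [← map_mul, hs, map_one]
  obtain ⟨l, hl⟩ := A.inv_class (MulAut.conj s) h1 h2
  rcases hl with ⟨τ, hτ, hl⟩ | hl
  · exfalso
    apply hτ
    have h3 : A.HasTy (MulAut.conj l * MulAut.conj s * (MulAut.conj l)⁻¹) (false, false) := by
      rw [← map_inv, ← map_mul, ← map_mul]
      exact Cov.hasTy_conj _
    exact hl.hasTy.unique h3
  · refine ⟨Cfsg.Agent.UGT.Cov.mapE A (MulAut.conj l⁻¹), _, _, D.mapE l⁻¹, rfl, ?_, ?_⟩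
    · show MulAut.conj l⁻¹ A.s * MulAut.conj l⁻¹ A.s = A.z
      rw [← map_mul]
      exact z_fix A _
    · have h3 : MulAut.conj (l * s * l⁻¹ * (A.x 0 2 1)⁻¹) = 1 := by
        rw [map_mul, map_mul, map_mul, map_inv, map_inv, hl, mul_inv_cancel]
      obtain ⟨k, hk⟩ := Cov.conj_eq_one h3
      have h4 : l * s * l⁻¹ = A.x 0 2 1 * A.sp k := by
        rw [← A.sp_cen, ← hk]; group
      have h5 : A.sp (k + k) = 1 := by
        have h6 : (l * s * l⁻¹) * (l * s * l⁻¹) = 1 := by
          calc (l * s * l⁻¹) * (l * s * l⁻¹) = l * (s * s) * l⁻¹ := by group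
            _ = 1 := by rw [hs]; group
        rw [h4] at h6
        calc A.sp (k + k) = A.sp k * A.sp k := (A.sp_add k k).symm
          _ = (A.x 0 2 1 * A.x 0 2 1) * (A.sp k * A.sp k) := by
              rw [A.x_sq 0 2 (by decide), one_mul]
          _ = A.x 0 2 1 * (A.x 0 2 1 * A.sp k) * A.sp k := by group
          _ = A.x 0 2 1 * (A.sp k * A.x 0 2 1) * A.sp k := by rw [A.sp_cen]
          _ = A.x 0 2 1 * A.sp k * (A.x 0 2 1 * A.sp k) := by group
          _ = 1 := h6
      have h6 : k + k = 0 := by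
        have h7 : A.el ⟨0, 0, 0, k + k⟩ = A.el ⟨0, 0, 0, 0⟩ := by
          rw [A.el_sp, A.el_sp, h5, A.sp_zero]
        exact congrArg Code.k (A.inj h7)
      have h7 : k = 0 ∨ k = 2 := by
        have : ∀ k : Fin 4, k + k = 0 → k = 0 ∨ k = 2 := by decide
        exact this k h6
      have e2 : s = l⁻¹ * (l * s * l⁻¹) * l := by group
      have e3 : ∀ m, MulAut.conj l⁻¹ m = l⁻¹ * m * l := by
        intro m
        rw [MulAut.conj_apply, inv_inv]
      rcases h7 with rfl | rfl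
      · left
        rw [mapE_x, e3]
        rw [A.sp_zero, mul_one] at h4
        rw [← h4]; group
      · right
        have e4 : (Cfsg.Agent.UGT.Cov.mapE A (MulAut.conj l⁻¹)).z = MulAut.conj l⁻¹ A.z := by
          show MulAut.conj l⁻¹ A.s * MulAut.conj l⁻¹ A.s = _
          rw [← map_mul]; rfl
        rw [e4, mapE_x, ← map_mul, e3, A.z_eq, ← h4]
        group

/-- **Coordinates adapted to an outer involutory automorphism and a fixed noncentral involution.** -/
theorem KC.adapt2 (D : KC A π b) {φ : MulAut K} (ho : ∀ k, φ ≠ MulAut.conj k) (h2 : φ * φ = 1)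
    {s : K} (hs : s * s = 1) (hc : s ∉ center K) (hφs : φ s = s) :
    ∃ (A' : Cov K) (π' : K →* PSL3) (b' : MulAut K →* MulAut PSL3), KC A' π' b' ∧ A'.ty = A.ty ∧
      A'.z = A.z ∧ (∃ τ, τ ≠ (false, false) ∧ A'.IsTau τ φ) ∧
        (s = A'.x 0 2 1 ∨ s = A'.x 0 2 1 * A'.z) := by
  obtain ⟨A₁, π₁, b₁, D₁, ht, hz, hs1⟩ := D.adapt_inv hs hc
  have h3 : φ (A₁.x 0 2 1) = A₁.x 0 2 1 := by
    rcases hs1 with h | h
    · rw [← h]; exact hφs
    · have h4 := hφs
      rw [h, map_mul, z_fix] at h4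
      exact mul_right_cancel h4
  obtain ⟨x, y, w, τ, hcd⟩ := Cov.exists_cd' h3
  have hτ : τ ≠ (false, false) := by
    rintro rfl
    obtain ⟨k, hk⟩ := hcd.hasTy.inner
    exact ho k hk
  have hsq := hcd.mul hcd
  rw [h2] at hsq
  obtain ⟨x', y', w', hq⟩ := StdL34.inv_outer A₁.ty τ x y w hτ hsq.one.2
  have hc2 := (hcd.conj ⟨x', y', w', 0⟩).of_cz hq
  set q : Code := ⟨x', y', w', 0⟩ with hqd
  refine ⟨Cfsg.Agent.UGT.Cov.mapE A₁ (MulAut.conj (A₁.el q)⁻¹), _, _, D₁.mapE _, ht, ?_, ⟨τ, hτ, ?_⟩, ?_⟩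
  · show MulAut.conj (A₁.el q)⁻¹ A₁.s * MulAut.conj (A₁.el q)⁻¹ A₁.s = A.z
    rw [← map_mul, ← hz]
    exact z_fix A₁ _
  · apply mapE_isTau
    rw [map_inv, inv_inv]
    exact hc2
  · have e4 : (Cfsg.Agent.UGT.Cov.mapE A₁ (MulAut.conj (A₁.el q)⁻¹)).z = A₁.z := by
      show MulAut.conj (A₁.el q)⁻¹ A₁.s * MulAut.conj (A₁.el q)⁻¹ A₁.s = _
      rw [← map_mul]
      exact z_fix A₁ _
    rw [e4, mapE_x]
    have e5 : MulAut.conj (A₁.el q)⁻¹ (A₁.x 0 2 1) = A₁.x 0 2 1 ∨
        MulAut.conj (A₁.el q)⁻¹ (A₁.x 0 2 1) = A₁.x 0 2 1 * A₁.z := by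
      rw [MulAut.conj_apply, inv_inv, A₁.el_inv, ← A₁.el_x02, A₁.el_mul, A₁.el_mul]
      rcases conj_x02_code A₁.ty x' y' w' 0 with h | h
      · left; rw [hqd, h]
      · right; rw [hqd, h, el_x02z, A₁.el_x02]
    have e6 := z_sq A₁
    rcases hs1 with h | h <;> rcases e5 with h' | h'
    · left; rw [h, h']
    · right; rw [h, h', mul_assoc, e6, mul_one]
    · right; rw [h, h']
    · left; rw [h, h']

end

end Cfsg.Agent.UGT.Cov
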