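import Cfsg.Agent.UGT.Cov.FourK
import Cfsg.Agent.UGT.I34.KF

/-!
# UGT N1 (I34): the fields of `I34.KF.Facts` concerning the Sylow 2-subgroup (helper281)

`A : StdL34.Cov L` with `center L = zpowers A.s`, `orderOf A.s = 4`.
-/

set_option autoImplicit false
set_option linter.constructorNameAsVariable false

namespace Cfsg.Agent.UGT.Cov.KFPure

open Cfsg.Agent.SporadicA.FieldFour Cfsg.Agent.StdL34 Subgroup
open Cfsg.Agent.UGT.Cov.FourK
open Cfsg.Agent.UGT.I34.KF (NInv Y mem_Y)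
open Cfsg.Agent.ONType.Psl (kap)
open scoped commutatorElement

/-! ### Transport of coordinates -/

/-- transport of coordinates along an isomorphism -/
def mapC {L M : Type*} [Group L] [Group M] (A : StdL34.Cov L) (e : L ≃* M) : StdL34.Cov M where
  s := e A.s
  x i j u := e (A.x i j u)
  h := e A.h
  ty := A.ty
  s_cen m := by
    have := congrArg e (A.s_cen (e.symm m))
    rwa [map_mul, map_mul, e.apply_symm_apply] at this
  s_pow := by rw [← map_pow, A.s_pow, map_one]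
  x_add i j h u v := by rw [← map_mul, A.x_add i j h]
  x_row i j k h1 h2 h3 u v := by
    rw [← map_mul, A.x_row i j k h1 h2 h3, map_mul, map_mul, map_pow]
  x_col i j k h1 h2 h3 u v := by
    rw [← map_mul, A.x_col i j k h1 h2 h3, map_mul, map_mul, map_pow]
  x_sum i j k h1 h2 h3 u v := by
    rw [← map_mul, A.x_sum i j k h1 h2 h3, map_mul, map_mul, map_mul, map_pow]
  x_wey i j k l h1 h2 u := by
    rw [← map_mul, ← map_mul, ← map_inv, ← map_mul, ← map_mul, A.x_wey i j k l h1 h2]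
  h_pow := by rw [← map_pow, A.h_pow, map_one]
  h_x i j h u := by rw [← map_inv, ← map_mul, ← map_mul, A.h_x i j h]
  h_eq i j h := by
    simp only [← map_mul]
    rw [A.h_eq i j h]
  el_inj := by
    intro p q h
    apply A.el_inj
    apply e.injective
    unfold elx at h ⊢
    simpa only [map_mul, map_pow] using h
  gen := by
    have h1 : {y | ∃ i j u, i ≠ j ∧ y = e (A.x i j u)} = e '' {y | ∃ i j u, i ≠ j ∧ y = A.x i j u} := by
      ext y
      constructor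
      · rintro ⟨i, j, u, h, rfl⟩
        exact ⟨_, ⟨i, j, u, h, rfl⟩, rfl⟩
      · rintro ⟨_, ⟨i, j, u, h, rfl⟩, rfl⟩
        exact ⟨i, j, u, h, rfl⟩
    rw [h1]
    have := (MonoidHom.map_closure e.toMonoidHom {y | ∃ i j u, i ≠ j ∧ y = A.x i j u})
    rw [A.gen] at this
    change _ = Subgroup.closure (e '' _) at this
    rw [← this, Subgroup.map_top_of_surjective _ e.surjective]
  odd_index := by
    obtain ⟨T, hT, hodd⟩ := A.odd_index
    refine ⟨T.map e.toMonoidHom, ?_, ?_⟩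
    · intro l
      constructor
      · rintro ⟨m, hm, rfl⟩
        obtain ⟨p, rfl⟩ := (hT m).1 hm
        refine ⟨p, ?_⟩
        show e (elx A.x A.s p) = _
        unfold elx
        simp only [map_mul, map_pow]
      · rintro ⟨p, rfl⟩
        refine ⟨elx A.x A.s p, (hT _).2 ⟨p, rfl⟩, ?_⟩
        show e (elx A.x A.s p) = _
        unfold elx
        simp only [map_mul, map_pow]
    · have := Subgroup.index_map_equiv T e
      change (T.map e.toMonoidHom).index = _ at this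
      rwa [this]
  cent l hl := by
    have h1 : e.symm l * A.x 0 2 1 = A.x 0 2 1 * e.symm l := by
      apply e.injective
      rw [map_mul, map_mul, e.apply_symm_apply, hl]
    obtain ⟨p, hp⟩ := A.cent _ h1
    refine ⟨p, ?_⟩
    rw [← e.apply_symm_apply l, hp]
    unfold elx
    simp only [map_mul, map_pow]
  r_ne n := by
    rw [← map_mul, ← map_pow]
    intro h
    exact A.r_ne n (e.injective (by rw [h, map_one]))
  outer α := by
    obtain ⟨l, τ, h⟩ := A.outer ((e.trans α).trans e.symm)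
    refine ⟨e l, τ, fun i j hij u => ?_⟩
    have h1 := congrArg e (h i j hij u)
    rw [map_mul, map_mul, map_inv] at h1
    have h2 : e (((e.trans α).trans e.symm) (A.x i j u)) = α (e (A.x i j u)) := by
      simp
    rw [h2] at h1
    rw [h1]
    unfold imgx
    split <;> rfl

variable {L : Type*} [Group L] (A : StdL34.Cov L)

theorem mapC_s {M : Type*} [Group M] (e : L ≃* M) : (mapC A e).s = e A.s := rfl

theorem mapC_ty {M : Type*} [Group M] (e : L ≃* M) : (mapC A e).ty = A.ty := rfl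

theorem mapC_t {M : Type*} [Group M] (e : L ≃* M) : t (mapC A e) = e (t A) := rfl

/-! ### Conjugacy of the noncentral involutions -/

/-- inverse in `F4` -/
def fi (u : F4) : F4 := u * u

/-- conjugation of codes -/
def cj (ty : Bool) (q p : Code) : Code := cmul ty (cmul ty q p) (cinv ty q)

/-- the codes of root elements times `1, z` -/
def RootCode (p : Code) : Prop :=
  (p.k = 0 ∨ p.k = 2) ∧ ((p.a ≠ 0 ∧ p.b = 0 ∧ p.c = 0) ∨ (p.a = 0 ∧ p.b ≠ 0 ∧ p.c = 0) ∨ (p.a = 0 ∧ p.b = 0 ∧ p.c ≠ 0))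

instance (p : Code) : Decidable (RootCode p) := by unfold RootCode; infer_instance

/-- the conjugating code -/
def qc (p : Code) : Code := if p.a = 0 then ⟨fi p.b * p.c, 0, 0, 0⟩ else ⟨0, fi p.a * p.c, 0, 0⟩

theorem inv_root : ∀ ty p, cmul ty p p = cone → (p.a = 0 ∧ p.b = 0 ∧ p.c = 0) ∨ RootCode (cj ty (qc p) p) := by
  decide +kernel

theorem el_cj (q p : Code) : A.el q * A.el p * (A.el q)⁻¹ = A.el (cj A.ty q p) := by
  rw [A.el_inv, A.el_mul, A.el_mul]; rfl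

/-- an involution has a conjugate in `T` -/
theorem conj_mem_T {s : L} (hs : s * s = 1) : ∃ g, g⁻¹ * s * g ∈ A.T := by
  have h2 : IsPGroup 2 (zpowers s) := by
    intro x
    refine ⟨1, ?_⟩
    obtain ⟨x, hx⟩ := x
    obtain ⟨k, rfl⟩ := mem_zpowers_iff.1 hx
    apply Subtype.ext
    show (s ^ k) ^ 2 ^ 1 = 1
    rw [pow_one, ← zpow_natCast, ← zpow_mul, mul_comm, zpow_mul, zpow_natCast, pow_two, hs, one_zpow]
  have h3 : ¬ 2 ∣ Nat.card (L ⧸ A.T) := A.T_index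
  have : Finite (L ⧸ A.T) := by
    apply Nat.finite_of_card_ne_zero
    intro h0
    rw [h0] at h3
    exact h3 (dvd_zero _)
  obtain ⟨x, hx⟩ := h2.nonempty_fixed_point_of_prime_not_dvd_card (L ⧸ A.T) h3
  induction x using QuotientGroup.induction_on with
  | H g =>
    refine ⟨g, ?_⟩
    have h4 := hx ⟨s, mem_zpowers s⟩
    change ((s * g : L) : L ⧸ A.T) = (g : L ⧸ A.T) at h4
    have h5 := (QuotientGroup.eq.1 h4.symm)
    rwa [← mul_assoc] at h5

/-- conjugacy -/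
abbrev Cj (x y : L) : Prop := ∃ g : L, g * x * g⁻¹ = y

omit A in
theorem Cj.trans' {x y w : L} (h1 : Cj x y) (h2 : Cj y w) : Cj x w := by
  obtain ⟨g, rfl⟩ := h1
  obtain ⟨h, rfl⟩ := h2
  exact ⟨h * g, by group⟩

omit A in
theorem Cj.symm' {x y : L} (h1 : Cj x y) : Cj y x := by
  obtain ⟨g, rfl⟩ := h1
  exact ⟨g⁻¹, by group⟩

theorem Cj.sp {x y : L} (h : Cj x y) (k : Fin 4) : Cj (x * A.sp k) (y * A.sp k) := by
  obtain ⟨g, rfl⟩ := h
  refine ⟨g, ?_⟩
  calc g * (x * A.sp k) * g⁻¹ = g * x * (A.sp k * g⁻¹) := by group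
    _ = _ := by rw [A.sp_cen]; group

/-- root elements of the six root subgroups -/
theorem root_wey (i j : Fin 3) (h : i ≠ j) (u : F4) : Cj (A.x i j u) (A.x 0 2 u) := by
  have key : ∀ i j k l : Fin 3, i ≠ j → k ≠ l → ∀ u,
      Cj (A.x k l u) (A.x (Equiv.swap i j k) (Equiv.swap i j l) u) := by
    intro i j k l h1 h2 u
    exact ⟨(A.x i j 1 * A.x j i 1 * A.x i j 1)⁻¹, by rw [inv_inv]; exact A.x_wey i j k l h1 h2 u⟩
  have h02 : Cj (A.x 0 2 u) (A.x 0 2 u) := ⟨1, by group⟩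
  have e20 : Cj (A.x 2 0 u) (A.x 0 2 u) := by
    have := key 0 2 2 0 (by decide) (by decide) u
    simpa using this
  have e01 : Cj (A.x 0 1 u) (A.x 0 2 u) := by
    have := key 1 2 0 1 (by decide) (by decide) u
    rwa [show Equiv.swap (1 : Fin 3) 2 0 = 0 by decide, show Equiv.swap (1 : Fin 3) 2 1 = 2 by decide] at this
  have e12 : Cj (A.x 1 2 u) (A.x 0 2 u) := by
    have := key 0 1 1 2 (by decide) (by decide) u
    rwa [show Equiv.swap (0 : Fin 3) 1 1 = 0 by decide, show Equiv.swap (0 : Fin 3) 1 2 = 2 by decide] at this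
  have e21 : Cj (A.x 2 1 u) (A.x 0 2 u) := by
    have := key 0 1 2 1 (by decide) (by decide) u
    rw [show Equiv.swap (0 : Fin 3) 1 1 = 0 by decide, show Equiv.swap (0 : Fin 3) 1 2 = 2 by decide] at this
    exact this.trans' e20
  have e10 : Cj (A.x 1 0 u) (A.x 0 2 u) := by
    have := key 0 1 1 0 (by decide) (by decide) u
    rw [show Equiv.swap (0 : Fin 3) 1 1 = 0 by decide, show Equiv.swap (0 : Fin 3) 1 0 = 1 by decide] at this
    exact this.trans' e01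
  revert h
  fin_cases i <;> fin_cases j <;> intro h
  · exact absurd rfl h
  · exact e01
  · exact h02
  · exact e10
  · exact absurd rfl h
  · exact e12
  · exact e20
  · exact e21
  · exact absurd rfl h

theorem F4_cases (u : F4) (h : u ≠ 0) : u = 1 ∨ u = F4.w ∨ u = F4.v := by revert u; decide

/-- `x₀₂(u)` is conjugate to `x₀₂(1)` -/
theorem x02_one (u : F4) (h : u ≠ 0) : Cj (A.x 0 2 u) (t A) := by
  have h1 : ∀ u, Cj (A.x 0 2 u) (A.x 0 2 (kap 0 2 * u)) := by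
    intro u
    exact ⟨A.h⁻¹, by rw [inv_inv]; exact A.h_x 0 2 (by decide) u⟩
  have h2 := h1 u
  have h3 := h1 (kap 0 2 * u)
  have : ∀ u : F4, u ≠ 0 → u = 1 ∨ kap 0 2 * u = 1 ∨ kap 0 2 * (kap 0 2 * u) = 1 := by decide
  rcases this u h with h4 | h4 | h4
  · rw [h4]; exact ⟨1, by rw [t]; group⟩
  · rw [h4] at h2; exact h2
  · rw [h4] at h3; exact h2.trans' h3

/-- `t z` is conjugate to `t` -/
theorem tz : Cj (t A * A.z) (t A) := by
  have h1 : Cj (A.x 0 2 F4.w * A.z) (A.x 0 2 F4.w) := by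
    refine Cj.symm' ⟨A.x 0 1 1, ?_⟩
    rw [fuse A, A.z_eq]
    calc A.x 0 2 F4.w * A.x 0 1 1 * A.sp 2 * (A.x 0 1 1)⁻¹
        = A.x 0 2 F4.w * (A.x 0 1 1 * A.sp 2) * (A.x 0 1 1)⁻¹ := by group
      _ = A.x 0 2 F4.w * (A.sp 2 * A.x 0 1 1) * (A.x 0 1 1)⁻¹ := by rw [← A.sp_cen]
      _ = _ := by group
  have h2 := x02_one A F4.w (by decide)
  have h3 : Cj (A.x 0 2 F4.w * A.z) (t A * A.z) := by
    have := Cj.sp A h2 2
    rwa [← A.z_eq] at this
  exact (h3.symm'.trans' h1).trans' h2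

theorem cen_sp (hc : center L = zpowers A.s) {c : L} (h : c ∈ center L) : ∃ k, c = A.sp k := by
  rw [hc] at h
  obtain ⟨n, rfl⟩ := mem_zpowers_iff.1 h
  have h4 : A.s ^ (4 : ℤ) = 1 := by
    have := A.s_pow
    exact_mod_cast this
  refine ⟨⟨(n % 4).toNat, by omega⟩, ?_⟩
  show A.s ^ n = A.s ^ ((n % 4).toNat)
  rw [← zpow_natCast, Int.toNat_of_nonneg (by omega)]
  conv_lhs => rw [← Int.emod_add_mul_ediv n 4]
  rw [zpow_add, zpow_mul, h4, one_zpow, mul_one]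

theorem sp_mem (k : Fin 4) : A.sp k ∈ center L := by
  rw [mem_center_iff]
  exact fun g => (A.sp_cen k g).symm

/-- every noncentral involution is conjugate to `t` -/
theorem conj_t {s : L} (hs : NInv s) : Cj s (t A) := by
  obtain ⟨h1, h2⟩ := hs
  obtain ⟨g, hg⟩ := conj_mem_T A h1
  obtain ⟨p, hp⟩ := (A.mem_T).1 hg
  have e1 : Cj s (A.el p) := ⟨g⁻¹, by rw [inv_inv]; exact hp.symm⟩
  have h3 : cmul A.ty p p = cone := by
    apply A.inj
    rw [← A.el_mul, hp, A.el_one]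
    calc g⁻¹ * s * g * (g⁻¹ * s * g) = g⁻¹ * (s * s) * g := by group
      _ = 1 := by rw [h1]; group
  rcases inv_root A.ty p h3 with ⟨ha, hb, hcc⟩ | h4
  · exfalso
    obtain ⟨a, b, c, k⟩ := p
    simp only at ha hb hcc
    subst ha hb hcc
    rw [A.el_sp] at hp
    apply h2
    have : s = A.sp k := by
      have : s = g * A.sp k * g⁻¹ := by rw [hp]; group
      rw [this, ← A.sp_cen]; group
    rw [this]
    exact sp_mem A k
  · have e2 : Cj (A.el p) (A.el (cj A.ty (qc p) p)) := ⟨_, el_cj A _ _⟩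
    refine (e1.trans' e2).trans' ?_
    generalize cj A.ty (qc p) p = q at h4
    have e3 : ∃ u, u ≠ 0 ∧ Cj (A.el q) (A.x 0 2 u * A.sp q.k) := by
      obtain ⟨-, h4⟩ := h4
      obtain ⟨a, b, c, k⟩ := q
      simp only at h4 ⊢
      rcases h4 with ⟨h5, rfl, rfl⟩ | ⟨rfl, h5, rfl⟩ | ⟨rfl, rfl, h5⟩
      · refine ⟨a, h5, ?_⟩
        have := Cj.sp A (root_wey A 0 1 (by decide) a) k
        rwa [A.el_eq, show A.x 1 2 0 = 1 from A.x_zero 1 2 (by decide),
          show A.x 0 2 0 = 1 from A.x_zero 0 2 (by decide), mul_one, mul_one]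
      · refine ⟨b, h5, ?_⟩
        have := Cj.sp A (root_wey A 1 2 (by decide) b) k
        rwa [A.el_eq, show A.x 0 1 0 = 1 from A.x_zero 0 1 (by decide),
          show A.x 0 2 0 = 1 from A.x_zero 0 2 (by decide), one_mul, mul_one]
      · refine ⟨c, h5, ?_⟩
        have := Cj.sp A (root_wey A 0 2 (by decide) c) k
        rwa [A.el_eq, show A.x 0 1 0 = 1 from A.x_zero 0 1 (by decide),
          show A.x 1 2 0 = 1 from A.x_zero 1 2 (by decide), one_mul, one_mul]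
    obtain ⟨u, hu, e3⟩ := e3
    refine (e3.trans' (Cj.sp A (x02_one A u hu) q.k)).trans' ?_
    rcases h4.1 with hk | hk <;> rw [hk]
    · rw [A.sp_zero, mul_one]; exact ⟨1, by group⟩
    · rw [← A.z_eq]; exact tz A

theorem t_NInv (hc : center L = zpowers A.s) : NInv (t A) := by
  refine ⟨t_sq A, fun h => ?_⟩
  obtain ⟨k, hk⟩ := cen_sp A hc h
  rw [t_eq, ← A.el_sp] at hk
  have h1 : (1 : F4) = 0 := congrArg Code.c (A.inj hk)
  exact absurd h1 (by decide)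

/-- coordinates with a given noncentral involution -/
theorem exists_cov_t {s : L} (hs : NInv s) :
    ∃ B : StdL34.Cov L, B.s = A.s ∧ B.ty = A.ty ∧ t B = s := by
  obtain ⟨g, hg⟩ := (conj_t A hs).symm'
  refine ⟨mapC A (MulAut.conj g), ?_, rfl, ?_⟩
  · show g * A.s * g⁻¹ = A.s
    rw [← A.s_cen]; group
  · exact hg

/-! ### The fields at `t = x₀₂(1)` -/

/-- code of an element of the centre -/
def zk (p : Code) : Prop := p.a = 0 ∧ p.b = 0 ∧ p.c = 0

instance (p : Code) : Decidable (zk p) := by unfold zk; infer_instance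

theorem el_mem_cen (hc : center L = zpowers A.s) {p : Code} : A.el p ∈ center L ↔ zk p := by
  constructor
  · intro h
    obtain ⟨k, hk⟩ := cen_sp A hc h
    rw [← A.el_sp] at hk
    have := A.inj hk
    rw [this]
    exact ⟨rfl, rfl, rfl⟩
  · obtain ⟨a, b, c, k⟩ := p
    rintro ⟨rfl, rfl, rfl⟩
    rw [A.el_sp]
    exact sp_mem A k

theorem Y_code : ∀ ty p, t0 p → (∀ q ∈ T0, zk (cc ty p q)) → yk p := by decide +kernel

theorem Y_code' : ∀ ty c a b c', trF (a + b) = false → zk (cc ty ⟨0, 0, c, 0⟩ ⟨a, b, c', 0⟩) := by decide +kernel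

/-- `Y t = ⟨s⟩ Y` -/
theorem Y_eq (hc : center L = zpowers A.s) : Y (t A) = YS A := by
  ext y
  rw [mem_Y, ← mem_S]
  constructor
  · rintro ⟨hy, h⟩
    obtain ⟨p, hp, rfl⟩ := hy
    refine (el_mem_sub A).2 (Y_code A.ty p hp fun q hq => ?_)
    rw [← el_mem_cen A hc, ← el_cc]
    exact h _ ((mem_S A).1 ((el_mem_S A).2 (T0_t0 q hq)))
  · intro hy
    refine ⟨YS_le_S A hy, fun b hb => ?_⟩
    obtain ⟨⟨a, b', c, k⟩, ⟨h1, h2⟩, rfl⟩ := hy
    simp only at h1 h2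
    subst h1 h2
    obtain ⟨q, hq, rfl⟩ := (mem_S A).2 hb
    rw [el_cc, el_mem_cen A hc, cc_nk]
    exact Y_code' _ _ _ _ _ hq

theorem moved (hc : center L = zpowers A.s) :
    ∃ s w, s * t A = t A * s ∧ w ∈ Y (t A) ∧ w * w = 1 ∧ s * w ≠ w * s := by
  refine ⟨A.x 0 1 1, A.x 0 2 F4.w, ?_, ?_, A.x_sq 0 2 (by decide) _, ?_⟩
  · rw [← mem_S, ← A.el_x01, el_mem_S]; decide
  · rw [Y_eq A hc, ← A.el_x02]
    exact (el_mem_sub A).2 ⟨rfl, rfl⟩
  · rw [fuse A]
    intro h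
    have h1 : A.z = 1 := by
      have : A.x 0 2 F4.w * A.x 0 1 1 * A.z = A.x 0 2 F4.w * A.x 0 1 1 * 1 := by rw [h, mul_one]
      exact mul_left_cancel this
    rw [A.z_eq, ← A.el_sp, ← A.el_one] at h1
    exact absurd (A.inj h1) (by decide)

theorem YC_code : ∀ ty c k c' k', c ≠ 0 → c ≠ 1 → ∃ l : Fin 4, (⟨0, 0, c', k'⟩ : Code) = ⟨0, 0, 0, l⟩ ∨
    (⟨0, 0, c', k'⟩ : Code) = cmul ty ct ⟨0, 0, 0, l⟩ ∨ (⟨0, 0, c', k'⟩ : Code) = cmul ty ⟨0, 0, c, k⟩ ⟨0, 0, 0, l⟩ ∨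
    (⟨0, 0, c', k'⟩ : Code) = cmul ty (cmul ty ct ⟨0, 0, c, k⟩) ⟨0, 0, 0, l⟩ := by decide +kernel

theorem ne_code : ∀ ty c k, c = 0 ∨ c = 1 → ∃ l : Fin 4, (⟨0, 0, c, k⟩ : Code) = ⟨0, 0, 0, l⟩ ∨
    (⟨0, 0, c, k⟩ : Code) = cmul ty ct ⟨0, 0, 0, l⟩ := by decide +kernel

/-- `w` not in `⟨t, s⟩` -/
theorem c_ne {c : F4} {k : Fin 4}
    (h : ∀ d ∈ center L, A.el ⟨0, 0, c, k⟩ ≠ d ∧ A.el ⟨0, 0, c, k⟩ ≠ t A * d) : c ≠ 0 ∧ c ≠ 1 := by
  by_contra h0
  have h1 : c = 0 ∨ c = 1 := by tauto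
  obtain ⟨l, hl⟩ := ne_code A.ty c k h1
  have h2 := h (A.sp l) (sp_mem A l)
  rw [t_eq, ← A.el_sp, A.el_mul] at h2
  rcases hl with hl | hl
  · exact h2.1 (by rw [hl])
  · exact h2.2 (by rw [hl])

theorem Y_cases (hc : center L = zpowers A.s) {w y : L} (hw : w ∈ Y (t A))
    (hne : ∀ c ∈ center L, w ≠ c ∧ w ≠ t A * c) (hy : y ∈ Y (t A)) :
    ∃ c ∈ center L, y = c ∨ y = t A * c ∨ y = w * c ∨ y = t A * w * c := by
  rw [Y_eq A hc] at hw hy
  obtain ⟨⟨a, b, c, k⟩, ⟨h1, h2⟩, rfl⟩ := hw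
  obtain ⟨⟨a', b', c', k'⟩, ⟨h3, h4⟩, rfl⟩ := hy
  simp only at h1 h2 h3 h4
  subst h1 h2 h3 h4
  obtain ⟨h5, h6⟩ := c_ne A hne
  obtain ⟨l, hl⟩ := YC_code A.ty c k c' k' h5 h6
  refine ⟨A.sp l, sp_mem A l, ?_⟩
  rw [t_eq, ← A.el_sp, A.el_mul, A.el_mul, A.el_mul, A.el_mul]
  rcases hl with hl | hl | hl | hl
  · left; rw [← hl]
  · right; left; rw [← hl]
  · right; right; left; rw [← hl]
  · right; right; right; rw [← hl]

theorem Y_sq (hc : center L = zpowers A.s) {y : L} (hy : y ∈ Y (t A)) :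
    y ∈ closure {s : L | ∃ x, x * t A = t A * x ∧ s = x * x} := by
  rw [Y_eq A hc] at hy
  obtain ⟨a, ha, b, hb, rfl⟩ := YS_sq A hy
  exact mul_mem (subset_closure ⟨a, (mem_S A).1 ha, rfl⟩) (subset_closure ⟨b, (mem_S A).1 hb, rfl⟩)

theorem comm_Y (hc : center L = zpowers A.s) {a b : L} (ha : a * t A = t A * a) (hb : b * t A = t A * b) :
    ⁅a, b⁆ ∈ Y (t A) := by
  rw [Y_eq A hc]
  exact D_le_YS A (comm_mem_D A ((mem_S A).2 ha) ((mem_S A).2 hb))

theorem sq_Y (hc : center L = zpowers A.s) {a : L} (ha : a * t A = t A * a) : a * a ∈ Y (t A) := by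
  rw [Y_eq A hc]
  exact sq_mem_YS A ((mem_S A).2 ha)

theorem norm (hc : center L = zpowers A.s) (N : Subgroup L) (htN : t A ∈ N) (hN : ∀ n ∈ N, n * t A = t A * n)
    (hn : ∀ n ∈ N, ∀ b, b * t A = t A * b → b * n * b⁻¹ ∈ N) (hz : ∀ n ∈ N, n ∈ center L → n = 1) :
    Nat.card N ≤ 4 ∧ (A.ty = false → Nat.card N ≤ 2) ∧ ∀ n ∈ N, n ∈ Y (t A) → n = 1 ∨ n = t A := by
  have h1 : N ≤ S A := fun n h => (mem_S A).2 (hN n h)
  have h2 : ∀ n ∈ N, ∀ y ∈ S A, y * n * y⁻¹ ∈ N := fun n h y hy => hn n h y ((mem_S A).1 hy)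
  have h3 : ∀ n ∈ N, (∀ y ∈ S A, n * y = y * n) → n = 1 ∨ n = t A := by
    intro n h hy
    obtain ⟨k, hk | hk⟩ := center_S A (h1 h) hy
    · left
      exact hz n h (by rw [hk]; exact sp_mem A k)
    · right
      have h4 : t A * n = A.sp k := by rw [hk, ← mul_assoc, t_sq, one_mul]
      have h5 := hz _ (mul_mem htN h) (by rw [h4]; exact sp_mem A k)
      calc n = t A * t A * n := by rw [t_sq, one_mul]
        _ = t A * (t A * n) := by rw [mul_assoc]
        _ = t A := by rw [h5, mul_one]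
  refine ⟨normal_card_four A h1 h2 h3, fun h => normal_card_two A h h1 h2 h3, ?_⟩
  intro n h hY
  rw [Y_eq A hc] at hY
  rcases normal_small A h1 h2 h3 h with h4 | h4 | ⟨-, -, c, k, h4⟩
  · exact Or.inl h4
  · exact Or.inr h4
  · exfalso
    rw [h4] at hY
    have h5 : yk ⟨1, 1, c, k⟩ := (el_mem_sub A).1 hY
    exact absurd (show (1 : F4) = 0 from h5.1) (by decide)

theorem four_code : ∀ ty p, t0 p → zk (cmul ty p p) → (∀ q ∈ T0, zk (cc ty p q) ∨ zk (cmul ty ct (cc ty p q)) ∨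
    zk (cmul ty (cinv ty p) (cc ty p q)) ∨ zk (cmul ty (cinv ty (cmul ty ct p)) (cc ty p q))) → yk p := by
  decide +kernel

theorem four (hc : center L = zpowers A.s) {w : L} (hw : w * t A = t A * w) (hww : w * w ∈ center L)
    (h : ∀ b, b * t A = t A * b → ∃ c ∈ center L, ⁅w, b⁆ = c ∨ ⁅w, b⁆ = t A * c ∨ ⁅w, b⁆ = w * c ∨
      ⁅w, b⁆ = t A * w * c) : w ∈ Y (t A) := by
  obtain ⟨p, hp, rfl⟩ := (mem_S A).2 hw
  rw [Y_eq A hc]
  refine (el_mem_sub A).2 (four_code A.ty p hp ?_ ?_)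
  · rwa [A.el_mul, el_mem_cen A hc] at hww
  · intro q hq
    obtain ⟨c, hcc, h1⟩ := h (A.el q) ((mem_S A).1 ((el_mem_S A).2 (T0_t0 q hq)))
    rw [el_cc] at h1
    rcases h1 with h1 | h1 | h1 | h1
    · left
      rw [← el_mem_cen A hc, h1]; exact hcc
    · right; left
      rw [← el_mem_cen A hc, ← A.el_mul, h1, ← t_eq, ← mul_assoc, t_sq, one_mul]; exact hcc
    · right; right; left
      rw [← el_mem_cen A hc, ← A.el_mul, h1, ← A.el_inv, inv_mul_cancel_left]; exact hcc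
    · right; right; right
      rw [← el_mem_cen A hc, ← A.el_mul, h1, ← A.el_inv, ← A.el_mul, ← t_eq, inv_mul_cancel_left]; exact hcc

theorem inner_code : ∀ ty b, t0 b → zk (cmul ty b b) → yk b ∨ ∀ a b' c, trF (a + b') = false →
    zk (cmul ty ct (cmul ty ⟨a, b', c, 0⟩ ⟨a, b', c, 0⟩)) → ¬ zk (cc ty b ⟨a, b', c, 0⟩) := by
  decide +kernel

theorem sq_nk : ∀ ty a b c k, zk (cmul ty ct (cmul ty ⟨a, b, c, k⟩ ⟨a, b, c, k⟩)) →
    zk (cmul ty ct (cmul ty ⟨a, b, c, 0⟩ ⟨a, b, c, 0⟩)) := by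
  intro ty a b c k h
  exact h

theorem cc_zk (ty : Bool) (p : Code) (a b c : F4) (k : Fin 4) (h : zk (cc ty p ⟨a, b, c, k⟩)) :
    zk (cc ty p ⟨a, b, c, 0⟩) := h

theorem inner (hc : center L = zpowers A.s) {b j : L} (hb : b * t A = t A * b) (hbb : b * b ∈ center L)
    (hj : j * t A = t A * j) (hjj : ∃ c ∈ center L, j * j = t A * c) (hbj : ⁅b, j⁆ ∈ center L) : b ∈ Y (t A) := by
  obtain ⟨p, hp, rfl⟩ := (mem_S A).2 hb
  obtain ⟨q, hq, rfl⟩ := (mem_S A).2 hj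
  rw [Y_eq A hc]
  refine (el_mem_sub A).2 ?_
  rw [A.el_mul, el_mem_cen A hc] at hbb
  rw [el_cc, el_mem_cen A hc] at hbj
  obtain ⟨c, hcc, hjj⟩ := hjj
  have h1 : zk (cmul A.ty ct (cmul A.ty q q)) := by
    rw [← el_mem_cen A hc, ← A.el_mul, ← A.el_mul, hjj, ← t_eq, ← mul_assoc, t_sq, one_mul]; exact hcc
  obtain ⟨a', b', c', k'⟩ := q
  rcases inner_code A.ty p hp hbb with h2 | h2
  · exact h2
  · exact absurd (cc_zk _ _ _ _ _ _ hbj) (h2 a' b' c' hq (sq_nk _ _ _ _ _ h1))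

theorem ord_s {i : L} (hc : center L = zpowers A.s) (ho : orderOf i = 4) (hi : i ∈ center L) :
    i = A.s ∨ i = A.s⁻¹ := by
  obtain ⟨k, rfl⟩ := cen_sp A hc hi
  have h2 : ∀ k : Fin 4, k = 1 ∨ k = 3 ∨ k + k = 0 := by decide
  rcases h2 k with rfl | rfl | h
  · left; exact A.sp_one
  · right
    rw [← A.sp_one, A.sp_neg]; rfl
  · exfalso
    have h3 : A.sp k ^ 2 = 1 := by rw [pow_two, A.sp_add, h, A.sp_zero]
    have h4 := orderOf_dvd_of_pow_eq_one h3
    rw [ho] at h4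
    omega

theorem noSq (hc : center L = zpowers A.s) {s i : L} (ho : orderOf i = 4) (hi : i ∈ center L)
    (hs : s * t A = t A * s) (h : ∀ x, x * t A = t A * x → ⁅s, x⁆ = 1 ∨ ⁅s, x⁆ = t A) :
    s * s ≠ i ∧ s * s ≠ i * t A := by
  obtain ⟨h1, h2, h3, h4⟩ := no_root A ((mem_S A).2 hs) (fun y hy => h y ((mem_S A).1 hy))
  rcases ord_s A hc ho hi with rfl | rfl
  · exact ⟨h1, h3⟩
  · exact ⟨h2, h4⟩

theorem card_C : Nat.card (centralizer ({t A} : Set L)) = 128 := by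
  have : centralizer ({t A} : Set L) = S A := by
    ext x
    rw [mem_centralizer_singleton_iff, mem_S]
  rw [this, card_S]

/-! ### Assembly -/

/-- **The record `I34.KF.Facts`**, given its three fields on automorphisms at `t = x₀₂(1)` (for all coordinates). -/
theorem facts (hc : center L = zpowers A.s) (ho : orderOf A.s = 4)
    (height : ∀ B : StdL34.Cov L, center L = zpowers B.s → B.ty = A.ty → ∀ κ : MulAut L, κ (t B) = t B →
      (∀ y ∈ Y (t B), ∃ c ∈ center L, κ y = y * c) → κ * κ * (κ * κ) = MulAut.conj (t B) →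
      Nat.card {α : MulAut L // α (t B) = t B ∧ α * κ = κ * α} ≤ 32)
    (hsq : ∀ (α : MulAut L) (n : ℕ), α ^ 2 ^ n = 1 → ∃ k, α * α = MulAut.conj k)
    (hg : ∀ B : StdL34.Cov L, center L = zpowers B.s → B.ty = A.ty → ∀ φ : MulAut L, φ * φ = 1 → φ (t B) = t B →
      (∀ y ∈ Y (t B), ∃ c ∈ center L, φ y = y * c) → (∀ k, φ ≠ MulAut.conj k) →
      ∃ E : Subgroup L, E ≤ I34.KF.fx φ ∧ (∀ g ∈ I34.KF.fx φ, ∀ k ∈ E, g * k * g⁻¹ ∈ E) ∧
        IsSimpleGroup ↥E ∧ 2 ∣ Nat.card E ∧ (∃ a ∈ E, ∃ b ∈ E, a * b ≠ b * a) ∧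
        ∃ k ∈ E, t B * k ≠ k * t B) : I34.KF.Facts L A.ty where
  exists_i := ⟨A.s, ho, hc⟩
  exists_t := ⟨t A, t_NInv A hc⟩
  conj {s t} hs ht := (conj_t A hs).trans' (conj_t A ht).symm'
  card_C {t} ht := by
    obtain ⟨B, h1, h2, rfl⟩ := exists_cov_t A ht
    exact card_C B
  moved {t} ht := by
    obtain ⟨B, h1, h2, rfl⟩ := exists_cov_t A ht
    rw [← h1] at hc
    exact moved B hc
  Y_cases {t w y} ht hw hne hy := by
    obtain ⟨B, h1, h2, rfl⟩ := exists_cov_t A ht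
    rw [← h1] at hc
    exact Y_cases B hc hw hne hy
  Y_sq {t y} ht hy := by
    obtain ⟨B, h1, h2, rfl⟩ := exists_cov_t A ht
    rw [← h1] at hc
    exact Y_sq B hc hy
  comm_Y {t a b} ht ha hb := by
    obtain ⟨B, h1, h2, rfl⟩ := exists_cov_t A ht
    rw [← h1] at hc
    exact comm_Y B hc ha hb
  sq_Y {t a} ht ha := by
    obtain ⟨B, h1, h2, rfl⟩ := exists_cov_t A ht
    rw [← h1] at hc
    exact sq_Y B hc ha
  norm {t} ht N htN hN hn hz := by
    obtain ⟨B, h1, h2, rfl⟩ := exists_cov_t A ht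
    rw [← h1] at hc
    rw [← h2]
    exact norm B hc N htN hN hn hz
  four {t w} ht hw hww _ h := by
    obtain ⟨B, h1, h2, rfl⟩ := exists_cov_t A ht
    rw [← h1] at hc
    exact four B hc hw hww h
  inner {t b j} ht hb hbb hj hjj hbj := by
    obtain ⟨B, h1, h2, rfl⟩ := exists_cov_t A ht
    rw [← h1] at hc
    exact inner B hc hb hbb hj hjj hbj
  eight {t} ht κ hκ hY h4 := by
    obtain ⟨B, h1, h2, rfl⟩ := exists_cov_t A ht
    rw [← h1] at hc
    exact height B hc h2 κ hκ hY h4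
  noSq {t s i} ht ho' hi hs h := by
    obtain ⟨B, h1, h2, rfl⟩ := exists_cov_t A ht
    rw [← h1] at hc
    exact noSq B hc ho' hi hs h
  sq_inner := hsq
  gtype {t} ht φ h1 h2 h3 h4 := by
    obtain ⟨B, h5, h6, rfl⟩ := exists_cov_t A ht
    rw [← h5] at hc
    exact hg B hc h6 φ h1 h2 h3 h4

end Cfsg.Agent.UGT.Cov.KFPure
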