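import Cfsg.Agent.UGT.Cov.Ext
import Cfsg.Agent.OddHalf.D9.L34Mult.NF

/-!
# UGT N1 (I34) [C]: coordinates on `2².L₃(4)` (helper281)

`Dat L` : coordinates `x i j u`, `g : F₄ → Z(L)` (bijective), `π : L → PSL(3,4)`; codes `⟨a, b, c, s⟩` for
`x₀₁(a) x₁₂(b) x₀₂(c) g(s)`; `T` the Sylow 2-subgroup (order 256); `exists_dat` : existence; `mapD` : transport.
-/

set_option autoImplicit false
set_option linter.constructorNameAsVariable false
set_option linter.unusedVariables false

namespace Cfsg.Agent.UGT.Cov.Klein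

open Subgroup
open Cfsg.Agent.SporadicA.FieldFour
open Cfsg.Agent.ONType.Psl
open Cfsg.Agent.ONType.OuterL (rv rv_ne rv_rv)
open Cfsg.Agent.LThreeFour (Ty imgx pu datPSL)
open Cfsg.Agent.OddHalf.D9.L34Mult
open scoped commutatorElement

/-! ### Codes -/

/-- codes -/
structure Code where
  a : F4
  b : F4
  c : F4
  s : F4
  deriving DecidableEq

/-- product of codes -/
def cmul (p q : Code) : Code :=
  ⟨p.a + q.a, p.b + q.b, q.a * p.b + p.c + q.c, p.s + q.s + q.a * (p.b * p.b)⟩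

/-- the trivial code -/
def cone : Code := ⟨0, 0, 0, 0⟩

/-- inverse code -/
def cinv (p : Code) : Code := ⟨p.a, p.b, p.c + p.a * p.b, p.s + p.a * (p.b * p.b)⟩

/-- commutator of codes -/
def cc (p q : Code) : Code := cmul (cmul p q) (cmul (cinv p) (cinv q))

theorem add_self (u : F4) : u + u = 0 := by revert u; decide

/-- `Code` as a product -/
def codeProd : Code ≃ F4 × F4 × F4 × F4 where
  toFun p := (p.a, p.b, p.c, p.s)
  invFun t := ⟨t.1, t.2.1, t.2.2.1, t.2.2.2⟩
  left_inv _ := rfl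
  right_inv _ := rfl

instance : Fintype Code := Fintype.ofEquiv _ codeProd.symm

theorem card_code : Nat.card Code = 256 := by
  have h4 : Nat.card F4 = 4 := by rw [Nat.card_eq_fintype_card]; rfl
  rw [Nat.card_congr codeProd, Nat.card_prod, Nat.card_prod, Nat.card_prod, h4]

theorem cmul_cinv (p : Code) : cmul p (cinv p) = cone := by
  obtain ⟨a, b, c, s⟩ := p
  unfold cmul cinv cone
  simp only [Code.mk.injEq]
  refine ⟨add_self a, add_self b, ?_, ?_⟩
  · have : a * b + c + (c + a * b) = (a * b + c) + (a * b + c) := by ring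
    rw [this, add_self]
  · have : s + (s + a * (b * b)) + a * (b * b) = (s + a * (b * b)) + (s + a * (b * b)) := by ring
    rw [this, add_self]

theorem two_eq : (2 : F4) = 0 := by decide

/-- the commutator of codes -/
theorem cc_eq (p q : Code) : cc p q =
    ⟨0, 0, p.a * q.b + p.b * q.a, p.a * (q.b * q.b) + q.a * (p.b * p.b)⟩ := by
  obtain ⟨a, b, c, s⟩ := p
  obtain ⟨a', b', c', s'⟩ := q
  unfold cc cmul cinv
  simp only [Code.mk.injEq]
  refine ⟨add_self _, add_self _, ?_, ?_⟩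
  · linear_combination (a * b + a' * b' + a' * b + c + c') * two_eq
  · linear_combination (s + s' + a' * b ^ 2 + a * b ^ 2 + a' * b' ^ 2 + a * b * b' + a' * b * b') * two_eq

theorem cmul_self (p : Code) : cmul p p = ⟨0, 0, p.a * p.b, p.a * (p.b * p.b)⟩ := by
  obtain ⟨a, b, c, s⟩ := p
  unfold cmul
  simp only [Code.mk.injEq]
  refine ⟨add_self _, add_self _, ?_, ?_⟩
  · linear_combination c * two_eq
  · linear_combination s * two_eq

theorem cmul_assoc (p q r : Code) : cmul (cmul p q) r = cmul p (cmul q r) := by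
  unfold cmul
  simp only [Code.mk.injEq]
  refine ⟨add_assoc _ _ _, add_assoc _ _ _, by ring, ?_⟩
  linear_combination (-(r.a * (p.b * q.b)) + 2 * r.a * (p.b * q.b)) * two_eq

/-- conjugation of codes: `q p q⁻¹` -/
def cj (q p : Code) : Code := cmul (cmul q p) (cinv q)

theorem cj_eq (q p : Code) : cj q p =
    ⟨p.a, p.b, p.c + p.a * q.b + p.b * q.a, p.s + p.a * (q.b * q.b) + q.a * (p.b * p.b)⟩ := by
  obtain ⟨a, b, c, s⟩ := p
  obtain ⟨a', b', c', s'⟩ := q
  unfold cj cmul cinv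
  simp only [Code.mk.injEq]
  refine ⟨?_, ?_, ?_, ?_⟩
  · linear_combination a' * two_eq
  · linear_combination b' * two_eq
  · linear_combination (c' + a' * b') * two_eq
  · linear_combination (s' + a' * b' ^ 2 + a' * b' * b) * two_eq

/-! ### The structure -/

/-- value of a code -/
def elx {L : Type*} [Group L] (x : Fin 3 → Fin 3 → F4 → L) (g : F4 → L) (p : Code) : L :=
  x 0 1 p.a * x 1 2 p.b * x 0 2 p.c * g p.s

/-- Coordinates on `2².L₃(4)`. -/
structure Dat (L : Type*) [Group L] where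
  x : Fin 3 → Fin 3 → F4 → L
  g : F4 → L
  h : L
  π : L →* PSL3
  b : MulAut L →* MulAut PSL3
  surj : Function.Surjective π
  π_x : ∀ i j, i ≠ j → ∀ u, π (x i j u) = t i j u
  π_h : π h = hh
  ker : ∀ k, π k = 1 ↔ ∃ s, k = g s
  g_inj : Function.Injective g
  g_cen : ∀ s m, g s * m = m * g s
  g_add : ∀ s s', g s * g s' = g (s + s')
  x_add : ∀ i j, i ≠ j → ∀ u v, x i j u * x i j v = x i j (u + v)
  x_row : ∀ i j k, i ≠ j → i ≠ k → ∀ u v, x i j u * x i k v = x i k v * x i j u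
  x_col : ∀ i j k, i ≠ j → k ≠ j → ∀ u v, x i j u * x k j v = x k j v * x i j u
  x_sum : ∀ i j k, i ≠ j → i ≠ k → j ≠ k → ∀ u v,
    x i k u * x k j v = x k j v * x i k u * x i j (u * v) * g (u * (v * v))
  x_wey : ∀ i j k l, i ≠ j → k ≠ l → ∀ u,
    (x i j 1 * x j i 1 * x i j 1)⁻¹ * x k l u * (x i j 1 * x j i 1 * x i j 1)
      = x (Equiv.swap i j k) (Equiv.swap i j l) u
  h_pow : h ^ 3 = 1
  h_x : ∀ i j, i ≠ j → ∀ u, h⁻¹ * x i j u * h = x i j (kap i j * u)
  gen : Subgroup.closure {y | ∃ i j u, i ≠ j ∧ y = x i j u} = ⊤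
  perf : commutator L = ⊤
  cen : ∀ k, (∀ m, k * m = m * k) → π k = 1
  bar : ∀ α m, b α (π m) = π (α m)
  outer : ∀ α : MulAut L, ∃ (l : L) (τ : Ty), ∀ i j, i ≠ j → ∀ u,
    l * α (x i j u) * l⁻¹ = imgx x τ i j u

/-! ### Existence -/

theorem sqrtF (s : F4) : ∃ r : F4, s = r * r := by revert s; decide

/-- coordinates from an extension with elementary abelian kernel of order 4 -/
theorem exists_dat_of {M : Type*} [Group M] [Finite M] {π : M →* PSL3} {b : MulAut M →* MulAut PSL3} (E : Ext π b)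
    (h2 : ∀ k, π k = 1 → k * k = 1) (h4 : Nat.card π.ker = 4) : ∃ A : Dat M, A.π = π ∧ A.b = b := by
  classical
  have C := E.ce
  have hf : ∀ s, C.f s = 1 := by
    intro s
    obtain ⟨r, rfl⟩ := sqrtF s
    rw [← C.g_sq]
    exact h2 _ (C.g_map r)
  have hga : ∀ s s', C.g s * C.g s' = C.g (s + s') := by
    intro s s'
    rw [C.g_add, hf, mul_one]
  -- the range of `g`
  let B : Subgroup M :=
    { carrier := {k | ∃ s, k = C.g s}
      mul_mem' := by
        rintro _ _ ⟨s, rfl⟩ ⟨s', rfl⟩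
        exact ⟨s + s', hga s s'⟩
      one_mem' := ⟨0, C.g_zero.symm⟩
      inv_mem' := by
        rintro _ ⟨s, rfl⟩
        refine ⟨s, ?_⟩
        apply inv_eq_of_mul_eq_one_left
        exact h2 _ (C.g_map s) }
  have hB : π.ker ≤ B := C.ker_gen E.perf E.ker2 B (fun s => ⟨s, rfl⟩)
  have hinj : Function.Injective C.g := by
    have h1 : Function.Surjective (fun s : F4 => (⟨C.g s, C.g_map s⟩ : π.ker)) := by
      rintro ⟨k, hk⟩
      obtain ⟨s, hs⟩ := hB hk
      exact ⟨s, Subtype.ext hs.symm⟩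
    have h5 : Nat.card F4 = Nat.card π.ker := by
      rw [h4, Nat.card_eq_fintype_card]; rfl
    have h6 := (Nat.bijective_iff_surjective_and_card _).2 ⟨h1, h5⟩
    intro s s' h
    exact h6.1 (Subtype.ext h)
  have h3 : π (C.h ^ 4) = hh := by
    rw [map_pow, C.map_h]
    have : hh ^ 3 = 1 := datPSL.h_pow
    rw [show (4 : ℕ) = 3 + 1 by norm_num, pow_succ, this, one_mul]
  refine ⟨{ x := C.x, g := C.g, h := C.h ^ 4, π := π, b := b, surj := C.surj, π_x := C.map_x, π_h := h3, ker := ?_, g_inj := hinj, g_cen := C.g_cen, g_add := hga, x_add := C.x_add, x_row := ?_, x_col := ?_, x_sum := ?_, x_wey := ?_, h_pow := ?_, h_x := ?_, gen := ?_, perf := E.perf, cen := E.cen, bar := E.bar, outer := ?_ }, rfl, rfl⟩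
  · intro k
    constructor
    · intro hk
      exact hB hk
    · rintro ⟨s, rfl⟩
      exact C.g_map s
  · intro i j k h1 h2 u v
    by_cases h3 : j = k
    · subst h3
      rw [C.x_add i j h1, C.x_add i j h1, add_comm]
    · rw [C.rel_row i j k h1 h2 h3, hf, mul_one]
  · intro i j k h1 h2 u v
    by_cases h3 : i = k
    · subst h3
      rw [C.x_add i j h1, C.x_add i j h1, add_comm]
    · rw [C.rel_col i j k h1 h3 h2.symm, hf, mul_one]
  · intro i j k h1 h2 h3 u v
    rw [C.rel_sum i j k h1 h2 h3, ← mul_assoc]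
  · intro i j k l h1 h2 u
    exact C.n_conj_x i j k l h1 h2 u
  · have h5 : π (C.h ^ 3) = 1 := by
      rw [map_pow, C.map_h]
      exact datPSL.h_pow
    rw [← pow_mul, mul_comm, pow_mul]
    have := h2 _ h5
    calc (C.h ^ 3) ^ 4 = (C.h ^ 3 * C.h ^ 3) * (C.h ^ 3 * C.h ^ 3) := by group
      _ = 1 := by rw [this, one_mul]
  · intro i j hij u
    rw [C.conj_eq h3, C.h_conj_x i j hij]
  · exact C.closure_x E.perf
  · intro α
    obtain ⟨l, τ, hτ⟩ := datPSL.exists_tau (b α)
    obtain ⟨k, rfl⟩ := C.surj l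
    refine ⟨k, τ, fun i j hij u => ?_⟩
    have h5 : datPSL.IsTau τ (b (MulAut.conj k * α)) := by
      rw [map_mul, CE.bar_conj E.ce b E.bar]
      exact hτ
    exact E.pure h5 hij u

/-- **Existence of coordinates on `2².L₃(4)`.** -/
theorem exists_dat {K : Type*} [Group K] [Finite K] (hperf : commutator K = ⊤)
    (hz4 : Nat.card (center K) = 4) (hz2 : ∀ z ∈ center K, z * z = 1) {F : Type*} [Field F] [Fintype F]
    (hF : Fintype.card F = 4) (e : K ⧸ center K ≃* Matrix.ProjectiveSpecialLinearGroup (Fin 3) F) :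
    Nonempty (Dat K) := by
  have h2 : IsPGroup 2 (center K) := IsPGroup.of_card (n := 2) (by rw [hz4]; norm_num)
  obtain ⟨π, b, E, hker⟩ := exists_ext hperf h2 hF e
  obtain ⟨A, -, -⟩ := exists_dat_of E (fun k hk => hz2 k (by rw [← hker]; exact hk)) (by rw [hker, hz4])
  exact ⟨A⟩

namespace Dat

variable {L : Type*} [Group L] (A : Dat L)

/-- value of a code -/
def el (p : Code) : L := elx A.x A.g p

theorem el_eq (p : Code) : A.el p = A.x 0 1 p.a * A.x 1 2 p.b * A.x 0 2 p.c * A.g p.s := rfl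

theorem g_zero : A.g 0 = 1 := by
  have := A.g_add 0 0
  rw [add_zero] at this
  exact mul_eq_left.mp this

theorem g_sq (s : F4) : A.g s * A.g s = 1 := by rw [A.g_add, add_self, A.g_zero]

theorem g_inv (s : F4) : (A.g s)⁻¹ = A.g s := inv_eq_of_mul_eq_one_left (A.g_sq s)

theorem g_left (s : F4) (m n : L) : m * (A.g s * n) = A.g s * (m * n) := by
  rw [← mul_assoc, ← A.g_cen, mul_assoc]

theorem x_zero (i j : Fin 3) (h : i ≠ j) : A.x i j 0 = 1 := by
  have := A.x_add i j h 0 0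
  rw [add_zero] at this
  exact mul_eq_left.mp this

theorem x_sq (i j : Fin 3) (h : i ≠ j) (u : F4) : A.x i j u * A.x i j u = 1 := by
  rw [A.x_add i j h, add_self, A.x_zero i j h]

theorem x_inv (i j : Fin 3) (h : i ≠ j) (u : F4) : (A.x i j u)⁻¹ = A.x i j u :=
  inv_eq_of_mul_eq_one_left (A.x_sq i j h u)

theorem π_g (s : F4) : A.π (A.g s) = 1 := (A.ker _).2 ⟨s, rfl⟩

theorem π_el (p : Code) : A.π (A.el p) = t 0 1 p.a * t 1 2 p.b * t 0 2 p.c := by
  rw [A.el_eq, map_mul, map_mul, map_mul, A.π_x 0 1 (by decide), A.π_x 1 2 (by decide), A.π_x 0 2 (by decide),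
    A.π_g, mul_one]

theorem swap' (b a : F4) : A.x 1 2 b * A.x 0 1 a =
    A.x 0 1 a * A.x 1 2 b * A.x 0 2 (a * b) * A.g (a * (b * b)) := by
  have h := A.x_sum 0 2 1 (by decide) (by decide) (by decide) a b
  rw [h]
  calc A.x 1 2 b * A.x 0 1 a = A.x 1 2 b * A.x 0 1 a * (A.x 0 2 (a * b) * A.x 0 2 (a * b)) *
        (A.g (a * (b * b)) * A.g (a * (b * b))) := by
        rw [A.x_sq 0 2 (by decide), A.g_sq, mul_one, mul_one]
    _ = A.x 1 2 b * A.x 0 1 a * A.x 0 2 (a * b) * (A.x 0 2 (a * b) * A.g (a * (b * b))) *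
        A.g (a * (b * b)) := by group
    _ = A.x 1 2 b * A.x 0 1 a * A.x 0 2 (a * b) * (A.g (a * (b * b)) * A.x 0 2 (a * b)) *
        A.g (a * (b * b)) := by rw [A.g_cen]
    _ = _ := by group

theorem el_mul (p q : Code) : A.el p * A.el q = A.el (cmul p q) := by
  obtain ⟨a, b, c, s⟩ := p
  obtain ⟨a', b', c', s'⟩ := q
  simp only [el_eq, cmul]
  have e1 := A.x_row 0 2 1 (by decide) (by decide) c a'
  have e2 := A.swap' b a'
  have e3 := A.x_col 0 2 1 (by decide) (by decide) (a' * b + c) b'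
  have a1 := A.x_add 0 1 (by decide) a a'
  have a2 := A.x_add 1 2 (by decide) b b'
  have a3 := A.x_add 0 2 (by decide) (a' * b) c
  have a4 := A.x_add 0 2 (by decide) (a' * b + c) c'
  calc A.x 0 1 a * A.x 1 2 b * A.x 0 2 c * A.g s * (A.x 0 1 a' * A.x 1 2 b' * A.x 0 2 c' * A.g s')
      = A.x 0 1 a * A.x 1 2 b * A.x 0 2 c * (A.g s * (A.x 0 1 a' * A.x 1 2 b' * A.x 0 2 c')) * A.g s' := by group
    _ = A.x 0 1 a * A.x 1 2 b * (A.x 0 2 c * A.x 0 1 a') * A.x 1 2 b' * A.x 0 2 c' * (A.g s * A.g s') := by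
        rw [A.g_cen]; group
    _ = A.x 0 1 a * (A.x 1 2 b * A.x 0 1 a') * A.x 0 2 c * A.x 1 2 b' * A.x 0 2 c' * A.g (s + s') := by
        rw [e1, A.g_add]; group
    _ = A.x 0 1 a * A.x 0 1 a' * A.x 1 2 b * A.x 0 2 (a' * b) * (A.g (a' * (b * b)) *
          (A.x 0 2 c * A.x 1 2 b' * A.x 0 2 c')) * A.g (s + s') := by
        rw [e2]; group
    _ = (A.x 0 1 a * A.x 0 1 a') * A.x 1 2 b * ((A.x 0 2 (a' * b) * A.x 0 2 c) * A.x 1 2 b') *
          A.x 0 2 c' * (A.g (a' * (b * b)) * A.g (s + s')) := by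
        rw [A.g_cen]; group
    _ = (A.x 0 1 a * A.x 0 1 a') * (A.x 1 2 b * A.x 1 2 b') * (A.x 0 2 (a' * b + c) *
          A.x 0 2 c') * (A.g (a' * (b * b)) * A.g (s + s')) := by
        rw [a3, e3]; group
    _ = _ := by
        rw [a1, a2, a4, A.g_add, add_comm (a' * (b * b))]

theorem el_one : A.el cone = 1 := by
  simp only [el_eq, cone]
  rw [A.x_zero 0 1 (by decide), A.x_zero 1 2 (by decide), A.x_zero 0 2 (by decide), A.g_zero]
  simp

theorem el_inv (p : Code) : (A.el p)⁻¹ = A.el (cinv p) := by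
  apply inv_eq_of_mul_eq_one_right
  rw [A.el_mul, cmul_cinv, A.el_one]

theorem inj {p q : Code} (h : A.el p = A.el q) : p = q := by
  have h1 := congrArg A.π h
  rw [A.π_el, A.π_el] at h1
  obtain ⟨ha, hb, hc⟩ := Cfsg.Agent.ONType.PslCard.t_inj h1
  obtain ⟨a, b, c, s⟩ := p
  obtain ⟨a', b', c', s'⟩ := q
  simp only at ha hb hc
  subst ha hb hc
  rw [A.el_eq, A.el_eq] at h
  have hs := A.g_inj (mul_left_cancel h)
  simp only at hs
  rw [hs]

theorem el_g (s : F4) : A.el ⟨0, 0, 0, s⟩ = A.g s := by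
  simp only [el_eq]
  rw [A.x_zero 0 1 (by decide), A.x_zero 1 2 (by decide), A.x_zero 0 2 (by decide)]
  simp

theorem el_x02 (c : F4) : A.el ⟨0, 0, c, 0⟩ = A.x 0 2 c := by
  simp only [el_eq]
  rw [A.x_zero 0 1 (by decide), A.x_zero 1 2 (by decide), A.g_zero]
  simp

theorem el_x01 (a : F4) : A.el ⟨a, 0, 0, 0⟩ = A.x 0 1 a := by
  simp only [el_eq]
  rw [A.x_zero 0 2 (by decide), A.x_zero 1 2 (by decide), A.g_zero]
  simp

theorem el_x12 (b : F4) : A.el ⟨0, b, 0, 0⟩ = A.x 1 2 b := by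
  simp only [el_eq]
  rw [A.x_zero 0 1 (by decide), A.x_zero 0 2 (by decide), A.g_zero]
  simp

theorem el_cc (p q : Code) : ⁅A.el p, A.el q⁆ = A.el (cc p q) := by
  rw [commutatorElement_def, A.el_inv, A.el_inv, mul_assoc (A.el p * A.el q), A.el_mul, A.el_mul, A.el_mul]
  rfl

theorem el_cj (q p : Code) : A.el q * A.el p * (A.el q)⁻¹ = A.el (cj q p) := by
  rw [A.el_inv, A.el_mul, A.el_mul]; rfl

/-- the Sylow 2-subgroup -/
def T : Subgroup L where
  carrier := Set.range A.el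
  mul_mem' := by
    rintro _ _ ⟨p, rfl⟩ ⟨q, rfl⟩
    exact ⟨_, (A.el_mul p q).symm⟩
  one_mem' := ⟨cone, A.el_one⟩
  inv_mem' := by
    rintro _ ⟨p, rfl⟩
    exact ⟨_, (A.el_inv p).symm⟩

theorem mem_T {l : L} : l ∈ A.T ↔ ∃ p, A.el p = l := Iff.rfl

theorem el_mem (p : Code) : A.el p ∈ A.T := ⟨p, rfl⟩

/-- codes of elements of the Sylow 2-subgroup -/
noncomputable def codeEquiv : Code ≃ A.T :=
  Equiv.ofBijective (fun p => ⟨A.el p, A.el_mem p⟩) ⟨fun p q h => A.inj (congrArg Subtype.val h),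
    fun ⟨_, p, hp⟩ => ⟨p, Subtype.ext hp⟩⟩

theorem card_T : Nat.card A.T = 256 := by
  rw [← Nat.card_congr A.codeEquiv, card_code]

theorem mem_T_iff {l : L} : l ∈ A.T ↔ A.π l ∈ datPSL.T := by
  constructor
  · rintro ⟨p, rfl⟩
    rw [A.π_el]
    exact ⟨⟨p.a, p.b, p.c⟩, rfl⟩
  · rintro ⟨⟨a, b, c⟩, hp⟩
    have h1 : A.π ((A.el ⟨a, b, c, 0⟩)⁻¹ * l) = 1 := by
      rw [map_mul, map_inv, A.π_el]
      show (t 0 1 a * t 1 2 b * t 0 2 c)⁻¹ * A.π l = 1
      rw [← show t 0 1 a * t 1 2 b * t 0 2 c = A.π l from hp, inv_mul_cancel]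
    obtain ⟨s, hs⟩ := (A.ker _).1 h1
    refine ⟨cmul ⟨a, b, c, 0⟩ ⟨0, 0, 0, s⟩, ?_⟩
    rw [← A.el_mul, A.el_g, ← hs, mul_inv_cancel_left]

theorem T_eq : A.T = datPSL.T.comap A.π := by
  ext l; rw [mem_comap, A.mem_T_iff]

theorem T_index : A.T.index = 315 := by
  rw [A.T_eq, index_comap_of_surjective _ A.surj]
  have h1 := card_mul_index datPSL.T
  rw [datPSL.card_T, datPSL.card] at h1
  omega

theorem cent {l : L} : l * A.x 0 2 1 = A.x 0 2 1 * l ↔ l ∈ A.T := by
  constructor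
  · intro h
    rw [A.mem_T_iff]
    have := congrArg A.π h
    rw [map_mul, map_mul, A.π_x 0 2 (by decide)] at this
    exact datPSL.cent_x02.1 this
  · rintro ⟨⟨a, b, c, s⟩, rfl⟩
    rw [← A.el_x02, A.el_mul, A.el_mul]
    congr 1
    unfold cmul
    simp only [Code.mk.injEq, add_zero, zero_add, mul_zero, zero_mul, true_and, and_true]
    ring

theorem ker_eq : A.π.ker = center L := by
  ext k
  rw [MonoidHom.mem_ker, mem_center_iff]
  constructor
  · intro h m
    obtain ⟨s, rfl⟩ := (A.ker k).1 h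
    exact (A.g_cen s m).symm
  · intro h
    exact A.cen k (fun m => (h m).symm)

theorem mem_center {k : L} : k ∈ center L ↔ ∃ s, k = A.g s := by
  rw [← A.ker_eq, MonoidHom.mem_ker, A.ker]

include A in
theorem card_center : Nat.card (center L) = 4 := by
  have h4 : Nat.card F4 = 4 := by rw [Nat.card_eq_fintype_card]; rfl
  rw [← h4]
  symm
  apply Nat.card_congr
  refine Equiv.ofBijective (fun s => ⟨A.g s, A.mem_center.2 ⟨s, rfl⟩⟩) ⟨?_, ?_⟩
  · intro s s' h
    exact A.g_inj (congrArg Subtype.val h)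
  · rintro ⟨k, hk⟩
    obtain ⟨s, rfl⟩ := A.mem_center.1 hk
    exact ⟨s, rfl⟩

include A in
theorem center_sq {z : L} (hz : z ∈ center L) : z * z = 1 := by
  obtain ⟨s, rfl⟩ := A.mem_center.1 hz
  exact A.g_sq s

/-- `β` acts on the coordinates exactly as the pure outer type `τ` -/
def IsTau (τ : Ty) (β : MulAut L) : Prop :=
  ∀ i j, i ≠ j → ∀ u, β (A.x i j u) = imgx A.x τ i j u

theorem exists_tau (α : MulAut L) : ∃ (l : L) (τ : Ty), A.IsTau τ (MulAut.conj l * α) := A.outer α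

end Dat

/-! ### Transport -/

/-- transport of an automorphism -/
def autMap {L M : Type*} [Group L] [Group M] (e : L ≃* M) : MulAut M →* MulAut L where
  toFun α := (e.trans α).trans e.symm
  map_one' := by
    apply MulEquiv.ext
    intro l
    simp
  map_mul' α β := by
    apply MulEquiv.ext
    intro l
    simp

theorem autMap_apply {L M : Type*} [Group L] [Group M] (e : L ≃* M) (α : MulAut M) (l : L) :
    autMap e α l = e.symm (α (e l)) := rfl

/-- transport of coordinates along an isomorphism -/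
def mapD {L M : Type*} [Group L] [Group M] (A : Dat L) (e : L ≃* M) : Dat M where
  x i j u := e (A.x i j u)
  g s := e (A.g s)
  h := e A.h
  π := A.π.comp e.symm.toMonoidHom
  b := A.b.comp (autMap e)
  surj := A.surj.comp e.symm.surjective
  π_x i j hij u := by
    show A.π (e.symm (e (A.x i j u))) = _
    rw [e.symm_apply_apply, A.π_x i j hij]
  π_h := by
    show A.π (e.symm (e A.h)) = _
    rw [e.symm_apply_apply, A.π_h]
  ker k := by
    show A.π (e.symm k) = 1 ↔ _
    rw [A.ker]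
    constructor
    · rintro ⟨s, hs⟩
      exact ⟨s, by rw [← hs, e.apply_symm_apply]⟩
    · rintro ⟨s, rfl⟩
      exact ⟨s, e.symm_apply_apply _⟩
  g_inj := e.injective.comp A.g_inj
  g_cen s m := by
    have := congrArg e (A.g_cen s (e.symm m))
    rwa [map_mul, map_mul, e.apply_symm_apply] at this
  g_add s s' := by rw [← map_mul, A.g_add]
  x_add i j h u v := by rw [← map_mul, A.x_add i j h]
  x_row i j k h1 h2 u v := by
    rw [← map_mul, A.x_row i j k h1 h2, map_mul]
  x_col i j k h1 h2 u v := by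
    rw [← map_mul, A.x_col i j k h1 h2, map_mul]
  x_sum i j k h1 h2 h3 u v := by
    rw [← map_mul, A.x_sum i j k h1 h2 h3, map_mul, map_mul, map_mul]
  x_wey i j k l h1 h2 u := by
    rw [← map_mul, ← map_mul, ← map_inv, ← map_mul, ← map_mul, A.x_wey i j k l h1 h2]
  h_pow := by rw [← map_pow, A.h_pow, map_one]
  h_x i j h u := by rw [← map_inv, ← map_mul, ← map_mul, A.h_x i j h]
  gen := by
    have h1 : {y | ∃ i j u, i ≠ j ∧ y = e (A.x i j u)} = e '' {y | ∃ i j u, i ≠ j ∧ y = A.x i j u} := by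
      ext y
      constructor
      · rintro ⟨i, j, u, h, rfl⟩
        exact ⟨_, ⟨i, j, u, h, rfl⟩, rfl⟩
      · rintro ⟨_, ⟨i, j, u, h, rfl⟩, rfl⟩
        exact ⟨i, j, u, h, rfl⟩
    rw [h1]
    have := (MonoidHom.map_closure e.toMonoidHom {y | ∃ i j u, i ≠ j ∧ y = A.x i j u})
    rw [A.gen] at this
    change _ = Subgroup.closure (e '' _) at this
    rw [← this, Subgroup.map_top_of_surjective _ e.surjective]
  perf := by
    have h1 : (commutator L).map e.toMonoidHom = commutator M := by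
      rw [_root_.map_commutator_eq, MonoidHom.range_eq_top.2 e.surjective]
      rfl
    rw [← h1, A.perf, Subgroup.map_top_of_surjective _ e.surjective]
  cen k hk := by
    show A.π (e.symm k) = 1
    apply A.cen
    intro m
    apply e.injective
    rw [map_mul, map_mul, e.apply_symm_apply, hk]
  bar α m := by
    show A.b (autMap e α) (A.π (e.symm m)) = A.π (e.symm (α m))
    rw [A.bar, autMap_apply, e.apply_symm_apply]
  outer α := by
    obtain ⟨l, τ, h⟩ := A.outer (autMap e α)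
    refine ⟨e l, τ, fun i j hij u => ?_⟩
    have h1 := congrArg e (h i j hij u)
    rw [map_mul, map_mul, map_inv, autMap_apply, e.apply_symm_apply] at h1
    rw [h1]
    unfold imgx
    split <;> rfl

theorem mapD_x {L M : Type*} [Group L] [Group M] (A : Dat L) (e : L ≃* M) (i j : Fin 3) (u : F4) :
    (mapD A e).x i j u = e (A.x i j u) := rfl

theorem mapD_g {L M : Type*} [Group L] [Group M] (A : Dat L) (e : L ≃* M) (s : F4) :
    (mapD A e).g s = e (A.g s) := rfl

end Cfsg.Agent.UGT.Cov.Klein
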