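import Cfsg.Agent.UGT.Cov.KleinP
import Cfsg.Agent.UGT.Cov.Res
import Cfsg.Agent.UGT.FL34.Gen

/-!
# UGT N1 (I34) [C]: involutory outer automorphisms of `2².L₃(4)`: coordinates

* `Dat.exists_pure` : coordinates in which the outer involution `φ` is the field, graph or unitary automorphism;
* `ctau` : its action on codes, `IsTau.el`.
-/

set_option autoImplicit false
set_option linter.constructorNameAsVariable false
set_option linter.unusedVariables false

namespace Cfsg.Agent.UGT.Cov.Klein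

open Subgroup
open Cfsg.Agent.SporadicA.FieldFour
open Cfsg.Agent.ONType
open Cfsg.Agent.ONType.Psl (PSL3 kap hh)
open Cfsg.Agent.ONType.OuterL (rv rv_ne rv_rv)
open Cfsg.Agent.LThreeFour (Ty imgx pu datPSL ty1)
open Cfsg.Agent.OddHalf.D9.L34Mult
open scoped commutatorElement

variable {K : Type*} [Group K]

/-! ### change of coordinates -/

/-- change of the isomorphism with `PSL(3,4)` -/
theorem ext_comp {π : K →* PSL3} {b : MulAut K →* MulAut PSL3} (E : Ext π b) (γ : MulAut PSL3) :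
    Ext (γ.toMonoidHom.comp π) ((MulAut.conj γ).toMonoidHom.comp b) := by
  have hker : (γ.toMonoidHom.comp π).ker = π.ker := by
    ext k
    rw [MonoidHom.mem_ker, MonoidHom.mem_ker]
    constructor
    · intro h
      exact γ.injective (by rw [map_one]; exact h)
    · intro h
      show γ (π k) = 1
      rw [h, map_one]
  refine ⟨⟨γ.surjective.comp E.ce.surj, fun k hk => E.ce.cen k ?_⟩, E.perf, ?_, fun k hk => ?_, fun α m => ?_⟩
  · have : k ∈ (γ.toMonoidHom.comp π).ker := hk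
    rwa [hker] at this
  · rw [hker]; exact E.ker2
  · show γ (π k) = 1
    rw [E.cen k hk, map_one]
  · show (γ * b α * γ⁻¹) (γ (π m)) = γ (π (α m))
    rw [MulAut.mul_apply, MulAut.mul_apply, MulAut.inv_apply_self, E.bar]

namespace Dat

variable (A : Dat K)

/-- the extension -/
theorem ext : Ext A.π A.b where
  ce := ⟨A.surj, fun k hk m => by
    obtain ⟨s, rfl⟩ := (A.ker k).1 hk
    exact A.g_cen s m⟩
  perf := A.perf
  ker2 := by
    rintro ⟨k, hk⟩
    obtain ⟨s, rfl⟩ := (A.ker k).1 hk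
    refine ⟨1, Subtype.ext ?_⟩
    show A.g s ^ 2 ^ 1 = 1
    rw [pow_one, pow_two, A.g_sq]
  cen := A.cen
  bar := A.bar

theorem kap_sum : ∀ (i j : Fin 3), i ≠ j → ∀ u : F4, kap i j * u + kap i j * (kap i j * u) = u := by decide

/-- the coordinates are the canonical lifts -/
theorem x_eq_ext {i j : Fin 3} (hij : i ≠ j) (u : F4) : A.x i j u = A.ext.ce.x i j u := by
  rw [A.ext.ce.x_eq hij (A.π_x i j hij (kap i j * u))]
  unfold hat
  rw [← A.ext.ce.conj_eq A.π_h, A.h_x i j hij, A.x_inv i j hij, A.x_add i j hij, kap_sum i j hij]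

theorem isTau_of_b {τ : Ty} {φ : MulAut K} (h : datPSL.IsTau τ (A.b φ)) : A.IsTau τ φ := by
  intro i j hij u
  rw [A.x_eq_ext hij, A.ext.pure h hij]
  unfold imgx
  split_ifs with hc
  · rw [A.x_eq_ext (rv_ne hij.symm)]
  · rw [A.x_eq_ext hij]

variable {A}

/-- `IsTau` in `K` and in `PSL(3,4)` -/
theorem IsTau.bar {τ : Ty} {φ : MulAut K} (h : A.IsTau τ φ) : datPSL.IsTau τ (A.b φ) := by
  intro i j hij u
  have h1 := congrArg A.π (h i j hij u)
  rw [← A.bar, A.π_x i j hij] at h1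
  have h2 : A.b φ (Psl.t i j u) = imgx Psl.t τ i j u := by
    rw [h1]
    unfold imgx
    split_ifs with hc
    · exact A.π_x _ _ (rv_ne hij.symm) _
    · exact A.π_x i j hij _
  exact h2

variable (A)

theorem inner_of_b {φ : MulAut K} {l : PSL3} (h : A.b φ = MulAut.conj l) : ∃ k, φ = MulAut.conj k := by
  obtain ⟨k, rfl⟩ := A.surj l
  exact ⟨k, A.ext.ce.inner_of_bar A.ext.perf A.b A.ext.bar h⟩

/-- **Coordinates adapted to an outer involution.** -/
theorem exists_pure [Finite K] (A : Dat K) {φ : MulAut K} (h2 : φ * φ = 1) (ho : ∀ k, φ ≠ MulAut.conj k) :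
    ∃ (B : Dat K) (e f : Bool), (e, f) ≠ (false, false) ∧ B.IsTau (e, f, 0) φ := by
  have hα2 : A.b φ * A.b φ = 1 := by rw [← map_mul, h2, map_one]
  set e0 : PSL3 ≃* PSL3 := MulEquiv.refl PSL3 with he0
  set D0 := Cfsg.Agent.UGT.FL34.D e0 with hD0
  obtain ⟨⟨b1, b2⟩, hb⟩ : ∃ q, Cfsg.Agent.LThreeFour.bits (D0.tyHom (A.b φ)) = q := ⟨_, rfl⟩
  have hne : (b1, b2) ≠ (false, false) := by
    intro h0
    rw [h0] at hb
    have h4 : D0.tyHom (A.b φ) * D0.tyHom (A.b φ) = 1 := by rw [← map_mul, hα2, map_one]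
    have h5 : D0.tyHom (A.b φ) = 1 := Cfsg.Agent.LThreeFour.sq_inner _ hb h4
    obtain ⟨l, hl⟩ := D0.inner_iff.mp h5
    obtain ⟨k, hk⟩ := A.inner_of_b hl
    exact ho k hk
  have hQ : IsPGroup 2 (zpowers (A.b φ)) := by
    rintro ⟨x, hx⟩
    obtain ⟨k, rfl⟩ := mem_zpowers_iff.mp hx
    refine ⟨1, Subtype.ext ?_⟩
    show (A.b φ ^ k) ^ (2 ^ 1) = 1
    rw [pow_one, ← zpow_natCast, ← zpow_mul, mul_comm, zpow_mul]
    have : A.b φ ^ ((2 : ℕ) : ℤ) = 1 := by rw [zpow_natCast, pow_two, hα2]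
    rw [this, one_zpow]
  obtain ⟨e', he', -⟩ := Cfsg.Agent.UGT.FL34.pl e0 _ hQ (mem_zpowers _) hα2 hb hne
  set γ : MulAut PSL3 := e'.symm with hγ
  have E' := ext_comp A.ext γ
  have hker : (γ.toMonoidHom.comp A.π).ker = A.π.ker := by
    ext k
    rw [MonoidHom.mem_ker, MonoidHom.mem_ker]
    constructor
    · intro h
      exact γ.injective (by rw [map_one]; exact h)
    · intro h
      show γ (A.π k) = 1
      rw [h, map_one]
  obtain ⟨B, hB1, hB2⟩ := exists_dat_of E' (fun k hk => by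
      have : k ∈ (γ.toMonoidHom.comp A.π).ker := hk
      rw [hker] at this
      obtain ⟨s, rfl⟩ := (A.ker k).1 this
      exact A.g_sq s) (by rw [hker, A.ker_eq, A.card_center])
  refine ⟨B, b1, b2, hne, B.isTau_of_b ?_⟩
  intro i j hij u
  rw [hB2]
  show (γ * A.b φ * γ⁻¹) (Psl.t i j u) = imgx Psl.t (b1, b2, 0) i j u
  have h6 : A.b φ (e' (Psl.t i j u)) = imgx (fun i j u => e' (Psl.t i j u)) (b1, b2, 0) i j u := he' i j hij u
  have h7 : (γ⁻¹ : MulAut PSL3) (Psl.t i j u) = e' (Psl.t i j u) := rfl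
  rw [MulAut.mul_apply, MulAut.mul_apply, h7, h6]
  unfold imgx
  split_ifs with hc
  · show e'.symm (e' _) = _
    rw [e'.symm_apply_apply]
  · show e'.symm (e' _) = _
    rw [e'.symm_apply_apply]

end Dat

end Cfsg.Agent.UGT.Cov.Klein
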