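import Cfsg.Agent.UGT.Cov.KleinV

/-!
# UGT N1 (I34) [C]: normal subgroups of the Sylow 2-subgroup of `2².L₃(4)` (helper281)

`B ⊴ T`, `B ∩ Z(L) = 1`, `|B| ≥ 4`:
* `B_cover` : `D0 = Z(L) (B ∩ D0)`; `B_sq` : `B` is elementary abelian; `B_card` : `|B| ≤ 8`;
* `can_of_quot` : if `T / B` is a Sylow 2-subgroup of `L₃(4)`, then the involutions of `B` are canonical.
-/

set_option autoImplicit false
set_option linter.constructorNameAsVariable false
set_option linter.unusedVariables false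

namespace Cfsg.Agent.UGT.Cov.Klein

open Subgroup
open Cfsg.Agent.SporadicA.FieldFour
open Cfsg.Agent.ONType.Psl
open Cfsg.Agent.LThreeFour (Ty imgx pu datPSL fr ty1 cact)
open scoped commutatorElement

theorem Bc1 : ∀ a b : F4, a ≠ 0 → b ≠ 0 → ∃ a' b' : F4, a * b' + b * a' = 0 ∧ a * (b' * b') + a' * (b * b) ≠ 0 := by
  decide

theorem Bc2 : ∀ a b : F4, (a = 0 ∨ b = 0) → ¬ (a = 0 ∧ b = 0) → ∀ c : F4, ∃ a' b' : F4, a * b' + b * a' = c := by
  decide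

theorem Bc3 : ∀ a b a' b' : F4, (a = 0 ∨ b = 0) → (a' = 0 ∨ b' = 0) → ¬ (a = 0 ∧ b = 0) → ¬ (a' = 0 ∧ b' = 0) →
    ¬ (a = a' ∧ b = b') → ∃ u v u' v' : F4, a * v + b * u = a' * v' + b' * u' ∧
      a * (v * v) + u * (b * b) ≠ a' * (v' * v') + u' * (b' * b') := by decide +kernel

theorem code_root : ∀ c s : F4, c ≠ 0 → s ≠ 0 → ∃ a b : F4, a ≠ 0 ∧ b ≠ 0 ∧ a * b = c ∧ a * (b * b) = s := by
  decide

namespace Dat

variable {L : Type*} [Group L] (A : Dat L)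

/-- `B ⊴ T`, `B ∩ Z(L) = 1` -/
structure Nml (B : Subgroup L) : Prop where
  le : B ≤ A.T
  conj : ∀ x ∈ B, ∀ y ∈ A.T, y * x * y⁻¹ ∈ B
  cen : ∀ x ∈ B, x ∈ center L → x = 1

variable {A} {B : Subgroup L} (h : A.Nml B)
include h

theorem Nml.comm {x y : L} (hx : x ∈ B) (hy : y ∈ A.T) : ⁅x, y⁆ ∈ B := by
  have h1 := h.conj _ (inv_mem hx) y hy
  have h2 := mul_mem hx h1
  have e : x * (y * x⁻¹ * y⁻¹) = ⁅x, y⁆ := by rw [commutatorElement_def]; group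
  rwa [e] at h2

theorem Nml.uniq {c s s' : F4} (h1 : A.el ⟨0, 0, c, s⟩ ∈ B) (h2 : A.el ⟨0, 0, c, s'⟩ ∈ B) : s = s' := by
  have h3 := mul_mem h1 h2
  have e : cmul ⟨0, 0, c, s⟩ ⟨0, 0, c, s'⟩ = ⟨0, 0, 0, s + s'⟩ := by
    unfold cmul
    simp [add_self]
  rw [A.el_mul, e] at h3
  have h4 := h.cen _ h3 (A.el_mem_center.2 ⟨rfl, rfl, rfl⟩)
  rw [← A.el_one] at h4
  have h5 : s + s' = 0 := congrArg Code.s (A.inj h4)
  have : ∀ s s' : F4, s + s' = 0 → s = s' := by decide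
  exact this _ _ h5

theorem Nml.ab {p : Code} (hp : A.el p ∈ B) : p.a = 0 ∨ p.b = 0 := by
  by_contra hcon
  rw [not_or] at hcon
  obtain ⟨a', b', h1, h2⟩ := Bc1 p.a p.b hcon.1 hcon.2
  have h3 := h.comm hp (A.el_mem ⟨a', b', 0, 0⟩)
  rw [A.el_cc, cc_eq] at h3
  simp only at h3
  rw [h1] at h3
  have h4 := h.cen _ h3 (A.el_mem_center.2 ⟨rfl, rfl, rfl⟩)
  rw [← A.el_one] at h4
  exact h2 (congrArg Code.s (A.inj h4))

theorem Nml.sq {x : L} (hx : x ∈ B) : x * x = 1 := by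
  obtain ⟨p, rfl⟩ := A.mem_T.1 (h.le hx)
  exact A.sq_eq_one.2 (h.ab hx)

theorem Nml.eq_ab {p q : Code} (hp : A.el p ∈ B) (hq : A.el q ∈ B) (hp0 : ¬ yk p) (hq0 : ¬ yk q) :
    p.a = q.a ∧ p.b = q.b := by
  by_contra hcon
  obtain ⟨u, v, u', v', h1, h2⟩ := Bc3 p.a p.b q.a q.b (h.ab hp) (h.ab hq) hp0 hq0 hcon
  have h3 := h.comm hp (A.el_mem ⟨u, v, 0, 0⟩)
  have h4 := h.comm hq (A.el_mem ⟨u', v', 0, 0⟩)
  rw [A.el_cc, cc_eq] at h3 h4
  simp only at h3 h4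
  rw [h1] at h3
  exact h2 (h.uniq h3 h4)

/-- `B → F₄` -/
theorem Nml.cover (h4 : 4 ≤ Nat.card B) (c : F4) : ∃ s, A.el ⟨0, 0, c, s⟩ ∈ B := by
  by_cases hB : B ≤ A.D0
  · -- the coordinate `c` is injective on `B`
    have hf : ∀ x : B, ∃ c s, (x : L) = A.el ⟨0, 0, c, s⟩ := by
      rintro ⟨x, hx⟩
      obtain ⟨⟨a, b, c, s⟩, ⟨h1, h2⟩, rfl⟩ := hB hx
      simp only at h1 h2
      subst h1 h2
      exact ⟨c, s, rfl⟩
    choose f g hfg using hf
    have hinj : Function.Injective f := by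
      intro x y hxy
      apply Subtype.ext
      rw [hfg x, hfg y, hxy]
      congr 2
      apply h.uniq (c := f y)
      · rw [← hxy, ← hfg x]; exact x.2
      · rw [← hfg y]; exact y.2
    have h5 : Nat.card F4 = 4 := by rw [Nat.card_eq_fintype_card]; rfl
    have : Finite B := Nat.finite_of_card_ne_zero (by omega)
    have h6 : Nat.card B = Nat.card F4 := by
      have := Nat.card_le_card_of_injective f hinj
      omega
    have h7 := (Nat.bijective_iff_injective_and_card f).2 ⟨hinj, h6⟩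
    obtain ⟨x, hx⟩ := h7.2 c
    refine ⟨g x, ?_⟩
    rw [← hx, ← hfg x]
    exact x.2
  · rw [SetLike.not_le_iff_exists] at hB
    obtain ⟨x, hx, hxD⟩ := hB
    obtain ⟨p, rfl⟩ := A.mem_T.1 (h.le hx)
    have hp0 : ¬ (p.a = 0 ∧ p.b = 0) := fun h0 => hxD (A.mem_D0.2 h0)
    obtain ⟨a', b', h1⟩ := Bc2 p.a p.b (h.ab hx) hp0 c
    have h3 := h.comm hx (A.el_mem ⟨a', b', 0, 0⟩)
    rw [A.el_cc, cc_eq] at h3
    simp only at h3
    rw [h1] at h3
    exact ⟨_, h3⟩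

/-- `|B ∩ D0| ≤ 4` -/
theorem Nml.card_inf : Nat.card (B ⊓ A.D0 : Subgroup L) ≤ 4 := by
  have hf : ∀ x : (B ⊓ A.D0 : Subgroup L), ∃ c s, (x : L) = A.el ⟨0, 0, c, s⟩ := by
    rintro ⟨x, hx⟩
    obtain ⟨⟨a, b, c, s⟩, ⟨h1, h2⟩, rfl⟩ := hx.2
    simp only at h1 h2
    subst h1 h2
    exact ⟨c, s, rfl⟩
  choose f g hfg using hf
  have hinj : Function.Injective f := by
    intro x y hxy
    apply Subtype.ext
    rw [hfg x, hfg y, hxy]
    congr 2
    apply h.uniq (c := f y)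
    · rw [← hxy, ← hfg x]; exact x.2.1
    · rw [← hfg y]; exact y.2.1
  have h5 : Nat.card F4 = 4 := by rw [Nat.card_eq_fintype_card]; rfl
  rw [← h5]
  exact Nat.card_le_card_of_injective f hinj

/-- `|B| ≤ 8` -/
theorem Nml.card_le : Nat.card B ≤ 8 := by
  have h1 := h.card_inf
  have h2 : (B ⊓ A.D0).relIndex B ≤ 2 := by
    by_cases hB : B ≤ A.D0
    · rw [inf_eq_left.2 hB, relIndex_self]; norm_num
    · rw [SetLike.not_le_iff_exists] at hB
      obtain ⟨x, hx, hxD⟩ := hB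
      obtain ⟨p, rfl⟩ := A.mem_T.1 (h.le hx)
      have key : ∀ y ∈ B, y ∉ A.D0 → (A.el p)⁻¹ * y ∈ B ⊓ A.D0 := by
        intro y hy hyD
        obtain ⟨q, rfl⟩ := A.mem_T.1 (h.le hy)
        refine ⟨B.mul_mem (B.inv_mem hx) hy, ?_⟩
        obtain ⟨e1, e2⟩ := h.eq_ab hx hy (fun h0 => hxD (A.mem_D0.2 h0)) (fun h0 => hyD (A.mem_D0.2 h0))
        rw [A.el_inv, A.el_mul]
        refine A.mem_D0.2 ⟨?_, ?_⟩
        · show p.a + q.a = 0
          rw [e1]; exact add_self _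
        · show p.b + q.b = 0
          rw [e2]; exact add_self _
      have h3 : ((B ⊓ A.D0).subgroupOf B).index ∣ 2 ∨ ((B ⊓ A.D0).subgroupOf B).index ≤ 2 := by
        right
        have : (((B ⊓ A.D0).subgroupOf B).index = 2) := by
          rw [Subgroup.index_eq_two_iff]
          refine ⟨⟨(A.el p)⁻¹, B.inv_mem hx⟩, ?_⟩
          rintro ⟨y, hy⟩
          rw [mem_subgroupOf, mem_subgroupOf]
          change Xor (y * (A.el p)⁻¹ ∈ B ⊓ A.D0) (y ∈ B ⊓ A.D0)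
          by_cases hyD : y ∈ A.D0
          · right
            refine ⟨⟨hy, hyD⟩, fun h5 => hxD ?_⟩
            have h6 := A.D0.mul_mem (A.D0.inv_mem h5.2) hyD
            have e : (y * (A.el p)⁻¹)⁻¹ * y = A.el p := by group
            rwa [e] at h6
          · left
            refine ⟨?_, fun h5 => hyD h5.2⟩
            have h6 := key y hy hyD
            refine ⟨B.mul_mem hy (B.inv_mem hx), ?_⟩
            -- conjugate by an element of `B ≤ T`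
            have e : y * (A.el p)⁻¹ = y * ((A.el p)⁻¹ * y) * y⁻¹ := by group
            rw [e, ← A.D0_comm h6.2 (h.le hy), mul_inv_cancel_right]
            exact h6.2
        omega
      rcases h3 with h3 | h3
      · exact Nat.le_of_dvd (by norm_num) h3
      · exact h3
  have h3 := Subgroup.card_mul_index ((B ⊓ A.D0).subgroupOf B)
  have h4 : Nat.card ((B ⊓ A.D0).subgroupOf B) = Nat.card (B ⊓ A.D0 : Subgroup L) :=
    Nat.card_congr (Subgroup.subgroupOfEquivOfLe inf_le_left).toEquiv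
  rw [h4] at h3
  rw [← h3]
  calc Nat.card (B ⊓ A.D0 : Subgroup L) * ((B ⊓ A.D0).subgroupOf B).index ≤ 4 * 2 := Nat.mul_le_mul h1 h2
    _ = 8 := by norm_num

omit h in
/-- elements over the same inner automorphism -/
theorem conj_eq_iff {k l : L} (A : Dat L) : MulAut.conj k = MulAut.conj l ↔ l⁻¹ * k ∈ center L := by
  constructor
  · intro h1
    have h2 := A.map_conj h1
    rw [← A.ker_eq, MonoidHom.mem_ker, map_mul, map_inv, h2, inv_mul_cancel]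
  · intro h1
    apply A.conj_eq_of_map
    rw [← A.ker_eq, MonoidHom.mem_ker, map_mul, map_inv, inv_mul_eq_one] at h1
    exact h1.symm

omit h in
theorem conj_eq_one_iff {k : L} (A : Dat L) : MulAut.conj k = 1 ↔ k ∈ center L := by
  rw [← map_one MulAut.conj, A.conj_eq_iff, inv_one, one_mul]

omit h in
theorem center_le_T (A : Dat L) : center L ≤ A.T := A.center_le_D0.trans A.sub_le_T

omit h in
/-- the kernel of `T → Inn` -/
theorem card_ker_conj (A : Dat L) : Nat.card ((MulAut.conj : L →* MulAut L).comp A.T.subtype).ker = 4 := by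
  rw [← A.card_center]
  apply Nat.card_congr
  exact
    { toFun := fun x => ⟨x.1.1, A.conj_eq_one_iff.1 x.2⟩
      invFun := fun z => ⟨⟨z.1, A.center_le_T z.2⟩, A.conj_eq_one_iff.2 z.2⟩
      left_inv := fun x => rfl
      right_inv := fun z => rfl }

omit h in
theorem card_range_conj (A : Dat L) : Nat.card ((MulAut.conj : L →* MulAut L).comp A.T.subtype).range = 64 := by
  have h1 := Subgroup.card_mul_index ((MulAut.conj : L →* MulAut L).comp A.T.subtype).ker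
  rw [Subgroup.index_ker, A.card_ker_conj, A.card_T] at h1
  omega

omit h in
/-- decomposition of elements of `T` -/
theorem el_split (A : Dat L) (p : Code) : A.el p = A.x 0 1 p.a * A.el ⟨0, p.b, p.c, p.s⟩ := by
  rw [A.el_eq, A.el_eq, A.x_zero 0 1 (by decide)]
  group

omit h in
theorem x01_mem_E1 (A : Dat L) (a : F4) : A.x 0 1 a ∈ A.E1 := by rw [← A.el_x01]; exact A.mem_E1.2 rfl

omit h in
/-- **If `T / B` is a Sylow 2-subgroup of `L₃(4)` (`B ∩ Z(L) = 1`), the involutions of `B` are canonical.** -/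
theorem can_of_quot {K' : Type*} [Group K'] (A : Dat L) (A' : Dat K') (ρ : A.T →* MulAut K')
    (himg : ∀ x, ∃ p ∈ A'.T, ρ x = MulAut.conj p) (hsurj : ∀ p ∈ A'.T, ∃ x, ρ x = MulAut.conj p)
    (hker : ∀ x : A.T, ρ x = 1 → (x : L) ∈ center L → x = 1) {x : A.T} (hx : ρ x = 1) (hx1 : x ≠ 1) :
    Can (x : L) := by
  classical
  set B : Subgroup L := ρ.ker.map A.T.subtype with hB
  have memB : ∀ y : A.T, (y : L) ∈ B ↔ ρ y = 1 := by
    intro y
    rw [hB, mem_map]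
    constructor
    · rintro ⟨z, hz, hzy⟩
      have : z = y := Subtype.ext hzy
      rw [← this]; exact hz
    · intro hy
      exact ⟨y, hy, rfl⟩
  have hN : A.Nml B := by
    refine ⟨?_, ?_, ?_⟩
    · rintro _ ⟨y, -, rfl⟩
      exact y.2
    · rintro _ ⟨y, hy, rfl⟩ z hz
      have hy1 : ρ y = 1 := hy
      have h1 := (memB (⟨z, hz⟩ * y * ⟨z, hz⟩⁻¹)).2 (by rw [map_mul, map_mul, map_inv, hy1, mul_one, mul_inv_cancel])
      exact h1
    · rintro _ ⟨y, hy, rfl⟩ hz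
      have := hker y hy hz
      rw [this]; rfl
  have hrange : ρ.range = ((MulAut.conj : K' →* MulAut K').comp A'.T.subtype).range := by
    ext α
    constructor
    · rintro ⟨y, rfl⟩
      obtain ⟨p, hp, hp2⟩ := himg y
      exact ⟨⟨p, hp⟩, hp2.symm⟩
    · rintro ⟨p, rfl⟩
      obtain ⟨y, hy⟩ := hsurj p p.2
      exact ⟨y, hy⟩
  have hcard : Nat.card ρ.ker = 4 := by
    have h1 := Subgroup.card_mul_index ρ.ker
    rw [Subgroup.index_ker, hrange, A'.card_range_conj, A.card_T] at h1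
    omega
  have hcardB : Nat.card B = 4 := by
    rw [← hcard, hB]
    exact Nat.card_congr (ρ.ker.equivMapOfInjective _ A.T.subtype_injective).symm.toEquiv
  have : Finite B := Nat.finite_of_card_ne_zero (by omega)
  -- `B ≤ D0`
  choose f hf using hN.cover (by omega)
  have hBD : ∀ y ∈ B, ∃ c, y = A.el ⟨0, 0, c, f c⟩ := by
    have hinj : Function.Injective (fun c : F4 => (⟨A.el ⟨0, 0, c, f c⟩, hf c⟩ : B)) := by
      intro c c' hcc
      exact congrArg Code.c (A.inj (congrArg Subtype.val hcc))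
    have h5 : Nat.card F4 = Nat.card B := by
      rw [hcardB, Nat.card_eq_fintype_card]; rfl
    have h6 := (Nat.bijective_iff_injective_and_card _).2 ⟨hinj, h5⟩
    intro y hy
    obtain ⟨c, hc⟩ := h6.2 ⟨y, hy⟩
    exact ⟨c, (congrArg Subtype.val hc).symm⟩
  have hBD0 : B ≤ A.D0 := by
    intro y hy
    obtain ⟨c, rfl⟩ := hBD y hy
    exact A.mem_D0.2 ⟨rfl, rfl⟩
  obtain ⟨c, hc⟩ := hBD _ ((memB x).2 hx)
  by_cases hc0 : c = 0
  · exfalso
    apply hx1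
    apply hker x hx
    rw [hc, hc0]
    exact A.el_mem_center.2 ⟨rfl, rfl, rfl⟩
  rw [hc, A.can_el (Or.inl rfl) (fun h0 => hc0 h0.2.2)]
  unfold cls
  simp only [mul_zero, zero_mul, add_zero]
  by_contra hs
  -- `x = y ^ 2`
  obtain ⟨a, b, ha, hb, hab, habb⟩ := code_root c (f c) hc0 hs
  set y : A.T := ⟨A.el ⟨a, b, 0, 0⟩, A.el_mem _⟩ with hy
  have hyy : ρ y * ρ y = 1 := by
    rw [← map_mul]
    have : y * y = x := by
      apply Subtype.ext
      show A.el ⟨a, b, 0, 0⟩ * A.el ⟨a, b, 0, 0⟩ = x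
      rw [A.el_mul, cmul_self, hc]
      simp only
      rw [hab, habb]
    rw [this, hx]
  obtain ⟨p, hpT, hp⟩ := himg y
  have hpE : p ∈ A'.E1 ∨ p ∈ A'.E2 := by
    apply A'.mem_of_sq hpT
    rw [← A'.conj_eq_one_iff, map_mul, ← hp, hyy]
  -- images of `E1`, `E2`
  have hW : ∀ E : Subgroup L, (∀ e ∈ E, e * e = 1) → ∀ hET : E ≤ A.T,
      (∀ q ∈ A'.T, (∃ e : A.T, (e : L) ∈ E ∧ ρ e = MulAut.conj q) → q ∈ A'.E1) ∨
      (∀ q ∈ A'.T, (∃ e : A.T, (e : L) ∈ E ∧ ρ e = MulAut.conj q) → q ∈ A'.E2) := by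
    intro E hE hET
    let W : Subgroup K' :=
      { carrier := {q | q ∈ A'.T ∧ ∃ e : A.T, (e : L) ∈ E ∧ ρ e = MulAut.conj q}
        mul_mem' := by
          rintro q q' ⟨h1, e, h2, h3⟩ ⟨h1', e', h2', h3'⟩
          exact ⟨mul_mem h1 h1', e * e', E.mul_mem h2 h2', by rw [map_mul, map_mul, h3, h3']⟩
        one_mem' := ⟨one_mem _, 1, E.one_mem, by rw [map_one, map_one]⟩
        inv_mem' := by
          rintro q ⟨h1, e, h2, h3⟩
          exact ⟨inv_mem h1, e⁻¹, E.inv_mem h2, by rw [map_inv, map_inv, h3]⟩ }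
    have h1 : W ≤ A'.E1 ∨ W ≤ A'.E2 := by
      apply A'.elem_le
      · rintro q ⟨hq, -⟩
        exact hq
      · rintro q ⟨hq, e, he, hqe⟩
        rw [← A'.conj_eq_one_iff, map_mul, ← hqe, ← map_mul]
        have : e * e = 1 := Subtype.ext (hE e he)
        rw [this, map_one]
    rcases h1 with h1 | h1
    · left
      intro q hq hq2
      exact h1 ⟨hq, hq2⟩
    · right
      intro q hq hq2
      exact h1 ⟨hq, hq2⟩
  have hW1 := hW A.E1 (fun e he => A.E1_sq he) A.sub_le_T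
  have hW2 := hW A.E2 (fun e he => A.E2_sq he) A.sub_le_T
  -- decomposition of elements of `T'`
  have hdec : ∀ x : A.T, ∀ q ∈ A'.T, ρ x = MulAut.conj q → ∃ e1 e2 : A.T, (e1 : L) ∈ A.E1 ∧ (e2 : L) ∈ A.E2 ∧
      x = e1 * e2 ∧ ∃ w1 ∈ A'.T, ∃ w2 ∈ A'.T, ρ e1 = MulAut.conj w1 ∧ ρ e2 = MulAut.conj w2 ∧
      ∃ z ∈ center K', q = w1 * w2 * z := by
    rintro ⟨x, hxT⟩ q hq hxq
    obtain ⟨r, rfl⟩ := A.mem_T.1 hxT
    have m1 := A.x01_mem_E1 r.a
    have m2 : A.el ⟨0, r.b, r.c, r.s⟩ ∈ A.E2 := A.mem_E2.2 rfl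
    obtain ⟨w1, hw1, hw1'⟩ := himg ⟨A.x 0 1 r.a, A.sub_le_T m1⟩
    obtain ⟨w2, hw2, hw2'⟩ := himg ⟨A.el ⟨0, r.b, r.c, r.s⟩, A.sub_le_T m2⟩
    refine ⟨⟨A.x 0 1 r.a, A.sub_le_T m1⟩, ⟨A.el ⟨0, r.b, r.c, r.s⟩, A.sub_le_T m2⟩, m1, m2,
      Subtype.ext (A.el_split r), w1, hw1, w2, hw2, hw1', hw2', (w1 * w2)⁻¹ * q, ?_, by group⟩
    rw [← A'.conj_eq_iff, ← hxq, map_mul, ← hw1', ← hw2', ← map_mul]
    congr 1
    exact Subtype.ext (A.el_split r)
  -- `ρ⁻¹ (conj D0') = D0`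
  have hφ : ∀ s : F4, ∃ c, ρ ⟨A.g s, A.center_le_T (A.g_mem_center s)⟩ = MulAut.conj (A'.x 0 2 c) := by
    intro s
    obtain ⟨q, hq, hq2⟩ := himg ⟨A.g s, A.center_le_T (A.g_mem_center s)⟩
    have h1 : q ∈ A'.D0 := by
      rw [A'.mem_D0_iff]
      refine ⟨hq, fun r hr => ?_⟩
      obtain ⟨u, hu⟩ := hsurj r hr
      rw [← A'.conj_eq_one_iff, map_commutatorElement, ← hq2, ← hu, ← map_commutatorElement]
      have : ⁅(⟨A.g s, A.center_le_T (A.g_mem_center s)⟩ : A.T), u⁆ = 1 := by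
        rw [commutatorElement_eq_one_iff_mul_comm]
        exact Subtype.ext (A.g_cen s u)
      rw [this, map_one]
    obtain ⟨c, s', rfl⟩ := A'.D0_form h1
    refine ⟨c, ?_⟩
    rw [hq2]
    apply A'.conj_eq_of_map
    rw [map_mul, A'.π_g, mul_one]
  choose φ hφ' using hφ
  have hφi : Function.Injective φ := by
    intro s s' hss
    have h1 : ρ ⟨A.g s, A.center_le_T (A.g_mem_center s)⟩ = ρ ⟨A.g s', A.center_le_T (A.g_mem_center s')⟩ := by
      rw [hφ', hφ', hss]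
    have h2 := hker (⟨A.g s, A.center_le_T (A.g_mem_center s)⟩ * ⟨A.g s', A.center_le_T (A.g_mem_center s')⟩⁻¹)
      (by rw [map_mul, map_inv, h1, mul_inv_cancel]) (mul_mem (A.g_mem_center s) (inv_mem (A.g_mem_center s')))
    rw [mul_inv_eq_one] at h2
    exact A.g_inj (congrArg Subtype.val h2)
  have hφs := Finite.injective_iff_surjective.1 hφi
  have hD : ∀ e : A.T, (∃ d ∈ A'.D0, ρ e = MulAut.conj d) → (e : L) ∈ A.D0 := by
    rintro e ⟨d, hd, hed⟩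
    obtain ⟨c, s', rfl⟩ := A'.D0_form hd
    obtain ⟨s, rfl⟩ := hφs c
    have h1 : ρ e = ρ ⟨A.g s, A.center_le_T (A.g_mem_center s)⟩ := by
      rw [hed, hφ']
      apply A'.conj_eq_of_map
      rw [map_mul, A'.π_g, mul_one]
    have h2 : ρ (e * ⟨A.g s, A.center_le_T (A.g_mem_center s)⟩⁻¹) = 1 := by
      rw [map_mul, map_inv, h1, mul_inv_cancel]
    have h3 := hBD0 ((memB _).2 h2)
    have h4 := A.D0.mul_mem h3 (A.center_le_D0 (A.g_mem_center s))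
    have h5 : ((e * ⟨A.g s, A.center_le_T (A.g_mem_center s)⟩⁻¹ : A.T) : L) * A.g s = e := by
      show (e : L) * (A.g s)⁻¹ * A.g s = e
      group
    rwa [h5] at h4
  -- `y` is not in `E1 ∪ E2`
  obtain ⟨e1, e2, he1, he2, hye, w1, hw1, w2, hw2, hr1, hr2, z, hz, hpz⟩ := hdec y p hpT hp
  have hzD : z ∈ A'.D0 := A'.center_le_D0 hz
  have hyL : A.el ⟨a, b, 0, 0⟩ = (e1 : L) * e2 := congrArg Subtype.val hye
  have fin1 : (e1 : L) ∉ A.D0 := by
    intro h1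
    have h2 := A.E2.mul_mem (A.D0_le_E2 h1) he2
    rw [← hyL] at h2
    exact ha (A.mem_E2.1 h2)
  have fin2 : (e2 : L) ∉ A.D0 := by
    intro h1
    have h2 := A.E1.mul_mem he1 (A.D0_le_E1 h1)
    rw [← hyL] at h2
    exact hb (A.mem_E1.1 h2)
  -- the four cases
  have hnot : ∀ E : Subgroup K', (A'.D0 ≤ E) → (∀ q ∈ A'.T, (∃ e : A.T, (e : L) ∈ A.E1 ∧ ρ e = MulAut.conj q) → q ∈ E) →
      (∀ q ∈ A'.T, (∃ e : A.T, (e : L) ∈ A.E2 ∧ ρ e = MulAut.conj q) → q ∈ E) → A'.T ≤ E := by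
    intro E hE h1 h2 q hq
    obtain ⟨u, hu⟩ := hsurj q hq
    obtain ⟨f1, f2, hf1, hf2, -, v1, hv1, v2, hv2, hq1, hq2, z', hz', hqz⟩ := hdec u q hq hu
    rw [hqz]
    exact E.mul_mem (E.mul_mem (h1 v1 hv1 ⟨f1, hf1, hq1⟩) (h2 v2 hv2 ⟨f2, hf2, hq2⟩)) (hE (A'.center_le_D0 hz'))
  have hT1 : ¬ A'.T ≤ A'.E1 := by
    intro h1
    have := A'.mem_E1.1 (h1 (A'.el_mem ⟨0, 1, 0, 0⟩))
    exact absurd (show (1 : F4) = 0 from this) (by decide)
  have hT2 : ¬ A'.T ≤ A'.E2 := by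
    intro h1
    have := A'.mem_E2.1 (h1 (A'.el_mem ⟨1, 0, 0, 0⟩))
    exact absurd (show (1 : F4) = 0 from this) (by decide)
  have hinf : ∀ q, q ∈ A'.E1 → q ∈ A'.E2 → q ∈ A'.D0 := by
    intro q h1 h2
    rw [← A'.E1_inf_E2]
    exact ⟨h1, h2⟩
  -- the conclusion from `W1 ≤ E`, `W2 ≤ E'`, `E ∩ E' = D0'`
  have main : ∀ E E' : Subgroup K', A'.D0 ≤ E → A'.D0 ≤ E' → (∀ q, q ∈ E → q ∈ E' → q ∈ A'.D0) → w1 ∈ E → w2 ∈ E' →
      (p ∈ E ∨ p ∈ E') → False := by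
    intro E E' hE hE' hEE h1 h2 h3
    rcases h3 with h3 | h3
    · apply fin2
      refine hD e2 ⟨w2, hEE w2 ?_ h2, hr2⟩
      have h4 : w2 = w1⁻¹ * p * z⁻¹ := by rw [hpz]; group
      rw [h4]
      exact E.mul_mem (E.mul_mem (E.inv_mem h1) h3) (E.inv_mem (hE hzD))
    · apply fin1
      refine hD e1 ⟨w1, hEE w1 h1 ?_, hr1⟩
      have h4 : w1 = p * z⁻¹ * w2⁻¹ := by rw [hpz]; group
      rw [h4]
      exact E'.mul_mem (E'.mul_mem h3 (E'.inv_mem (hE' hzD))) (E'.inv_mem h2)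
  rcases hW1 with hW1 | hW1 <;> rcases hW2 with hW2 | hW2
  · exact hT1 (hnot _ A'.D0_le_E1 hW1 hW2)
  · exact main _ _ A'.D0_le_E1 A'.D0_le_E2 hinf (hW1 w1 hw1 ⟨e1, he1, hr1⟩) (hW2 w2 hw2 ⟨e2, he2, hr2⟩) hpE
  · exact main _ _ A'.D0_le_E2 A'.D0_le_E1 (fun q h1 h2 => hinf q h2 h1) (hW1 w1 hw1 ⟨e1, he1, hr1⟩)
      (hW2 w2 hw2 ⟨e2, he2, hr2⟩) hpE.symm
  · exact hT2 (hnot _ A'.D0_le_E2 hW1 hW2)

end Dat

end Cfsg.Agent.UGT.Cov.Klein
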