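import Cfsg.Agent.UGT.Cov.KleinTau
import Cfsg.Agent.UGT.Cov.Res

/-!
# UGT N1 (I34) [C]: the components of the fixed points of the field and graph automorphisms of `2².L₃(4)`

`res_tau` : `φ` of type field or graph, `D = π⁻¹(C(b φ))`, `J = ⁅D, D⁆`: `J` simple, `J ≤ C(φ) ≤ J Z(K)`, `J ∩ Z(K) = 1`;
`inv_J` : involutions of `J`.
-/

set_option autoImplicit false
set_option linter.constructorNameAsVariable false
set_option linter.unusedVariables false

namespace Cfsg.Agent.UGT.Cov.Klein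

open Subgroup
open Cfsg.Agent.SporadicA.FieldFour
open Cfsg.Agent.ONType
open Cfsg.Agent.ONType.Psl (PSL3 kap hh)
open Cfsg.Agent.ONType.OuterL (rv rv_ne rv_rv)
open Cfsg.Agent.LThreeFour (Ty imgx pu datPSL ty1)
open Cfsg.Agent.OddHalf.D9.L34Mult
open Cfsg.Agent.UGT.I34.KAut (fixed mem_fixed Inn)
open Cfsg.Agent.UGT.ThEL34 (fx mem_fx)
open Cfsg.Agent.UGT.FL34 (f0 g0 x0 isTau_f0 isTau_g0 isTau_x0 simple_f0 simple_g0 solv0)
open scoped commutatorElement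

variable {K : Type*} [Group K]

/-! ### codes -/

/-- equality of codes modulo the centre -/
def cq (p q : Code) : Prop := p.a = q.a ∧ p.b = q.b ∧ p.c = q.c

instance (p q : Code) : Decidable (cq p q) := by unfold cq; infer_instance

/-- the central coordinate of a fixed code -/
def kapp (e : Bool) (p : Code) : F4 := if e then p.s + p.c else p.s

/-- type field or graph -/
def FGt (e f : Bool) : Prop := (e = true ∧ f = false) ∨ (e = false ∧ f = true)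

theorem fixed_f (p : Code) : cq (ctau true false p) p ↔ p.a * p.a = p.a ∧ p.b * p.b = p.b ∧ p.c * p.c = p.c :=
  Iff.rfl

theorem fixed_g (p : Code) (h : cq (ctau false true p) p) : p.a = 0 ∧ p.b = 0 := by
  have key : ∀ a b c : F4, b = a → a = b → a * b + c = c → a = 0 ∧ b = 0 := by decide
  exact key _ _ _ h.1 h.2.1 h.2.2

theorem kapp_hom {e f : Bool} (hef : FGt e f) {p q : Code} (hp : cq (ctau e f p) p) (hq : cq (ctau e f q) q) :
    kapp e (cmul p q) = kapp e p + kapp e q := by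
  rcases hef with ⟨rfl, rfl⟩ | ⟨rfl, rfl⟩
  · obtain ⟨-, h2, -⟩ := (fixed_f p).1 hp
    have key : ∀ a b : F4, b * b = b → a * (b * b) + a * b = 0 := by decide
    have h3 := key q.a p.b h2
    unfold kapp cmul
    simp only [if_true]
    calc p.s + q.s + q.a * (p.b * p.b) + (q.a * p.b + p.c + q.c)
        = p.s + p.c + (q.s + q.c) + (q.a * (p.b * p.b) + q.a * p.b) := by ring
      _ = _ := by rw [h3, add_zero]
  · obtain ⟨-, h2⟩ := fixed_g p hp
    unfold kapp cmul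
    simp only [Bool.false_eq_true, if_false]
    rw [h2]; ring

theorem center_code {e f : Bool} (hef : FGt e f) : ∀ a b c : F4, cq (ctau e f ⟨a, b, c, 0⟩) ⟨a, b, c, 0⟩ →
    (∀ a' b' c' : F4, cq (ctau e f ⟨a', b', c', 0⟩) ⟨a', b', c', 0⟩ →
      cq (cmul ⟨a, b, c, 0⟩ ⟨a', b', c', 0⟩) (cmul ⟨a', b', c', 0⟩ ⟨a, b, c, 0⟩)) → a = 0 ∧ b = 0 := by
  rcases hef with ⟨rfl, rfl⟩ | ⟨rfl, rfl⟩
  · intro a b c _ h
    have h1 := (h 1 0 0 (by decide)).2.2
    have h2 := (h 0 1 0 (by decide)).2.2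
    unfold cmul at h1 h2
    simp only at h1 h2
    have k1 : ∀ b c : F4, 1 * b + c + 0 = a * 0 + 0 + c → b = 0 := by
      intro b c h
      simpa using h
    have k2 : ∀ a c : F4, 0 * b + c + 0 = a * 1 + 0 + c → a = 0 := by
      intro a c h
      simpa using h
    exact ⟨k2 _ _ h2, k1 _ _ h1⟩
  · intro a b c h _
    exact fixed_g _ h

namespace Dat

variable {A : Dat K}

theorem π_elj (A : Dat K) (p : Code) : A.π (A.el p) = datPSL.el ⟨p.a, p.b, p.c⟩ := A.π_el p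

theorem pi_el_iff (A : Dat K) (p q : Code) : A.π (A.el p) = A.π (A.el q) ↔ cq p q := by
  rw [A.π_elj, A.π_elj]
  constructor
  · intro h
    have h1 := datPSL.inj h
    exact ⟨congrArg LThreeFour.Code.a h1, congrArg LThreeFour.Code.b h1,
      congrArg LThreeFour.Code.c h1⟩
  · rintro ⟨h1, h2, h3⟩
    rw [h1, h2, h3]

theorem exists_code (A : Dat K) {l : K} (h : A.π l ∈ datPSL.T) : ∃ p, A.el p = l := A.mem_T_iff.mpr h

theorem fixed_code {e f : Bool} {φ : MulAut K} (h : A.IsTau (e, f, 0) φ) (p : Code) :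
    A.π (A.el p) ∈ fx (A.b φ) ↔ cq (ctau e f p) p := by
  rw [mem_fx, A.bar, h.el, A.pi_el_iff]

/-- the component -/
def Jc (A : Dat K) (φ : MulAut K) : Subgroup K := ⁅(fx (A.b φ)).comap A.π, (fx (A.b φ)).comap A.π⁆

theorem tt_mem {e f : Bool} {φ : MulAut K} (h : A.IsTau (e, f, 0) φ) :
    Psl.t 0 2 1 ∈ fx (A.b φ) ∧ Psl.t 2 0 1 ∈ fx (A.b φ) := by
  constructor
  · rw [mem_fx, ← A.π_x 0 2 (by decide), A.bar, h.x02, fq_one]
  · rw [mem_fx, ← A.π_x 2 0 (by decide), A.bar, h.x20, fq_one]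

/-- `F0 ∩ T` is a Sylow 2-subgroup of `F0` -/
theorem odd_rel [Finite K] {e f : Bool} (hef : FGt e f) {φ : MulAut K} (h : A.IsTau (e, f, 0) φ) :
    ¬ 2 ∣ (datPSL.T ⊓ fx (A.b φ)).relIndex (fx (A.b φ)) := by
  apply odd_relIndex (tt_mem h).1
  intro q hq hqT hq'
  obtain ⟨k, rfl⟩ := A.surj q
  obtain ⟨p, rfl⟩ := A.exists_code hqT
  have hp : cq (ctau e f ⟨p.a, p.b, p.c, 0⟩) ⟨p.a, p.b, p.c, 0⟩ := by
    rw [← fixed_code h, A.π_elj]
    rw [A.π_elj] at hq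
    exact hq
  obtain ⟨ha, hb⟩ := center_code hef p.a p.b p.c hp (by
    intro a' b' c' hc'
    rw [← A.pi_el_iff, ← A.el_mul, ← A.el_mul, map_mul, map_mul]
    have h1 := hq' (A.π (A.el ⟨a', b', c', 0⟩)) ((fixed_code h _).mpr hc')
      (by rw [A.π_elj]; exact ⟨_, rfl⟩)
    have h2 : A.π (A.el ⟨p.a, p.b, p.c, 0⟩) = A.π (A.el p) := by rw [A.π_elj, A.π_elj]
    rw [h2]; exact h1)
  refine ⟨p.c, ?_⟩
  rw [A.π_elj, ha, hb]
  exact datPSL.el_x02 _

theorem res_tau [Finite K] {e f : Bool} (hef : FGt e f) {φ : MulAut K} (h : A.IsTau (e, f, 0) φ) :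
    ResData φ (A.Jc φ) ∧ (A.Jc φ).map A.π = fx (A.b φ) ∧ IsSimpleGroup (fx (A.b φ)) := by
  classical
  unfold Jc
  set F0 := fx (A.b φ) with hF0
  have hsimple : IsSimpleGroup F0 := by
    rcases hef with ⟨rfl, rfl⟩ | ⟨rfl, rfl⟩
    · rw [hF0, h.bar.ext isTau_f0]; exact simple_f0
    · rw [hF0, h.bar.ext isTau_g0]; exact simple_g0
  obtain ⟨ht02, ht20⟩ := tt_mem h
  have hnc : Psl.t 0 2 1 * Psl.t 2 0 1 ≠ Psl.t 2 0 1 * Psl.t 0 2 1 := by
    intro hc
    have h1 : (Psl.t 0 2 1 * Psl.t 2 0 1) ^ (2 ^ 1) = 1 := by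
      rw [pow_one, pow_two]
      calc Psl.t 0 2 1 * Psl.t 2 0 1 * (Psl.t 0 2 1 * Psl.t 2 0 1)
          = Psl.t 0 2 1 * Psl.t 2 0 1 * (Psl.t 2 0 1 * Psl.t 0 2 1) := by rw [← hc]
        _ = Psl.t 0 2 1 * (Psl.t 2 0 1 * Psl.t 2 0 1) * Psl.t 0 2 1 := by group
        _ = 1 := by
          have e1 : Psl.t 2 0 1 * Psl.t 2 0 1 = 1 := datPSL.x_sq 2 0 (by decide) 1
          have e2 : Psl.t 0 2 1 * Psl.t 0 2 1 = 1 := datPSL.x_sq 0 2 (by decide) 1
          rw [e1, mul_one, e2]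
    exact StdL34.PslCent.tt_pow_ne 1 h1
  have hperf : ⁅F0, F0⁆ = F0 := by
    have h1 : _root_.commutator F0 = ⊥ ∨ _root_.commutator F0 = ⊤ :=
      hsimple.eq_bot_or_eq_top_of_normal _ inferInstance
    have h2 : (_root_.commutator F0).map F0.subtype = ⁅F0, F0⁆ := by
      rw [commutator_def, Subgroup.map_commutator, ← MonoidHom.range_eq_map, F0.range_subtype]
    rcases h1 with h1 | h1
    · exfalso
      apply hnc
      have h3 : ⁅(⟨Psl.t 0 2 1, ht02⟩ : F0), ⟨Psl.t 2 0 1, ht20⟩⁆ ∈ _root_.commutator F0 :=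
        Subgroup.commutator_mem_commutator (mem_top _) (mem_top _)
      rw [h1, mem_bot, commutatorElement_eq_one_iff_mul_comm] at h3
      exact congrArg Subtype.val h3
    · rw [h1, ← MonoidHom.range_eq_map, F0.range_subtype] at h2
      exact h2.symm
  -- Sylow
  have hodd : ¬ 2 ∣ (datPSL.T ⊓ F0).relIndex F0 := odd_rel hef h
  have hsurj := A.surj
  have hcen := A.ext.ce.cen
  set T1 : Subgroup K := (datPSL.T ⊓ F0).comap A.π with hT1
  have hT1D : T1 ≤ F0.comap A.π := comap_mono inf_le_right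
  have hodd1 : ¬ 2 ∣ T1.relIndex (F0.comap A.π) := by
    rw [hT1, relIndex_comap, map_comap_eq_self_of_surjective hsurj]
    exact hodd
  have hcode : ∀ l : T1, ∃ p, A.el p = (l : K) := fun l => A.exists_code l.2.1
  choose cd hcd using hcode
  have hcdq : ∀ l : T1, cq (ctau e f (cd l)) (cd l) := by
    intro l
    rw [← fixed_code h, hcd]
    exact l.2.2
  let ϕ : T1 →* Multiplicative F4 := MonoidHom.mk'
    (fun l => Multiplicative.ofAdd (kapp e (cd l))) (by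
      intro l m
      have h1 : cd (l * m) = cmul (cd l) (cd m) := by
        apply A.inj
        rw [hcd, ← A.el_mul, hcd, hcd]; rfl
      rw [h1, kapp_hom hef (hcdq l) (hcdq m), ofAdd_add])
  have hZT : A.π.ker ≤ T1 := by
    intro z hz
    rw [hT1, mem_comap, show A.π z = 1 from hz]
    exact one_mem _
  have hker1 : ∀ z ∈ ⁅F0.comap A.π, F0.comap A.π⁆, z ∈ A.π.ker → z = 1 := by
    refine comm_inf_cen hT1D hodd1 ϕ hZT (fun z hz => hcen z hz) A.ext.ker2 ?_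
    intro z hz hz1
    obtain ⟨m, rfl⟩ := (A.ker z).1 hz
    have h1 : cd ⟨A.g m, hZT hz⟩ = ⟨0, 0, 0, m⟩ := by
      apply A.inj
      rw [hcd, A.el_g]
    have h2 : kapp e (cd ⟨A.g m, hZT hz⟩) = 0 := Multiplicative.ofAdd.injective hz1
    rw [h1] at h2
    have h3 : ∀ (e : Bool) (m : F4), kapp e ⟨0, 0, 0, m⟩ = 0 → m = 0 := by decide
    rw [h3 _ _ h2, A.g_zero]
  have hmap := map_comm_comap hsurj hperf
  have hsup := comap_eq_sup hsurj hperf
  have hJJ := comm_comm_comap hcen hsurj hperf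
  set J := ⁅F0.comap A.π, F0.comap A.π⁆ with hJ
  have hle : J ≤ fx φ := by
    rw [hJ, Subgroup.commutator_le]
    intro x hx y hy
    have key : ∀ x ∈ F0.comap A.π, ∃ c, A.π c = 1 ∧ φ x = x * c := by
      intro x hx
      refine ⟨x⁻¹ * φ x, ?_, by group⟩
      rw [map_mul, map_inv, ← A.bar, show A.b φ (A.π x) = A.π x from hx, inv_mul_cancel]
    obtain ⟨c, hc, hxc⟩ := key x hx
    obtain ⟨c', hc', hyc⟩ := key y hy
    show φ ⁅x, y⁆ = ⁅x, y⁆
    rw [map_commutatorElement, hxc, hyc, comm_mul_cen (hcen c hc) (hcen c' hc')]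
  have hfxD : fx φ ≤ F0.comap A.π := by
    intro k hk
    show A.b φ (A.π k) = A.π k
    rw [A.bar, show φ k = k from hk]
  refine ⟨⟨hle, ?_, hJJ, ?_, ?_, ?_, ?_⟩, hmap, hsimple⟩
  · -- simple
    let f : J →* F0 := (A.π.comp J.subtype).codRestrict F0 (fun j => by
      rw [← hmap]; exact ⟨j, j.2, rfl⟩)
    have hf : Function.Bijective f := by
      constructor
      · rw [injective_iff_map_eq_one]
        intro j hj
        have h1 : A.π (j : K) = 1 := congrArg Subtype.val hj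
        exact Subtype.ext (hker1 j j.2 h1)
      · rintro ⟨q, hq⟩
        rw [← hmap] at hq
        obtain ⟨j, hj, rfl⟩ := hq
        exact ⟨⟨j, hj⟩, Subtype.ext rfl⟩
    have e := MulEquiv.ofBijective f hf
    exact e.isSimpleGroup
  · intro j hj hjc
    refine hker1 j hj ?_
    rw [A.ker_eq]; exact hjc
  · refine hfxD.trans (hsup.trans ?_)
    rw [A.ker_eq]
  · apply le_antisymm
    · exact Subgroup.commutator_mono hfxD hfxD
    · rw [← hJJ]
      exact Subgroup.commutator_mono hle hle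
  · have h1 : Psl.t 0 2 1 ∈ J.map A.π := by rw [hmap]; exact ht02
    obtain ⟨s, hs, hs'⟩ := h1
    refine ⟨s, hs, ?_, ?_⟩
    · rintro rfl
      rw [map_one] at hs'
      have h2 : datPSL.x 0 2 1 = 1 := hs'.symm
      rw [← datPSL.el_x02, datPSL.el_eq_one] at h2
      exact absurd h2 (by decide)
    · apply hker1 _ (mul_mem hs hs)
      show A.π (s * s) = 1
      rw [map_mul, hs']
      exact datPSL.x_sq 0 2 (by decide) 1

/-! ### involutions of `J` -/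

theorem x_mem_D (A : Dat K) {φ : MulAut K} {x : K} (hx : φ x = x) : x ∈ (fx (A.b φ)).comap A.π := by
  show A.b φ (A.π x) = A.π x
  rw [A.bar, hx]

/-- field type: the involution `x₀₂(1) g(1)` of `J` -/
theorem f_mem {φ : MulAut K} (h : A.IsTau (true, false, 0) φ) : A.t * A.g 1 ∈ A.Jc φ := by
  have h1 : A.t * A.g 1 = ⁅A.el ⟨1, 0, 0, 0⟩, A.el ⟨0, 1, 0, 0⟩⁆ := by
    rw [A.el_cc, A.t_eq, ← A.el_g, A.el_mul]
    congr 1
  rw [h1]
  apply commutator_mem_commutator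
  · exact A.x_mem_D ((h.fix _).mpr (by decide))
  · exact A.x_mem_D ((h.fix _).mpr (by decide))

theorem kap02_add : ∀ u : F4, ∃ v, u = v + kap 0 2 * v := by decide

/-- graph type: the involutions `x₀₂(u)` of `J` -/
theorem g_mem {φ : MulAut K} (h : A.IsTau (false, true, 0) φ) (u : F4) : A.x 0 2 u ∈ A.Jc φ := by
  obtain ⟨v, rfl⟩ := kap02_add u
  have h1 : A.x 0 2 (v + kap 0 2 * v) = ⁅A.x 0 2 v, A.h⁻¹⁆ := by
    rw [commutatorElement_def, inv_inv, A.x_inv 0 2 (by decide), ← A.x_add 0 2 (by decide),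
      ← A.h_x 0 2 (by decide)]
    group
  rw [h1]
  apply commutator_mem_commutator
  · apply A.x_mem_D
    rw [h.x02]; rfl
  · apply inv_mem
    show A.b φ (A.π A.h) = A.π A.h
    rw [A.π_h]
    exact LThreeFour.Dat.IsTau.h (A := datPSL) h.bar rfl

/-- an involution of `F0` has a conjugate `x₀₂(c)` -/
theorem inv_F0 [Finite K] {e f : Bool} (hef : FGt e f) {φ : MulAut K} (h : A.IsTau (e, f, 0) φ) {q : PSL3}
    (hq : q ∈ fx (A.b φ)) (hqq : q * q = 1) (hq1 : q ≠ 1) : ∃ r ∈ fx (A.b φ), ∃ c : F4, c ≠ 0 ∧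
      (e = true → c = 1) ∧ r * q * r⁻¹ = Psl.t 0 2 c := by
  set F0 := fx (A.b φ) with hF0
  have h1 : ¬ 2 ∣ ((datPSL.T ⊓ F0).subgroupOf F0).index := odd_rel hef h
  obtain ⟨g, hg⟩ := conj_mem_of_odd h1 (s := (⟨q, hq⟩ : F0)) (Subtype.ext hqq)
  have hg1 : g.1⁻¹ * q * g.1 ∈ datPSL.T ⊓ F0 := hg
  obtain ⟨⟨k, hk⟩, hg2⟩ := hg1
  obtain ⟨a, b, c⟩ := k
  have hk' : A.π (A.el ⟨a, b, c, 0⟩) = g.1⁻¹ * q * g.1 := by
    rw [A.π_elj]; exact hk
  have hcq : cq (ctau e f ⟨a, b, c, 0⟩) ⟨a, b, c, 0⟩ := by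
    rw [← fixed_code h, hk']; exact hg2
  have hsq : cq (cmul ⟨a, b, c, 0⟩ ⟨a, b, c, 0⟩) cone := by
    rw [← A.pi_el_iff, ← A.el_mul, map_mul, hk', A.el_one, map_one]
    calc g.1⁻¹ * q * g.1 * (g.1⁻¹ * q * g.1) = g.1⁻¹ * (q * q) * g.1 := by group
      _ = 1 := by rw [hqq]; group
  have hne : ¬ cq ⟨a, b, c, 0⟩ cone := by
    rw [← A.pi_el_iff, hk', A.el_one, map_one]
    intro h2
    apply hq1
    have : q = g.1 * (g.1⁻¹ * q * g.1) * g.1⁻¹ := by group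
    rw [this, h2]; group
  rcases hef with ⟨rfl, rfl⟩ | ⟨rfl, rfl⟩
  · -- field type
    have key : ∀ a b c : F4, cq (ctau true false ⟨a, b, c, 0⟩) ⟨a, b, c, 0⟩ →
        cq (cmul ⟨a, b, c, 0⟩ ⟨a, b, c, 0⟩) cone → ¬ cq ⟨a, b, c, 0⟩ cone →
        (a = 0 ∧ b = 0 ∧ c = 1) ∨ (∃ β : F4, (β = 0 ∨ β = 1) ∧
          cq (cj ⟨0, β, 0, 0⟩ ⟨a, b, c, 0⟩) ⟨1, 0, 0, 0⟩) ∨ (∃ β : F4, (β = 0 ∨ β = 1) ∧
          cq (cj ⟨β, 0, 0, 0⟩ ⟨a, b, c, 0⟩) ⟨0, 1, 0, 0⟩) := by decide +kernel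
    have hn : ∀ i j : Fin 3, i ≠ j → A.π (A.x i j 1) ∈ F0 := by
      intro i j hij
      apply A.x_mem_D
      rw [h.x0 hij, fq_one]
    have hwey : ∀ i j k l : Fin 3, i ≠ j → k ≠ l → Equiv.swap i j k = 0 → Equiv.swap i j l = 2 →
        ∃ r ∈ F0, r * A.π (A.x k l 1) * r⁻¹ = Psl.t 0 2 1 := by
      intro i j k l hij hkl h1 h2
      refine ⟨A.π (A.x i j 1 * A.x j i 1 * A.x i j 1)⁻¹, ?_, ?_⟩
      · rw [map_inv, map_mul, map_mul]
        exact inv_mem (mul_mem (mul_mem (hn i j hij) (hn j i hij.symm)) (hn i j hij))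
      · have h3 := A.x_wey i j k l hij hkl 1
        rw [h1, h2] at h3
        rw [← A.π_x 0 2 (by decide), ← h3]
        simp only [map_mul, map_inv, inv_inv]
    have hx01 : ∀ β : F4, β = 0 ∨ β = 1 → A.π (A.el ⟨β, 0, 0, 0⟩) ∈ F0 := by
      rintro β (rfl | rfl)
      · exact A.x_mem_D ((h.fix _).mpr (by decide))
      · exact A.x_mem_D ((h.fix _).mpr (by decide))
    have hx12 : ∀ β : F4, β = 0 ∨ β = 1 → A.π (A.el ⟨0, β, 0, 0⟩) ∈ F0 := by
      rintro β (rfl | rfl)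
      · exact A.x_mem_D ((h.fix _).mpr (by decide))
      · exact A.x_mem_D ((h.fix _).mpr (by decide))
    have fin : ∀ (s : PSL3), s ∈ F0 → (∃ r ∈ F0, r * (s * A.π (A.el ⟨a, b, c, 0⟩) * s⁻¹) * r⁻¹ = Psl.t 0 2 1) →
        ∃ r ∈ F0, ∃ c : F4, c ≠ 0 ∧ (true = true → c = 1) ∧ r * q * r⁻¹ = Psl.t 0 2 c := by
      rintro s hs ⟨r, hr, hr2⟩
      refine ⟨r * s * g.1⁻¹, mul_mem (mul_mem hr hs) (inv_mem g.2), 1, by decide, fun _ => rfl, ?_⟩
      rw [← hr2, hk']; group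
    rcases key a b c hcq hsq hne with ⟨rfl, rfl, rfl⟩ | ⟨β, hβ, h3⟩ | ⟨β, hβ, h3⟩
    · refine fin 1 (one_mem _) ⟨1, one_mem _, ?_⟩
      rw [A.el_x02, A.π_x 0 2 (by decide)]; group
    · refine fin _ (hx12 β hβ) ?_
      rw [← A.pi_el_iff, ← A.el_cj, map_mul, map_mul, map_inv, A.el_x01] at h3
      rw [h3]
      exact hwey 1 2 0 1 (by decide) (by decide) (by decide) (by decide)
    · refine fin _ (hx01 β hβ) ?_
      rw [← A.pi_el_iff, ← A.el_cj, map_mul, map_mul, map_inv, A.el_x12] at h3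
      rw [h3]
      exact hwey 0 1 1 2 (by decide) (by decide) (by decide) (by decide)
  · obtain ⟨h3, h4⟩ := fixed_g _ hcq
    simp only at h3 h4
    subst h3 h4
    refine ⟨g.1⁻¹, inv_mem g.2, c, ?_, fun h0 => absurd h0 (by decide), ?_⟩
    · rintro rfl
      exact hne ⟨rfl, rfl, rfl⟩
    · rw [inv_inv, ← hk', A.el_x02, A.π_x 0 2 (by decide)]

/-- involutions of `J` -/
theorem inv_J [Finite K] {e f : Bool} (hef : FGt e f) {φ : MulAut K} (h : A.IsTau (e, f, 0) φ) {w : K}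
    (hw : w ∈ A.Jc φ) (hww : w * w = 1) (hw1 : w ≠ 1) : Cj w (if e then A.t * A.g 1 else A.t) := by
  obtain ⟨R, hmap, -⟩ := res_tau hef h
  have h1 : A.π w ∈ fx (A.b φ) := by rw [← hmap]; exact ⟨w, hw, rfl⟩
  obtain ⟨r, hr, c, hc, hc1, hrc⟩ := inv_F0 hef h h1 (by rw [← map_mul, hww, map_one]) (by
    intro h2
    apply hw1
    apply R.inf w hw
    rw [← A.ker_eq]; exact h2)
  rw [← hmap] at hr
  obtain ⟨j, hj, rfl⟩ := hr
  have key : ∀ y ∈ A.Jc φ, A.π y = Psl.t 0 2 c → Cj w y := by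
    intro y hy hyc
    refine ⟨j, ?_⟩
    have h3 : j * w * j⁻¹ * y⁻¹ = 1 := by
      apply R.inf _ (mul_mem (mul_mem (mul_mem hj hw) (inv_mem hj)) (inv_mem hy))
      rw [← A.ker_eq, MonoidHom.mem_ker, map_mul, map_mul, map_mul, map_inv, map_inv, hrc, hyc, mul_inv_cancel]
    exact mul_inv_eq_one.mp h3
  rcases hef with ⟨rfl, rfl⟩ | ⟨rfl, rfl⟩
  · have h4 := hc1 rfl
    subst h4
    rw [if_pos rfl]
    apply key _ (f_mem h)
    rw [map_mul, A.π_g, mul_one]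
    exact A.π_x 0 2 (by decide) 1
  · rw [if_neg (by decide)]
    exact (key _ (g_mem h c) (A.π_x 0 2 (by decide) c)).trans' (A.x02_one c hc)

end Dat

end Cfsg.Agent.UGT.Cov.Klein
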