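import Cfsg.Agent.UGT.Cov.KleinB

/-!
# UGT N1 (I34) [C]: intrinsic facts on `2².L₃(4)` (helper281)

`KleinKind K` : `K` perfect, `Z(K)` a four-group, `K / Z(K) = PSL(3,4)`.
-/

set_option autoImplicit false
set_option linter.constructorNameAsVariable false
set_option linter.unusedVariables false

namespace Cfsg.Agent.UGT.Cov.Klein

open Subgroup
open Cfsg.Agent.SporadicA.FieldFour
open Cfsg.Agent.ONType.Psl
open Cfsg.Agent.LThreeFour (Ty imgx pu datPSL fr ty1 cact)
open scoped commutatorElement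

/-- `K = 2².L₃(4)` -/
structure KleinKind (K : Type*) [Group K] : Prop where
  perf : commutator K = ⊤
  card : Nat.card (center K) = 4
  sq : ∀ z ∈ center K, z * z = 1
  psl : Nonempty (K ⧸ center K ≃* Matrix.ProjectiveSpecialLinearGroup (Fin 3) F4)

theorem KleinKind.dat {K : Type*} [Group K] [Finite K] (h : KleinKind K) : Nonempty (Dat K) := by
  obtain ⟨e⟩ := h.psl
  exact exists_dat h.perf h.card h.sq F4.card_eq e

/-- a 2-subgroup has a conjugate in a subgroup of odd index -/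
theorem conj_le_of_odd {G : Type*} [Group G] {T : Subgroup G} (h3 : ¬ 2 ∣ T.index) {H : Subgroup G}
    (hH : IsPGroup 2 H) : ∃ g, ∀ s ∈ H, g⁻¹ * s * g ∈ T := by
  have : Finite (G ⧸ T) := by
    apply Nat.finite_of_card_ne_zero
    intro h0
    exact h3 (by rw [Subgroup.index_eq_card, h0]; exact dvd_zero _)
  obtain ⟨x, hx⟩ := hH.nonempty_fixed_point_of_prime_not_dvd_card (G ⧸ T) h3
  induction x using QuotientGroup.induction_on with
  | H g =>
    refine ⟨g, fun s hs => ?_⟩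
    have h4 := hx ⟨s, hs⟩
    change ((s * g : G) : G ⧸ T) = (g : G ⧸ T) at h4
    have h5 := (QuotientGroup.eq.1 h4.symm)
    rwa [← mul_assoc] at h5

theorem cent_code : ∀ a b : F4, ¬ (a = 0 ∧ b = 0) → ((Finset.univ : Finset Code).filter
    (fun q => a * q.b + b * q.a = 0 ∧ a * (q.b * q.b) + q.a * (b * b) = 0)).card ≤ 64 := by decide +kernel

namespace Dat

variable {L : Type*} [Group L] (A : Dat L)

/-- coordinates adapted to a 2-subgroup -/
theorem exists_dat_le {H : Subgroup L} (hH : IsPGroup 2 H) : ∃ B : Dat L, B.g = A.g ∧ H ≤ B.T := by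
  obtain ⟨g, hg⟩ := conj_le_of_odd A.T_odd hH
  refine ⟨mapD A (MulAut.conj g), ?_, ?_⟩
  · funext s
    show g * A.g s * g⁻¹ = A.g s
    rw [← A.g_cen]; group
  · intro s hs
    obtain ⟨p, hp⟩ := A.mem_T.1 (hg s hs)
    refine ⟨p, ?_⟩
    have e : (mapD A (MulAut.conj g)).el p = g * A.el p * g⁻¹ := by
      have h1 : ∀ q, (mapD A (MulAut.conj g)).el q = MulAut.conj g (A.el q) := by
        intro q
        rw [A.el_eq, map_mul, map_mul, map_mul]
        rfl
      rw [h1, MulAut.conj_apply]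
    rw [e, hp]
    group

/-- the centralisers in `T` of the elements outside `D0` have order at most 64 -/
theorem card_cent {x : L} (hx : x ∈ A.T) (hxD : x ∉ A.D0) {N : Subgroup L} (hN : N ≤ A.T)
    (h : ∀ y ∈ N, x * y = y * x) : Nat.card N ≤ 64 := by
  classical
  obtain ⟨p, rfl⟩ := A.mem_T.1 hx
  have hab : ¬ (p.a = 0 ∧ p.b = 0) := fun h0 => hxD (A.mem_D0.2 h0)
  refine le_trans ?_ (cent_code p.a p.b hab)
  have h1 : ∀ y : N, ∃ q : Code, A.el q = y ∧ (p.a * q.b + p.b * q.a = 0 ∧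
      p.a * (q.b * q.b) + q.a * (p.b * p.b) = 0) := by
    rintro ⟨y, hy⟩
    obtain ⟨q, rfl⟩ := A.mem_T.1 (hN hy)
    exact ⟨q, rfl, (A.comm_iff p q).1 (h _ hy)⟩
  choose f hf using h1
  rw [← Fintype.card_subtype, ← Nat.card_eq_fintype_card]
  refine Nat.card_le_card_of_injective (fun y => (⟨f y, (hf y).2⟩ : {q : Code // p.a * q.b + p.b * q.a = 0 ∧
      p.a * (q.b * q.b) + q.a * (p.b * p.b) = 0})) ?_
  intro y y' hyy
  apply Subtype.ext
  have e : f y = f y' := congrArg Subtype.val hyy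
  rw [← (hf y).1, ← (hf y').1, e]

include A in
/-- `t` with central square is an involution or trivial -/
theorem sq_of_center {t : L} (h : t * t ∈ center L) : t * t = 1 := by
  have h2 : IsPGroup 2 (zpowers t) := by
    apply IsPGroup.of_card (n := (Nat.log 2 (orderOf t))) 
    have h4 : orderOf t ∣ 2 ^ 2 := by
      apply orderOf_dvd_of_pow_eq_one
      have e : t ^ 2 ^ 2 = (t * t) * (t * t) := by
        rw [← pow_two t, ← pow_two, ← pow_mul]
        norm_num
      rw [e]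
      exact A.center_sq h
    obtain ⟨k, hk, hk2⟩ := (Nat.dvd_prime_pow Nat.prime_two).1 h4
    rw [Nat.card_zpowers, hk2, Nat.log_pow (by norm_num)]
  obtain ⟨B, -, hB⟩ := A.exists_dat_le h2
  rcases B.mem_of_sq (hB (mem_zpowers t)) h with h3 | h3
  · exact B.E1_sq h3
  · exact B.E2_sq h3

/-- centralisers of noncentral involutions -/
theorem centralizer_eq {s : L} (hs : NInv s) : ∃ (B : Dat L) (r : F4), B.g = A.g ∧ s = B.t * B.g r ∧
    centralizer ({s} : Set L) = B.T := by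
  obtain ⟨B, r, h1, h2⟩ := A.exists_dat_tg hs
  refine ⟨B, r, h1, h2, ?_⟩
  ext x
  rw [mem_centralizer_singleton_iff, h2, B.cent_tg]

include A in
/-- the centre of a 2-subgroup of order at least 128 -/
theorem card_center_le {N : Subgroup L} (h2 : IsPGroup 2 N) (h : 128 ≤ Nat.card N) : Nat.card (center ↥N) < 64 := by
  obtain ⟨B, -, hB⟩ := A.exists_dat_le h2
  have h1 : ∀ x : center ↥N, ((x : N) : L) ∈ B.D0 := by
    rintro ⟨⟨x, hx⟩, hxc⟩
    by_contra hcon
    have h3 := B.card_cent (hB hx) hcon hB (fun y hy => by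
      have := mem_center_iff.1 hxc ⟨y, hy⟩
      exact (congrArg Subtype.val this).symm)
    omega
  have : Finite B.D0 := Nat.finite_of_card_ne_zero (by rw [B.card_D0]; norm_num)
  have h3 : Nat.card (center ↥N) ≤ Nat.card B.D0 :=
    Nat.card_le_card_of_injective (fun x => (⟨((x : N) : L), h1 x⟩ : B.D0)) (fun x y hxy => by
      apply Subtype.ext
      apply Subtype.ext
      exact congrArg (fun z : B.D0 => (z : L)) hxy)
  rw [B.card_D0] at h3
  omega

theorem b_injective : Function.Injective A.b := by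
  rw [injective_iff_map_eq_one]
  intro α h
  have h1 : α = MulAut.conj 1 := A.inner_of_bar (by rw [h, map_one, map_one])
  rw [h1, map_one]

include A in
/-- 2-groups of automorphisms have order at most 256 -/
theorem card_aut_le {Q : Subgroup (MulAut L)} (hQ : IsPGroup 2 Q) : Nat.card Q ≤ 256 := by
  have h1 : IsPGroup 2 (Q.map A.b) := hQ.map A.b
  obtain ⟨l, hl⟩ := datPSL.exists_conj_MT _ h1
  let ψ : MulAut L →* MulAut PSL3 := (MulAut.conj (MulAut.conj l)).toMonoidHom.comp A.b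
  have hψ : Function.Injective ψ := by
    intro α β h
    exact A.b_injective ((MulAut.conj (MulAut.conj l)).injective h)
  have h2 : Q.map ψ ≤ datPSL.MT := by
    rintro _ ⟨α, hα, rfl⟩
    exact hl _ ⟨α, hα, rfl⟩
  have h3 : Nat.card (Q.map ψ) = Nat.card Q :=
    Nat.card_congr (Q.equivMapOfInjective ψ hψ).symm.toEquiv
  have h4 : Nat.card Q ∣ 768 := by
    rw [← h3]
    exact (Subgroup.card_dvd_of_le h2).trans datPSL.card_MT_dvd
  have : Finite Q := Nat.finite_of_card_ne_zero (by rintro h0; rw [h0] at h4; norm_num at h4)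
  obtain ⟨n, hn⟩ := (IsPGroup.iff_card).1 hQ
  rw [hn] at h4 ⊢
  have h5 : 2 ^ n ∣ 2 ^ 8 := by
    have h6 : Nat.Coprime (2 ^ n) 3 := Nat.Coprime.pow_left n (by norm_num)
    exact h6.dvd_of_dvd_mul_right (by norm_num at h4 ⊢; exact h4)
  exact Nat.le_of_dvd (by norm_num) h5

/-! ### More facts on `T` -/

theorem cE_code : ∀ a b : F4, ¬ (a = 0 ∧ b = 0) → ((Finset.univ : Finset Code).filter
    (fun q => q.a * b + q.b * a = 0)).card ≤ 64 := by decide +kernel

/-- centralisers in `T / Z(L)` of the elements outside `D0 / Z(L)` -/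
theorem card_centz {x : L} (hx : x ∈ A.T) (hxD : x ∉ A.D0) {N : Subgroup L} (hN : N ≤ A.T)
    (h : ∀ y ∈ N, ⁅y, x⁆ ∈ center L) : Nat.card N ≤ 64 := by
  classical
  obtain ⟨p, rfl⟩ := A.mem_T.1 hx
  have hab : ¬ (p.a = 0 ∧ p.b = 0) := fun h0 => hxD (A.mem_D0.2 h0)
  refine le_trans ?_ (cE_code p.a p.b hab)
  have h1 : ∀ y : N, ∃ q : Code, A.el q = y ∧ q.a * p.b + q.b * p.a = 0 := by
    rintro ⟨y, hy⟩
    obtain ⟨q, rfl⟩ := A.mem_T.1 (hN hy)
    have h2 := h _ hy
    rw [A.el_cc, A.el_mem_center, cc_eq] at h2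
    exact ⟨q, rfl, h2.2.2⟩
  choose f hf using h1
  rw [← Fintype.card_subtype, ← Nat.card_eq_fintype_card]
  refine Nat.card_le_card_of_injective (fun y => (⟨f y, (hf y).2⟩ : {q : Code // q.a * p.b + q.b * p.a = 0})) ?_
  intro y y' hyy
  apply Subtype.ext
  have e : f y = f y' := congrArg Subtype.val hyy
  rw [← (hf y).1, ← (hf y').1, e]

/-- `conj d`, `d ∈ D0` -/
theorem conj_D0 {d : L} (hd : d ∈ A.D0) : ∃ c, MulAut.conj d = MulAut.conj (A.x 0 2 c) := by
  obtain ⟨c, s, rfl⟩ := A.D0_form hd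
  refine ⟨c, A.conj_eq_of_map ?_⟩
  rw [map_mul, A.π_g, mul_one]

theorem conj_x02_inj {c c' : F4} (h : MulAut.conj (A.x 0 2 c) = MulAut.conj (A.x 0 2 c')) : c = c' := by
  have h9 := A.map_conj h
  rw [← A.el_x02, ← A.el_x02, A.π_el', A.π_el'] at h9
  exact congrArg Cfsg.Agent.LThreeFour.Code.c (datPSL.inj h9)

/-- **(V)**, both directions -/
theorem four_iff {V : Subgroup (MulAut L)} (hV2 : ∀ α ∈ V, α * α = 1) (hV4 : Nat.card V = 4)
    (hv : MulAut.conj A.t ∈ V) (hn : ∀ p ∈ A.T, ∀ α ∈ V, MulAut.conj p * α * (MulAut.conj p)⁻¹ ∈ V)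
    (α : MulAut L) : α ∈ V ↔ ∃ d ∈ A.D0, α = MulAut.conj d := by
  constructor
  · intro hα
    obtain ⟨c, hc⟩ := A.four_eq hV2 hV4 hv hn hα
    exact ⟨_, A.x02_mem_D0 c, hc⟩
  · rintro ⟨d, hd, rfl⟩
    obtain ⟨c, hc⟩ := A.conj_D0 hd
    rw [hc]
    have h1 : ∀ β : V, ∃ c, (β : MulAut L) = MulAut.conj (A.x 0 2 c) := fun β => A.four_eq hV2 hV4 hv hn β.2
    choose f hf using h1
    have hinj : Function.Injective f := by
      intro β β' h
      apply Subtype.ext
      rw [hf, hf β', h]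
    have h5 : Nat.card V = Nat.card F4 := by
      rw [hV4, Nat.card_eq_fintype_card]; rfl
    have : Finite V := Nat.finite_of_card_ne_zero (by omega)
    have h6 := (Nat.bijective_iff_injective_and_card f).2 ⟨hinj, h5⟩
    obtain ⟨β, hβ⟩ := h6.2 c
    rw [← hβ, ← hf]
    exact β.2

include A in
/-- involutions of `(Aut L)'` are inner -/
theorem comm_inner {φ : MulAut L} (h : φ ∈ commutator (MulAut L)) (h2 : φ * φ = 1) : ∃ k, φ = MulAut.conj k := by
  let ψ : MulAut L →* Multiplicative (ZMod 2) × Multiplicative (ZMod 2) :=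
    Cfsg.Agent.LThreeFour.bitsHom.comp (datPSL.tyHom.comp A.b)
  have h1 : ψ φ = 1 := by
    have h3 : commutator (MulAut L) ≤ ψ.ker := Abelianization.commutator_subset_ker ψ
    exact h3 h
  have h4 : datPSL.tyHom (A.b φ) = 1 :=
    Cfsg.Agent.LThreeFour.bitsHom_inj _ h1 (by rw [← map_mul, ← map_mul, h2, map_one, map_one])
  obtain ⟨l, hl⟩ := datPSL.inner_iff.1 h4
  obtain ⟨k, rfl⟩ := A.surj l
  exact ⟨k, A.inner_of_bar hl⟩

end Dat

end Cfsg.Agent.UGT.Cov.Klein
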