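import Cfsg.Agent.UGT.Cov.KleinTau
import Cfsg.Agent.Transfer.CentralTransfer

/-!
# UGT N1 (I34) [C]: the automorphisms of `2².L₃(4)` moving the centre invert the centre of order 3 of `(2² × 3).L₃(4)`

`Dat.Act m σ κ` : `m` permutes the root elements `x i j u`, up to scalars; `exists_pair` : if the involutory automorphism
`φ` moves the centre there are `h`, `r`, generating a group of order 9 modulo the centre, with `[h, r]` central and
`φ h ≡ h^ε`, `φ r ≡ r^δ`, `ε δ = -1`.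
-/

set_option autoImplicit false
set_option linter.constructorNameAsVariable false
set_option linter.unusedVariables false

namespace Cfsg.Agent.UGT.Cov.Klein

open Subgroup
open Cfsg.Agent.SporadicA.FieldFour
open Cfsg.Agent.ONType.Psl (PSL3 kap hh)
open Cfsg.Agent.ONType.OuterL (rv rv_ne rv_rv)
open Cfsg.Agent.LThreeFour (Ty imgx pu datPSL ty1)
open Cfsg.Agent.OddHalf.D9.L34Mult
open scoped commutatorElement

variable {L : Type*} [Group L]

namespace Dat

variable (A : Dat L)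

/-- `m⁻¹ x i j u m = x (σ i) (σ j) (κ i j u)` -/
def Act (m : L) (σ : Equiv.Perm (Fin 3)) (κ : Fin 3 → Fin 3 → F4) : Prop :=
  ∀ i j, i ≠ j → ∀ u, m⁻¹ * A.x i j u * m = A.x (σ i) (σ j) (κ i j * u)

variable {A}

theorem Act.mul {m n : L} {σ τ : Equiv.Perm (Fin 3)} {κ μ : Fin 3 → Fin 3 → F4} (h : A.Act m σ κ)
    (h' : A.Act n τ μ) : A.Act (m * n) (τ * σ) (fun i j => μ (σ i) (σ j) * κ i j) := by
  intro i j hij u
  have h1 : (m * n)⁻¹ * A.x i j u * (m * n) = n⁻¹ * (m⁻¹ * A.x i j u * m) * n := by group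
  rw [h1, h i j hij u, h' _ _ (fun hc => hij (σ.injective hc)) _]
  show A.x (τ (σ i)) (τ (σ j)) _ = A.x (τ (σ i)) (τ (σ j)) _
  rw [mul_assoc]

theorem Act.congr {m : L} {σ τ : Equiv.Perm (Fin 3)} {κ μ : Fin 3 → Fin 3 → F4} (h : A.Act m σ κ)
    (h1 : ∀ i, σ i = τ i) (h2 : ∀ i j, i ≠ j → κ i j = μ i j) : A.Act m τ μ := by
  intro i j hij u
  rw [h i j hij u, h1, h1, h2 i j hij]

theorem mul_inv4 : ∀ u v : F4, u ≠ 0 → u * (u⁻¹ * v) = v := by decide

theorem Act.inv {m : L} {σ : Equiv.Perm (Fin 3)} {κ : Fin 3 → Fin 3 → F4} (h : A.Act m σ κ)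
    (h0 : ∀ i j, i ≠ j → κ i j ≠ 0) :
    A.Act m⁻¹ σ⁻¹ (fun i j => (κ (σ⁻¹ i) (σ⁻¹ j))⁻¹) := by
  intro i j hij u
  have hij' : σ⁻¹ i ≠ σ⁻¹ j := fun hc => hij (σ⁻¹.injective hc)
  have h1 := h _ _ hij' ((κ (σ⁻¹ i) (σ⁻¹ j))⁻¹ * u)
  have e1 : ∀ k, σ (σ⁻¹ k) = k := fun k => σ.apply_symm_apply k
  rw [mul_inv4 _ _ (h0 _ _ hij'), e1, e1] at h1
  rw [← h1]
  group

/-- trivial action: central -/
theorem Act.central {m : L} {σ : Equiv.Perm (Fin 3)} {κ : Fin 3 → Fin 3 → F4} (h : A.Act m σ κ)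
    (h1 : ∀ i, σ i = i) (h2 : ∀ i j, i ≠ j → κ i j = 1) : m ∈ center L := by
  have h3 : (⊤ : Subgroup L) ≤ centralizer ({m} : Set L) := by
    rw [← A.gen, closure_le]
    rintro _ ⟨i, j, u, hij, rfl⟩
    have h4 := h i j hij u
    rw [h1, h1, h2 i j hij, one_mul] at h4
    rw [SetLike.mem_coe, mem_centralizer_singleton_iff]
    calc A.x i j u * m = m * (m⁻¹ * A.x i j u * m) := by group
      _ = m * A.x i j u := by rw [h4]
  rw [mem_center_iff]
  intro g
  exact mem_centralizer_singleton_iff.mp (h3 (mem_top g))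

theorem act_one : A.Act 1 1 (fun _ _ => 1) := by
  intro i j _ u
  rw [inv_one, one_mul, mul_one, one_mul]
  rfl

theorem act_h : A.Act A.h 1 kap := fun i j hij u => A.h_x i j hij u

/-- the Weyl element -/
def w (A : Dat L) (i j : Fin 3) : L := A.x i j 1 * A.x j i 1 * A.x i j 1

theorem act_w {i j : Fin 3} (hij : i ≠ j) : A.Act (A.w i j) (Equiv.swap i j) (fun _ _ => 1) := by
  intro k l hkl u
  rw [one_mul]
  exact A.x_wey i j k l hij hkl u

/-- the 3-cycle -/
def r (A : Dat L) : L := A.w 0 1 * A.w 1 2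

theorem act_r : A.Act A.r (Equiv.swap 1 2 * Equiv.swap 0 1) (fun _ _ => 1) :=
  ((act_w (by decide)).mul (act_w (by decide))).congr (fun _ => rfl) (fun _ _ _ => rfl)

/-! ### automorphisms -/

/-- `rv` as a permutation -/
def rvP : Equiv.Perm (Fin 3) := ⟨rv, rv, rv_rv, rv_rv⟩

theorem fq_fq : ∀ (e : Bool) (u : F4), fq e (fq e u) = u := by decide

theorem fq_mul : ∀ (e : Bool) (u v : F4), fq e (u * v) = fq e u * fq e v := by decide

theorem Act.aut0 {e : Bool} {φ : MulAut L} (hφ : A.IsTau (e, false, 0) φ) {m : L} {σ : Equiv.Perm (Fin 3)}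
    {κ : Fin 3 → Fin 3 → F4} (h : A.Act m σ κ) : A.Act (φ m) σ (fun i j => fq e (κ i j)) := by
  intro i j hij u
  have hij' : σ i ≠ σ j := fun hc => hij (σ.injective hc)
  have h1 : A.x i j u = φ (A.x i j (fq e u)) := by rw [hφ.x0 hij, fq_fq]
  rw [h1, ← map_inv, ← map_mul, ← map_mul, h i j hij, hφ.x0 hij', fq_mul, fq_fq]

theorem Act.aut1 {e : Bool} {φ : MulAut L} (hφ : A.IsTau (e, true, 0) φ) {m : L} {σ : Equiv.Perm (Fin 3)}
    {κ : Fin 3 → Fin 3 → F4} (h : A.Act m σ κ) :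
    A.Act (φ m) (rvP * σ * rvP) (fun i j => fq e (κ (rv j) (rv i))) := by
  intro i j hij u
  have hji : rv j ≠ rv i := rv_ne hij.symm
  have hij' : σ (rv j) ≠ σ (rv i) := fun hc => hji (σ.injective hc)
  have h1 : A.x i j u = φ (A.x (rv j) (rv i) (fq e u)) := by rw [hφ.x1 hji, fq_fq, rv_rv, rv_rv]
  rw [h1, ← map_inv, ← map_mul, ← map_mul, h _ _ hji, hφ.x1 hij', fq_mul, fq_fq]
  rfl

theorem kap_ne : ∀ i j : Fin 3, i ≠ j → kap i j ≠ 0 := by decide

theorem el_ne {p q : Code} (h : p ≠ q) : A.el p ≠ A.el q := fun hc => h (A.inj hc)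

/-- `h` is not central -/
theorem h_not_center : A.h ∉ center L := by
  intro hc
  have h1 := act_h (A := A) 0 1 (by decide) 1
  have h2 := mem_center_iff.mp hc (A.x 0 1 1)
  rw [mul_assoc, h2, inv_mul_cancel_left] at h1
  rw [← A.el_x01, Equiv.Perm.one_apply, Equiv.Perm.one_apply, ← A.el_x01] at h1
  exact el_ne (A := A) (by decide) h1

theorem act_h_pow (k : ℕ) : A.Act (A.h ^ k) 1 (fun i j => kap i j ^ k) := by
  induction k with
  | zero =>
    rw [pow_zero]
    exact act_one.congr (fun _ => rfl) (fun i j _ => by rw [pow_zero])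
  | succ k ih =>
    rw [pow_succ]
    exact (ih.mul act_h).congr (fun _ => rfl) (fun i j _ => by rw [pow_succ, mul_comm]; rfl)

/-- `r` does not lie in `Z ⟨h⟩` -/
theorem r_not_mem (k : ℕ) : A.r * A.h ^ k ∉ center L := by
  intro hc
  have h1 := (act_r (A := A)).mul (act_h_pow k) 1 2 (by decide) 1
  have h2 := mem_center_iff.mp hc (A.x 1 2 1)
  rw [mul_assoc, h2, inv_mul_cancel_left] at h1
  have e0 : (1 * (Equiv.swap 1 2 * Equiv.swap 0 1) : Equiv.Perm (Fin 3)) 1 = 0 := by decide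
  have e1 : (1 * (Equiv.swap 1 2 * Equiv.swap 0 1) : Equiv.Perm (Fin 3)) 2 = 1 := by decide
  rw [e0, e1, ← A.el_x12, ← A.el_x01] at h1
  have h3 := A.inj h1
  have h4 : (1 : F4) = 0 := congrArg Code.b h3
  exact absurd h4 (by decide)

/-- `r ^ 3` is central -/
theorem r_cube : A.r ^ 3 ∈ center L := by
  have h1 := (act_r (A := A)).mul ((act_r (A := A)).mul (act_r (A := A)))
  have h2 : A.r * (A.r * A.r) = A.r ^ 3 := by rw [pow_succ, pow_two, mul_assoc]
  rw [h2] at h1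
  exact h1.central (by decide) (fun i j _ => by simp)

/-- `[h, r]` is central -/
theorem hr_center : ⁅A.h, A.r⁆ ∈ center L := by
  rw [commutatorElement_def]
  have h1 := (((act_h (A := A)).mul (act_r (A := A))).mul ((act_h (A := A)).inv kap_ne)).mul
    ((act_r (A := A)).inv (fun _ _ _ => one_ne_zero))
  exact h1.central (by decide) (by decide)

/-- **the pair** -/
theorem exists_pair0 {φ : MulAut L} (hφ : A.IsTau (true, false, 0) φ) :
    φ A.h * A.h ∈ center L ∧ φ A.r * A.r⁻¹ ∈ center L := by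
  constructor
  · have h1 := ((act_h (A := A)).aut0 hφ).mul (act_h (A := A))
    exact h1.central (by decide) (by decide)
  · have h1 := ((act_r (A := A)).aut0 hφ).mul ((act_r (A := A)).inv (fun _ _ _ => one_ne_zero))
    exact h1.central (by decide) (by decide)

theorem exists_pair1 {φ : MulAut L} (hφ : A.IsTau (false, true, 0) φ) :
    φ A.h * A.h⁻¹ ∈ center L ∧ φ A.r * A.r ∈ center L := by
  constructor
  · have h1 := ((act_h (A := A)).aut1 hφ).mul ((act_h (A := A)).inv kap_ne)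
    exact h1.central (by decide) (by decide)
  · have h1 := ((act_r (A := A)).aut1 hφ).mul (act_r (A := A))
    exact h1.central (by decide) (by decide)

theorem sq_fq : ∀ s : F4, fq true s * fq true s = s := by decide

/-- an involutory automorphism which moves the centre: the pair `h, r` -/
theorem exists_pair [Finite L] (A : Dat L) {φ : MulAut L} (h2 : φ * φ = 1) (hc : ∃ c ∈ center L, φ c ≠ c) :
    ∃ h r : L, h ^ 3 = 1 ∧ r ^ 3 ∈ center L ∧ ⁅h, r⁆ ∈ center L ∧ h ∉ center L ∧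
      (∀ k : ℕ, r * h ^ k ∉ center L) ∧
      ((φ h * h ∈ center L ∧ φ r * r⁻¹ ∈ center L) ∨ (φ h * h⁻¹ ∈ center L ∧ φ r * r ∈ center L)) := by
  obtain ⟨c, hc, hcφ⟩ := hc
  have ho : ∀ k, φ ≠ MulAut.conj k := by
    rintro k rfl
    apply hcφ
    rw [MulAut.conj_apply, mem_center_iff.mp hc k, mul_inv_cancel_right]
  obtain ⟨B, e, f, hne, hB⟩ := A.exists_pure h2 ho
  refine ⟨B.h, B.r, B.h_pow, r_cube, hr_center, h_not_center, r_not_mem, ?_⟩
  cases e <;> cases f
  · exact absurd rfl hne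
  · exact Or.inr (exists_pair1 hB)
  · exact Or.inl (exists_pair0 hB)
  · exfalso
    obtain ⟨s, rfl⟩ := B.mem_center.mp hc
    apply hcφ
    rw [hB.g, if_pos rfl, sq_fq]

end Dat

end Cfsg.Agent.UGT.Cov.Klein
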