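import Cfsg.Agent.UGT.Cov.KleinV
import Cfsg.Agent.UGT.Cov.KleinP

/-!
# UGT N1 (I34) [C]: automorphisms of odd order of `2².L₃(4)`

`eq_one_of_odd` : an automorphism of odd order, trivial on the centre, which fixes a noncentral involution is trivial.
-/

set_option autoImplicit false
set_option linter.constructorNameAsVariable false
set_option linter.unusedVariables false

namespace Cfsg.Agent.UGT.Cov.Klein

open Subgroup
open Cfsg.Agent.SporadicA.FieldFour
open Cfsg.Agent.ONType
open Cfsg.Agent.LThreeFour (Ty imgx pu datPSL ty1)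
open Cfsg.Agent.UGT.Cov (gp)

variable {L : Type*} [Group L]

namespace Dat

theorem mul_self_bits : ∀ τ : Ty, (τ.mul τ).1 = false ∧ (τ.mul τ).2.1 = false := by decide

theorem gp_diag : ∀ τ : Ty, τ.1 = false → τ.2.1 = false → (∀ s, gp τ s = s) → τ = ty1 := by decide +kernel

/-- an automorphism of odd order trivial on the centre is inner -/
theorem inner_of_odd_center (A : Dat L) {α : MulAut L} (ho : Odd (orderOf α)) (hZ : ∀ z ∈ center L, α z = z) :
    ∃ k, α = MulAut.conj k := by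
  obtain ⟨m, hm⟩ := ho
  obtain ⟨γ, hγ⟩ : ∃ γ : MulAut L, γ * γ = α := by
    refine ⟨α ^ (m + 1), ?_⟩
    have h1 : α ^ (2 * m + 1) = 1 := by rw [← hm, pow_orderOf_eq_one]
    rw [← pow_add, show m + 1 + (m + 1) = 2 * m + 1 + 1 by ring, pow_succ, h1, one_mul]
  obtain ⟨l, τ, h1, h3, h4⟩ := A.exists_type α
  have h5 : τ = (datPSL.tyHom (A.b γ)).ty.mul (datPSL.tyHom (A.b γ)).ty := by
    rw [← hγ, map_mul, map_mul] at h4
    exact (congrArg Cfsg.Agent.LThreeFour.TyG.ty h4).symm
  have h6 := mul_self_bits (datPSL.tyHom (A.b γ)).ty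
  rw [← h5] at h6
  have h8 : ∀ s, gp τ s = s := by
    intro s
    have h9 := A.act_g h1 s
    rw [MulAut.mul_apply, hZ _ (A.g_mem_center s), MulAut.conj_apply, ← A.g_cen, mul_inv_cancel_right] at h9
    exact (A.g_inj h9).symm
  have h9 := gp_diag τ h6.1 h6.2 h8
  rw [h9] at h1
  have h10 : MulAut.conj l * α = 1 := IsTau.ext h1 A.isTau_one
  refine ⟨l⁻¹, ?_⟩
  rw [map_inv]
  exact eq_inv_of_mul_eq_one_right h10

/-- **automorphisms of odd order** -/
theorem eq_one_of_odd (A : Dat L) {α : MulAut L} (ho : Odd (orderOf α)) (hZ : ∀ z ∈ center L, α z = z) {t : L}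
    (ht : NInv t) (hαt : α t = t) : α = 1 := by
  obtain ⟨B, r, -, rfl⟩ := A.exists_dat_tg ht
  obtain ⟨k, rfl⟩ := A.inner_of_odd_center ho hZ
  rw [MulAut.conj_apply, mul_inv_eq_iff_eq_mul] at hαt
  have h1 : k ∈ B.T := (B.cent_tg r).mp hαt
  have h2 : k ^ 256 = 1 := by
    have := pow_card_eq_one' (x := (⟨k, h1⟩ : ↥B.T))
    rw [B.card_T] at this
    exact congrArg Subtype.val this
  have h3 : (MulAut.conj k : MulAut L) ^ 256 = 1 := by rw [← map_pow, h2, map_one]
  have h4 := orderOf_dvd_of_pow_eq_one h3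
  have h5 : Nat.Coprime (orderOf (MulAut.conj k : MulAut L)) 256 := by
    have := Nat.Coprime.pow_right 8 (Nat.coprime_two_right.mpr ho)
    norm_num at this
    exact this
  exact orderOf_eq_one_iff.mp (h5.eq_one_of_dvd h4)

end Dat

end Cfsg.Agent.UGT.Cov.Klein
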