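import Cfsg.Agent.UGT.Cov.KleinAut
import Cfsg.Agent.UGT.I34.KAut
import Cfsg.Agent.UGT.I34.KF

/-!
# UGT N1 (I34) [C]: the field, graph and unitary automorphisms of `2².L₃(4)` on codes; type `c`

`ctau e f` : action of the pure automorphism `(e, f, 0)` on codes; `IsTau.el`; `typeC`; `can_iff'` : the canonical
class in the sense of `I34.Four.Can`; `exists_can`.
-/

set_option autoImplicit false
set_option linter.constructorNameAsVariable false
set_option linter.unusedVariables false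

namespace Cfsg.Agent.UGT.Cov.Klein

open Subgroup
open Cfsg.Agent.SporadicA.FieldFour
open Cfsg.Agent.ONType
open Cfsg.Agent.ONType.Psl (PSL3 kap hh)
open Cfsg.Agent.ONType.OuterL (rv rv_ne rv_rv)
open Cfsg.Agent.LThreeFour (Ty imgx pu datPSL ty1)
open Cfsg.Agent.OddHalf.D9.L34Mult
open Cfsg.Agent.UGT.I34.KAut (fixed mem_fixed Inn)
open scoped commutatorElement

variable {K : Type*} [Group K]

/-- Frobenius or identity -/
def fq (e : Bool) (u : F4) : F4 := if e then u * u else u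

theorem pu_fq : ∀ (e f : Bool) (i j : Fin 3) (u : F4), pu (e, f, 0) i j u = fq e u := by decide

theorem fq_one : ∀ e, fq e (1 : F4) = 1 := by decide

/-- the action of the pure automorphism `(e, f, 0)` on codes -/
def ctau (e f : Bool) (p : Code) : Code :=
  if f then ⟨fq e p.b, fq e p.a, fq e p.a * fq e p.b + fq e p.c,
    fq e p.s * fq e p.s + fq e p.b * (fq e p.a * fq e p.a)⟩
  else ⟨fq e p.a, fq e p.b, fq e p.c, fq e p.s⟩

namespace Dat

variable {A : Dat K} {e f : Bool} {φ : MulAut K}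

theorem IsTau.x0 (h : A.IsTau (e, false, 0) φ) {i j : Fin 3} (hij : i ≠ j) (u : F4) :
    φ (A.x i j u) = A.x i j (fq e u) := by
  rw [h i j hij u]
  unfold imgx
  rw [pu_fq]
  rfl

theorem IsTau.x1 (h : A.IsTau (e, true, 0) φ) {i j : Fin 3} (hij : i ≠ j) (u : F4) :
    φ (A.x i j u) = A.x (rv j) (rv i) (fq e u) := by
  rw [h i j hij u]
  unfold imgx
  rw [pu_fq]
  rfl

theorem IsTau.x02 (h : A.IsTau (e, f, 0) φ) (u : F4) : φ (A.x 0 2 u) = A.x 0 2 (fq e u) := by
  cases f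
  · exact h.x0 (by decide) u
  · exact h.x1 (by decide) u

theorem IsTau.x20 (h : A.IsTau (e, f, 0) φ) (u : F4) : φ (A.x 2 0 u) = A.x 2 0 (fq e u) := by
  cases f
  · exact h.x0 (by decide) u
  · exact h.x1 (by decide) u

/-- `g u` as a word in the `x_ij` -/
theorem g_word (A : Dat K) (u v : F4) : A.g (u * (v * v)) =
    A.x 0 2 (u * v) * (A.x 0 1 u * A.x 1 2 v * A.x 0 1 u * A.x 1 2 v) := by
  have h := A.x_sum 0 2 1 (by decide) (by decide) (by decide) u v
  have a1 := A.x_sq 0 1 (by decide) u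
  have a2 := A.x_sq 1 2 (by decide) v
  have a3 := A.x_sq 0 2 (by decide) (u * v)
  have e3 := A.x_row 0 2 1 (by decide) (by decide) (u * v) u
  have e4 := A.x_col 0 2 1 (by decide) (by decide) (u * v) v
  rw [h]
  symm
  calc A.x 0 2 (u * v) * (A.x 1 2 v * A.x 0 1 u * A.x 0 2 (u * v) * A.g (u * (v * v)) * A.x 0 1 u * A.x 1 2 v)
      = A.x 0 2 (u * v) * (A.x 1 2 v * A.x 0 1 u * A.x 0 2 (u * v) * (A.g (u * (v * v)) * (A.x 0 1 u * A.x 1 2 v))) := by
        group
    _ = A.x 0 2 (u * v) * (A.x 1 2 v * A.x 0 1 u * (A.x 0 2 (u * v) * A.x 0 1 u) * A.x 1 2 v) * A.g (u * (v * v)) := by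
        rw [A.g_cen]; group
    _ = A.x 0 2 (u * v) * (A.x 1 2 v * (A.x 0 1 u * A.x 0 1 u) * (A.x 0 2 (u * v) * A.x 1 2 v)) * A.g (u * (v * v)) := by
        rw [e3]; group
    _ = A.x 0 2 (u * v) * ((A.x 1 2 v * A.x 1 2 v) * A.x 0 2 (u * v)) * A.g (u * (v * v)) := by
        rw [a1, e4]; group
    _ = A.g (u * (v * v)) := by rw [a2, one_mul, a3, one_mul]

theorem IsTau.g (h : A.IsTau (e, f, 0) φ) (s : F4) :
    φ (A.g s) = A.g (if f then fq e s * fq e s else fq e s) := by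
  have h1 := A.g_word s 1
  simp only [mul_one] at h1
  rw [h1]
  simp only [map_mul]
  rw [h.x02]
  cases f
  · rw [h.x0 (by decide), h.x0 (by decide), fq_one]
    have h2 := A.g_word (fq e s) 1
    simp only [mul_one] at h2
    rw [if_neg (by decide), h2]
  · rw [h.x1 (by decide), h.x1 (by decide), fq_one]
    have e0 : rv 0 = 2 := rfl
    have e1 : rv 1 = 1 := rfl
    have e2 : rv 2 = 0 := rfl
    rw [e0, e1, e2, if_pos rfl]
    set s' := fq e s with hs'
    have h2 := A.g_word 1 s'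
    rw [one_mul, one_mul] at h2
    have a1 := A.x_sq 0 1 (by decide) 1
    have a2 := A.x_sq 1 2 (by decide) s'
    have a3 := A.x_sq 0 2 (by decide) s'
    -- invert
    have h3 : A.g (s' * s') = (A.x 0 2 s' * (A.x 0 1 1 * A.x 1 2 s' * A.x 0 1 1 * A.x 1 2 s'))⁻¹ := by
      rw [← h2, A.g_inv]
    rw [h3]
    simp only [mul_inv_rev]
    rw [A.x_inv 0 1 (by decide), A.x_inv 1 2 (by decide), A.x_inv 0 2 (by decide)]
    -- `x02 y = y x02`
    have e3 := A.x_row 0 2 1 (by decide) (by decide) s' 1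
    have e4 := A.x_col 0 2 1 (by decide) (by decide) s' s'
    calc A.x 0 2 s' * (A.x 1 2 s' * A.x 0 1 1 * A.x 1 2 s' * A.x 0 1 1)
        = (A.x 0 2 s' * A.x 1 2 s') * A.x 0 1 1 * A.x 1 2 s' * A.x 0 1 1 := by group
      _ = A.x 1 2 s' * (A.x 0 2 s' * A.x 0 1 1) * A.x 1 2 s' * A.x 0 1 1 := by rw [e4]; group
      _ = A.x 1 2 s' * A.x 0 1 1 * (A.x 0 2 s' * A.x 1 2 s') * A.x 0 1 1 := by rw [e3]; group
      _ = A.x 1 2 s' * A.x 0 1 1 * A.x 1 2 s' * (A.x 0 2 s' * A.x 0 1 1) := by rw [e4]; group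
      _ = _ := by rw [e3]; group

/-- the action on codes -/
theorem IsTau.el (h : A.IsTau (e, f, 0) φ) (p : Code) : φ (A.el p) = A.el (ctau e f p) := by
  obtain ⟨a, b, c, s⟩ := p
  rw [A.el_eq, map_mul, map_mul, map_mul, h.g, h.x02]
  cases f
  · rw [h.x0 (by decide), h.x0 (by decide)]
    rfl
  · rw [h.x1 (by decide), h.x1 (by decide)]
    have e0 : rv 0 = 2 := rfl
    have e1 : rv 1 = 1 := rfl
    have e2 : rv 2 = 0 := rfl
    rw [e0, e1, e2]
    have h1 : A.x 1 2 (fq e a) * A.x 0 1 (fq e b) * A.x 0 2 (fq e c) * A.g (if true = true then fq e s * fq e s else fq e s)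
        = A.el ⟨0, fq e a, 0, 0⟩ * A.el ⟨fq e b, 0, 0, 0⟩ * A.el ⟨0, 0, fq e c, 0⟩ * A.el ⟨0, 0, 0, fq e s * fq e s⟩ := by
      rw [A.el_x12, A.el_x01, A.el_x02, A.el_g, if_pos rfl]
    refine h1.trans ?_
    rw [A.el_mul, A.el_mul, A.el_mul]
    congr 1
    unfold cmul ctau
    simp only [Code.mk.injEq, if_true]
    refine ⟨by ring, by ring, by ring, by ring⟩

theorem IsTau.fix (h : A.IsTau (e, f, 0) φ) (p : Code) : φ (A.el p) = A.el p ↔ ctau e f p = p := by
  rw [h.el]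
  exact ⟨fun h => A.inj h, fun h => by rw [h]⟩

/-- involutory pure types -/
theorem ctau_x02 (e f : Bool) : ctau e f ⟨0, 0, 1, 0⟩ = ⟨0, 0, 1, 0⟩ := by revert e f; decide

/-! ### outer -/

/-- the pure automorphisms are outer -/
theorem IsTau.not_inn (h : A.IsTau (e, f, 0) φ) (hef : (e, f) ≠ (false, false)) : φ ∉ Inn K := by
  rintro ⟨m, rfl⟩
  have h1 : datPSL.HasTy (A.b (MulAut.conj m)) (e, f, 0) := ⟨1, by rw [map_one, one_mul]; exact h.bar⟩
  have h2 : datPSL.tyHom (A.b (MulAut.conj m)) = 1 := A.ext.tyHom_conj m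
  have h3 : A.b (MulAut.conj m) = MulAut.conj (A.π m) := by
    rw [CE.bar_conj A.ext.ce A.b A.ext.bar]
  rw [h3] at h1
  have h4 := h1.unique (datPSL.hasTy_conj _)
  apply hef
  have h5 := congrArg Prod.fst h4
  have h6 := congrArg (fun q : Ty => q.2.1) h4
  exact Prod.ext h5 h6

/-- the square of a pure automorphism -/
theorem IsTau.sq (h : A.IsTau (e, f, 0) φ) : φ * φ = 1 := by
  have hx : ∀ i j : Fin 3, i ≠ j → ∀ u, φ (φ (A.x i j u)) = A.x i j u := by
    intro i j hij u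
    have e1 : ∀ e (u : F4), fq e (fq e u) = u := by decide
    cases f
    · rw [h.x0 hij, h.x0 hij, e1]
    · rw [h.x1 hij, h.x1 (rv_ne hij.symm), e1]
      have : ∀ i, rv (rv i) = i := by decide
      rw [this, this]
  have h1 : (⊤ : Subgroup K) ≤ fixed (φ * φ) := by
    rw [← A.gen, closure_le]
    rintro _ ⟨i, j, u, hij, rfl⟩
    exact hx i j hij u
  ext k
  exact h1 (mem_top k)

end Dat

end Cfsg.Agent.UGT.Cov.Klein
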