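import Cfsg.Agent.UGT.Cov.KleinP
import Cfsg.Agent.UGT.Cov.Gamma2

/-!
# UGT N1 (I34) [C]: automorphisms of `2².L₃(4)` (helper281)

* `IsTau.g` : action of a pure automorphism on the centre;
* `inner_of_bar`, `eq_one_of_bar` ;
* `four_eq` : a four-group `V` of automorphisms containing `conj v` and normalised by `C(v)` consists of
  `conj d`, `d ∈ Z(C(v))`;
* `inner_of_D0` : an automorphism of 2-power order trivial on the centre and on `D0` modulo the centre is induced by
  `C(v)`.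
-/

set_option autoImplicit false
set_option linter.constructorNameAsVariable false
set_option linter.unusedVariables false

namespace Cfsg.Agent.UGT.Cov.Klein

open Subgroup
open Cfsg.Agent.SporadicA.FieldFour
open Cfsg.Agent.ONType.Psl
open Cfsg.Agent.ONType.OuterL (rv rv_ne rv_rv)
open Cfsg.Agent.LThreeFour (Ty imgx pu datPSL fr ty1 cact)
open Cfsg.Agent.UGT.Cov (gp pu_sum rv_vals)
open scoped commutatorElement

namespace Dat

variable {L : Type*} [Group L] (A : Dat L)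

/-- **Action of an automorphism of pure type on the centre.** -/
theorem act_g {τ : Ty} {α : MulAut L} (h : A.IsTau τ α) (s : F4) : α (A.g s) = A.g (gp τ s) := by
  have e0 := congrArg α (A.x_sum 0 2 1 (by decide) (by decide) (by decide) s 1)
  simp only [map_mul] at e0
  have e1 := h 0 2 (by decide) (s * 1)
  have e2 := h 0 1 (by decide) s
  have e3 := h 1 2 (by decide) 1
  rw [e1, e2, e3, show s * (1 * 1) = s by ring] at e0
  obtain ⟨r0, r1, r2⟩ := rv_vals
  unfold imgx at e0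
  unfold gp
  split_ifs at e0 ⊢ with hc
  · rw [r0, r1, r2, pu_sum] at e0
    have h1 := A.x_sum 0 2 1 (by decide) (by decide) (by decide) (pu τ 1 2 1) (pu τ 0 1 s)
    -- `h1 : y w = w y x g(..)`, `e0 : w y = y w x α g`
    rw [h1] at e0
    have hx : pu τ 1 2 1 * pu τ 0 1 s = pu τ 0 1 s * pu τ 1 2 1 := mul_comm _ _
    rw [hx] at e0
    set w := A.x 1 2 (pu τ 0 1 s) with hw
    set y := A.x 0 1 (pu τ 1 2 1) with hy
    set z := A.x 0 2 (pu τ 0 1 s * pu τ 1 2 1) with hz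
    have hzz : z * z = 1 := A.x_sq 0 2 (by decide) _
    set γ := A.g (pu τ 1 2 1 * (pu τ 0 1 s * pu τ 0 1 s)) with hγ
    have hγ2 : γ * γ = 1 := A.g_sq _
    have e4 : w * y * 1 = w * y * (z * γ * z * α (A.g s)) := by
      rw [mul_one]
      calc w * y = w * y * z * γ * z * α (A.g s) := e0
        _ = _ := by group
    have e5 := mul_left_cancel e4
    have e6 : z * γ * z = γ := by
      calc z * γ * z = z * (γ * z) := by group
        _ = z * (z * γ) := by rw [hγ, A.g_cen]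
        _ = γ := by rw [← mul_assoc, hzz, one_mul]
    rw [e6] at e5
    have e7 : γ * γ = γ * α (A.g s) := by rw [hγ2, ← e5]
    exact (mul_left_cancel e7).symm
  · rw [pu_sum] at e0
    have h1 := A.x_sum 0 2 1 (by decide) (by decide) (by decide) (pu τ 0 1 s) (pu τ 1 2 1)
    rw [h1] at e0
    exact (mul_left_cancel e0).symm

theorem hom_ext {M : Type*} [Monoid M] {f f' : L →* M} (h : ∀ i j, i ≠ j → ∀ u, f (A.x i j u) = f' (A.x i j u)) :
    f = f' := by
  refine MonoidHom.eq_of_eqOn_dense A.gen ?_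
  rintro _ ⟨i, j, u, hij, rfl⟩
  exact h i j hij u

theorem IsTau.ext {A : Dat L} {τ : Ty} {α β : MulAut L} (h : A.IsTau τ α) (h' : A.IsTau τ β) : α = β := by
  apply MulEquiv.toMonoidHom_injective
  apply A.hom_ext
  intro i j hij u
  exact (h i j hij u).trans (h' i j hij u).symm

theorem isTau_one : A.IsTau ty1 1 := by
  intro i j hij u
  have := (datPSL).imgx_ty1 i j u
  unfold imgx
  have h1 : ∀ i j u, pu ty1 i j u = u := by decide
  rw [if_neg (by decide), h1]
  rfl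

/-- conjugation by elements over the same element of `PSL(3,4)` -/
theorem conj_eq_of_map {k l : L} (h : A.π k = A.π l) : MulAut.conj k = MulAut.conj l := by
  have h1 : A.π (l⁻¹ * k) = 1 := by rw [map_mul, map_inv, h, inv_mul_cancel]
  obtain ⟨s, hs⟩ := (A.ker _).1 h1
  have h2 : k = l * A.g s := by rw [← hs, mul_inv_cancel_left]
  apply MulEquiv.ext
  intro m
  rw [MulAut.conj_apply, MulAut.conj_apply, h2]
  calc l * A.g s * m * (l * A.g s)⁻¹ = l * (A.g s * m) * (A.g s)⁻¹ * l⁻¹ := by group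
    _ = l * m * l⁻¹ := by rw [A.g_cen]; group

theorem map_conj {k l : L} (h : MulAut.conj k = MulAut.conj l) : A.π k = A.π l := by
  have h1 : A.π (l⁻¹ * k) = 1 := by
    apply A.cen
    intro m
    have h2 := DFunLike.congr_fun h m
    rw [MulAut.conj_apply, MulAut.conj_apply] at h2
    calc l⁻¹ * k * m = l⁻¹ * (k * m * k⁻¹) * k := by group
      _ = _ := by rw [h2]; group
  rw [map_mul, map_inv, inv_mul_eq_one] at h1
  exact h1.symm

theorem b_conj (k : L) : A.b (MulAut.conj k) = MulAut.conj (A.π k) := by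
  apply MulEquiv.ext
  intro m
  obtain ⟨m, rfl⟩ := A.surj m
  rw [A.bar, MulAut.conj_apply, MulAut.conj_apply, map_mul, map_mul, map_inv]

/-- pure automorphisms of `L` lie over pure automorphisms -/
theorem bar_tau {τ : Ty} {α : MulAut L} (h : A.IsTau τ α) : datPSL.IsTau τ (A.b α) := by
  intro i j hij u
  change A.b α (Cfsg.Agent.ONType.Psl.t i j u) = imgx Cfsg.Agent.ONType.Psl.t τ i j u
  rw [← A.π_x i j hij, A.bar, h i j hij u]
  unfold imgx
  split_ifs
  · exact A.π_x _ _ (rv_ne hij.symm) _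
  · exact A.π_x _ _ hij _

/-- the type of an automorphism -/
theorem exists_type (α : MulAut L) : ∃ (l : L) (τ : Ty), A.IsTau τ (MulAut.conj l * α) ∧
    datPSL.IsTau τ (MulAut.conj (A.π l) * A.b α) ∧ datPSL.tyHom (A.b α) = ⟨τ⟩ := by
  obtain ⟨l, τ, h⟩ := A.exists_tau α
  refine ⟨l, τ, h, ?_, ?_⟩
  · have := A.bar_tau h
    rwa [map_mul, A.b_conj] at this
  · have := A.bar_tau h
    rw [map_mul, A.b_conj] at this
    exact Cfsg.Agent.LThreeFour.Dat.HasTy.tyHom ⟨_, this⟩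

/-- an automorphism over an inner automorphism is inner -/
theorem inner_of_bar {α : MulAut L} {k : L} (h : A.b α = MulAut.conj (A.π k)) : α = MulAut.conj k := by
  obtain ⟨l, τ, h1, h2, h3⟩ := A.exists_type α
  have h4 : τ = ty1 := by
    rw [h, datPSL.tyHom_conj] at h3
    exact (congrArg Cfsg.Agent.LThreeFour.TyG.ty h3).symm
  subst h4
  have h5 : MulAut.conj l * α = 1 := IsTau.ext h1 A.isTau_one
  have h6 : α = MulAut.conj l⁻¹ := by
    rw [map_inv]
    exact eq_inv_of_mul_eq_one_right h5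
  rw [h6] at h ⊢
  rw [A.b_conj] at h
  exact A.conj_eq_of_map (datPSL.conj_injective h)

/-! ### Automorphisms trivial on `D0` -/

theorem gp_graph : ∀ τ : Ty, τ.1 = false → τ.mul τ = ty1 → (∀ s, gp τ s = s) → τ = ty1 := by decide +kernel

theorem fr_w : ∀ e : Bool, fr e F4.w = F4.w → e = false := by decide

/-- an automorphism of 2-power order, trivial on the centre and on `D0` modulo the centre, is induced by `T` -/
theorem inner_of_D0 {α : MulAut L} {n : ℕ} (h2 : α ^ 2 ^ n = 1) (hZ : ∀ z ∈ center L, α z = z)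
    (hD : ∀ d ∈ A.D0, ∃ z ∈ center L, α d = d * z) : ∃ p ∈ A.T, α = MulAut.conj p := by
  obtain ⟨l, τ, h1, h3, h4⟩ := A.exists_type α
  -- `b α` fixes `t₀₂(c)`
  have h5 : ∀ c, A.b α (datPSL.x 0 2 c) = datPSL.x 0 2 c := by
    intro c
    obtain ⟨z, hz, hz2⟩ := hD _ (A.x02_mem_D0 c)
    have e : datPSL.x 0 2 c = A.π (A.x 0 2 c) := (A.π_x 0 2 (by decide) c).symm
    rw [e, A.bar, hz2, map_mul]
    have : A.π z = 1 := by
      obtain ⟨s, rfl⟩ := A.mem_center.1 hz
      exact A.π_g s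
    rw [this, mul_one]
  have hsq : τ.mul τ = ty1 := by
    have h6 := Cfsg.Agent.LThreeFour.Dat.tyHom_sq (A := datPSL) (α := A.b α) (n := n)
      (by rw [← map_pow, h2, map_one])
    rw [h4] at h6
    exact congrArg Cfsg.Agent.LThreeFour.TyG.ty h6
  obtain ⟨p, τ', hp⟩ := datPSL.exists_cd (h5 1)
  have hττ : τ' = τ := by
    have := hp.hasTy.tyHom
    rw [h4] at this
    exact (congrArg Cfsg.Agent.LThreeFour.TyG.ty this).symm
  subst hττ
  have h7 : τ'.1 = false := by
    apply fr_w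
    have h8 := hp.apply ⟨0, 0, F4.w⟩
    rw [Cfsg.Agent.LThreeFour.cact_c, Cfsg.Agent.LThreeFour.Dat.el_x02, h5,
      Cfsg.Agent.LThreeFour.Dat.el_x02, ← Cfsg.Agent.LThreeFour.Dat.el_x02,
      ← Cfsg.Agent.LThreeFour.Dat.el_x02] at h8
    exact (congrArg Cfsg.Agent.LThreeFour.Code.c (datPSL.inj h8)).symm
  -- the action on the centre
  have h8 : ∀ s, gp τ' s = s := by
    intro s
    have h9 := A.act_g h1 s
    rw [MulAut.mul_apply, hZ _ (A.g_mem_center s), MulAut.conj_apply, ← A.g_cen, mul_inv_cancel_right] at h9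
    exact (A.g_inj h9).symm
  have h9 := gp_graph τ' h7 hsq h8
  subst h9
  have h10 : MulAut.conj l * α = 1 := IsTau.ext h1 A.isTau_one
  have h11 : α = MulAut.conj l⁻¹ := by
    rw [map_inv]
    exact eq_inv_of_mul_eq_one_right h10
  refine ⟨l⁻¹, ?_, h11⟩
  rw [A.mem_T_iff]
  have h12 := h5 1
  rw [h11, A.b_conj, MulAut.conj_apply, mul_inv_eq_iff_eq_mul] at h12
  exact datPSL.cent_x02.1 h12

/-! ### Four-groups of automorphisms normalised by `T` -/

theorem V_code : ∀ τ : Ty, τ ≠ ty1 → τ.mul τ = ty1 → ∀ a b c : F4, ∃ y ∈ ([⟨1, 0, 0⟩, ⟨F4.w, 0, 0⟩, ⟨0, 1, 0⟩,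
    ⟨0, F4.w, 0⟩, ⟨0, 0, F4.w⟩] : List Cfsg.Agent.LThreeFour.Code), cact ⟨a, b, c⟩ τ y ≠ y ∧
    cact ⟨a, b, c⟩ τ y ≠ Cfsg.Agent.LThreeFour.cmul y ⟨0, 0, 1⟩ := by decide +kernel

theorem V_code' : ∀ a b c : F4, ¬ (a = 0 ∧ b = 0) → ∀ d : F4, ∃ q : Cfsg.Agent.LThreeFour.Code,
    Cfsg.Agent.LThreeFour.ccomm q ⟨a, b, c⟩ = ⟨0, 0, d⟩ := by decide +kernel

theorem V_code2 : ∀ y : Cfsg.Agent.LThreeFour.Code, Cfsg.Agent.LThreeFour.cmul ⟨0, 0, 1⟩ y =
    Cfsg.Agent.LThreeFour.cmul y ⟨0, 0, 1⟩ := by decide +kernel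

theorem π_el' (p : Code) : A.π (A.el p) = datPSL.el ⟨p.a, p.b, p.c⟩ := by
  rw [A.π_el]; rfl

theorem π_t : A.π A.t = datPSL.x 0 2 1 := A.π_x 0 2 (by decide) 1

theorem conj_t_ne : MulAut.conj A.t ≠ 1 := by
  intro h
  rw [← map_one MulAut.conj] at h
  have h1 := A.map_conj h
  rw [A.π_t, map_one, ← Cfsg.Agent.LThreeFour.Dat.el_x02, ← Cfsg.Agent.LThreeFour.Dat.el_one] at h1
  exact absurd (datPSL.inj h1) (by decide)

/-- an automorphism commuting with `conj t` over `PSL(3,4)` -/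
theorem bar_fix {α : MulAut L} (h : α * MulAut.conj A.t = MulAut.conj A.t * α) :
    A.b α (datPSL.x 0 2 1) = datPSL.x 0 2 1 := by
  have h1 : MulAut.conj (α A.t) = MulAut.conj A.t := by
    rw [Cfsg.Agent.LThreeFour.Dat.conj_map, h, mul_inv_cancel_right]
  have h2 := A.map_conj h1
  rw [← A.bar, A.π_t] at h2
  exact h2

/-- **(V)** a four-group of automorphisms containing `conj t` and normalised by `C(t)` -/
theorem four_eq {V : Subgroup (MulAut L)} (hV2 : ∀ α ∈ V, α * α = 1) (hV4 : Nat.card V = 4)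
    (hv : MulAut.conj A.t ∈ V) (hn : ∀ p ∈ A.T, ∀ α ∈ V, MulAut.conj p * α * (MulAut.conj p)⁻¹ ∈ V)
    {α : MulAut L} (hα : α ∈ V) : ∃ c, α = MulAut.conj (A.x 0 2 c) := by
  have hinv : ∀ x ∈ V, x⁻¹ = x := fun x hx => inv_eq_of_mul_eq_one_left (hV2 x hx)
  have hab : ∀ x ∈ V, ∀ y ∈ V, x * y = y * x := by
    intro x hx y hy
    have h1 := hinv _ (mul_mem hx hy)
    rw [mul_inv_rev, hinv x hx, hinv y hy] at h1
    exact h1.symm
  obtain ⟨l, τ, h1, h3, h4⟩ := A.exists_type α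
  have h5 := A.bar_fix (hab α hα _ hv)
  have hsq : τ.mul τ = ty1 := by
    have h6 := Cfsg.Agent.LThreeFour.Dat.tyHom_sq (A := datPSL) (α := A.b α) (n := 1)
      (by rw [← map_pow, pow_one, pow_two, hV2 α hα, map_one])
    rw [h4] at h6
    exact congrArg Cfsg.Agent.LThreeFour.TyG.ty h6
  obtain ⟨p, τ', hp⟩ := datPSL.exists_cd h5
  have hττ : τ' = τ := by
    have := hp.hasTy.tyHom
    rw [h4] at this
    exact (congrArg Cfsg.Agent.LThreeFour.TyG.ty this).symm
  subst hττ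
  by_cases hτ : τ' = ty1
  · -- inner
    subst hτ
    have h6 := hp.eq_conj
    obtain ⟨k, hk⟩ := A.surj (datPSL.el (Cfsg.Agent.LThreeFour.cinv p))
    rw [← hk] at h6
    have h7 : α = MulAut.conj k := A.inner_of_bar h6
    have hkT : k ∈ A.T := by rw [A.mem_T_iff, hk]; exact datPSL.el_mem _
    obtain ⟨⟨a, b, c, s⟩, rfl⟩ := A.mem_T.1 hkT
    by_cases hab0 : a = 0 ∧ b = 0
    · obtain ⟨rfl, rfl⟩ := hab0
      refine ⟨c, ?_⟩
      rw [h7]
      apply A.conj_eq_of_map
      rw [A.π_el', A.π_x 0 2 (by decide), Cfsg.Agent.LThreeFour.Dat.el_x02]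
      rfl
    · exfalso
      have h8 : ∀ d, MulAut.conj (A.x 0 2 d) ∈ V := by
        intro d
        obtain ⟨q, hq⟩ := V_code' a b c hab0 d
        have h9 := hn _ (A.el_mem ⟨q.a, q.b, q.c, 0⟩) α hα
        have h10 := mul_mem h9 (inv_mem hα)
        have h11 : MulAut.conj (A.el ⟨q.a, q.b, q.c, 0⟩) * α * (MulAut.conj (A.el ⟨q.a, q.b, q.c, 0⟩))⁻¹ * α⁻¹ =
            MulAut.conj (A.x 0 2 d) := by
          rw [h7, ← map_inv, ← map_inv, ← map_mul, ← map_mul, ← map_mul]
          apply A.conj_eq_of_map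
          rw [map_mul, map_mul, map_mul, map_inv, map_inv, A.π_el', A.π_el', A.π_x 0 2 (by decide)]
          have h12 : datPSL.el ⟨q.a, q.b, q.c⟩ * datPSL.el ⟨a, b, c⟩ * (datPSL.el ⟨q.a, q.b, q.c⟩)⁻¹ *
              (datPSL.el ⟨a, b, c⟩)⁻¹ = datPSL.el (Cfsg.Agent.LThreeFour.ccomm q ⟨a, b, c⟩) := by
            rw [Cfsg.Agent.LThreeFour.Dat.el_inv, Cfsg.Agent.LThreeFour.Dat.el_inv,
              mul_assoc (datPSL.el ⟨q.a, q.b, q.c⟩ * datPSL.el ⟨a, b, c⟩), Cfsg.Agent.LThreeFour.Dat.el_mul,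
              Cfsg.Agent.LThreeFour.Dat.el_mul, Cfsg.Agent.LThreeFour.Dat.el_mul]
            rfl
          rw [h12, hq, Cfsg.Agent.LThreeFour.Dat.el_x02]
          rfl
        rwa [h11] at h10
      have hne : ∀ d e : F4, MulAut.conj (A.x 0 2 d) = MulAut.conj (A.x 0 2 e) → d = e := by
        intro d e h
        have h9 := A.map_conj h
        rw [← A.el_x02, ← A.el_x02, A.π_el', A.π_el'] at h9
        exact congrArg Cfsg.Agent.LThreeFour.Code.c (datPSL.inj h9)
      have hone : MulAut.conj (A.x 0 2 0) = 1 := by rw [A.x_zero 0 2 (by decide), map_one]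
      have h9 := four_mem hV2 hV4 (h8 1) (h8 F4.w)
        (fun h => absurd (hne 1 0 (h.trans hone.symm)) (by decide))
        (fun h => absurd (hne F4.w 0 (h.trans hone.symm)) (by decide))
        (fun h => absurd (hne 1 F4.w h) (by decide)) hα
      have h10 : ∃ d, α = MulAut.conj (A.x 0 2 d) := by
        rcases h9 with h | h | h | h
        · exact ⟨0, by rw [h, hone]⟩
        · exact ⟨1, h⟩
        · exact ⟨F4.w, h⟩
        · exact ⟨1 + F4.w, by rw [h, ← map_mul, A.x_add 0 2 (by decide)]⟩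
      obtain ⟨d, hd⟩ := h10
      rw [h7] at hd
      have h11 := A.map_conj hd
      rw [← A.el_x02, A.π_el', A.π_el'] at h11
      have h12 := datPSL.inj h11
      exact hab0 ⟨congrArg Cfsg.Agent.LThreeFour.Code.a h12, congrArg Cfsg.Agent.LThreeFour.Code.b h12⟩
  · -- outer
    exfalso
    have hninn : ∀ k, α ≠ MulAut.conj k := by
      intro k hk
      rw [hk, A.b_conj, datPSL.tyHom_conj] at h4
      exact hτ (congrArg Cfsg.Agent.LThreeFour.TyG.ty h4).symm
    obtain ⟨y, -, hy1, hy2⟩ := V_code τ' hτ hsq p.a p.b p.c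
    have hpa := hp.apply y
    set q : L := A.el ⟨y.a, y.b, y.c, 0⟩ with hq
    have hπq : A.π q = datPSL.el y := by rw [hq, A.π_el']
    have h6 := mul_mem (hn q (A.el_mem _) α hα) (inv_mem hα)
    have h7 : MulAut.conj q * α * (MulAut.conj q)⁻¹ * α⁻¹ = MulAut.conj (q * (α q)⁻¹) := by
      rw [map_mul, map_inv, Cfsg.Agent.LThreeFour.Dat.conj_map]
      group
    rw [h7] at h6
    have h8 := four_mem hV2 hV4 hv hα A.conj_t_ne
      (by rw [← map_one MulAut.conj]; exact hninn 1) (fun h => hninn _ h.symm) h6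
    rcases h8 with h | h | h | h
    · rw [← map_one MulAut.conj] at h
      have h9 := A.map_conj h
      rw [map_mul, map_inv, map_one, mul_inv_eq_one, ← A.bar, hπq, hpa] at h9
      exact hy1 (datPSL.inj h9).symm
    · have h9 := A.map_conj h
      rw [map_mul, map_inv, ← A.bar, hπq, hpa, A.π_t, mul_inv_eq_iff_eq_mul, ← Cfsg.Agent.LThreeFour.Dat.el_x02,
        Cfsg.Agent.LThreeFour.Dat.el_mul] at h9
      have h10 := datPSL.inj h9
      apply hy2
      have h11 : ∀ w : Cfsg.Agent.LThreeFour.Code, y = Cfsg.Agent.LThreeFour.cmul ⟨0, 0, 1⟩ w →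
          w = Cfsg.Agent.LThreeFour.cmul y ⟨0, 0, 1⟩ := by
        intro w hw
        rw [hw, V_code2, Cfsg.Agent.LThreeFour.cmul_assoc,
          show Cfsg.Agent.LThreeFour.cmul ⟨0, 0, 1⟩ ⟨0, 0, 1⟩ = Cfsg.Agent.LThreeFour.cone by decide,
          Cfsg.Agent.LThreeFour.cmul_cone]
      exact h11 _ h10
    · exact hninn _ h.symm
    · apply hninn (A.t⁻¹ * (q * (α q)⁻¹))
      rw [map_mul, map_inv, h, inv_mul_cancel_left]

end Dat

end Cfsg.Agent.UGT.Cov.Klein
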