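import Cfsg.Agent.UGT.Cov.KleinJ
import Cfsg.Agent.UGT.Cov.KleinV
import Cfsg.Agent.UGT.Cov.KleinK
import Cfsg.Agent.UGT.FL34.KFCore

/-!
# UGT N1 (I34) [C]: further facts on the automorphisms of `2².L₃(4)`

* `LamK K` : the automorphisms of `K` which are "even" (inner, diagonal, graph); `LamK_mul`, `LamK_congr`;
* `unb` : an unbalanced involutory automorphism is outer and centralizes the centre (type `c`);
* `IsTau.ex_c`, `uniq_c`, `four_fix`, `sixteen` : fixed points of the types `c`, `f`.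
-/

set_option autoImplicit false
set_option linter.constructorNameAsVariable false
set_option linter.unusedVariables false

namespace Cfsg.Agent.UGT.Cov.Klein

open Subgroup
open Cfsg.Agent.SporadicA.FieldFour
open Cfsg.Agent.ONType
open Cfsg.Agent.ONType.Psl (PSL3 kap hh)
open Cfsg.Agent.ONType.OuterL (rv rv_ne rv_rv)
open Cfsg.Agent.LThreeFour (Ty TyG imgx pu datPSL ty1 bits bitsHom)
open Cfsg.Agent.OddHalf.D9.L34Mult
open Cfsg.Agent.UGT.I34.KAut (fixed mem_fixed Inn)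
open Cfsg.Agent.UGT.ThEL34 (fx mem_fx)
open Cfsg.Agent.UGT.FL34 (fx_tt)
open Cfsg.Agent.UGT.FL34.KF (bits_of_oddC)
open Cfsg.Agent.UGT.LTF.Defs (OddC)
open scoped commutatorElement

variable {K : Type*} [Group K]

namespace Dat

/-! ### the field bit -/

/-- comparison of two coordinate systems -/
theorem exists_gamma (A B : Dat K) : ∃ γ : MulAut PSL3, (∀ k, B.π k = γ (A.π k)) ∧
    ∀ φ, B.b φ = γ * A.b φ * γ⁻¹ := by
  have hker : A.π.ker = B.π.ker := by rw [A.ker_eq, B.ker_eq]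
  let e1 := QuotientGroup.quotientKerEquivOfSurjective A.π A.surj
  let e2 := QuotientGroup.quotientKerEquivOfSurjective B.π B.surj
  let e3 : K ⧸ A.π.ker ≃* K ⧸ B.π.ker := QuotientGroup.quotientMulEquivOfEq hker
  let γ : MulAut PSL3 := e1.symm.trans (e3.trans e2)
  have h1 : ∀ k, B.π k = γ (A.π k) := by
    intro k
    have h2 : e1 (QuotientGroup.mk k) = A.π k := rfl
    have h3 : e1.symm (A.π k) = QuotientGroup.mk k := by rw [← h2, e1.symm_apply_apply]
    show B.π k = e2 (e3 (e1.symm (A.π k)))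
    rw [h3]
    rfl
  refine ⟨γ, h1, fun φ => ?_⟩
  apply MulEquiv.ext
  intro m
  obtain ⟨k, rfl⟩ := B.surj m
  rw [B.bar, h1 (φ k), ← A.bar, MulAut.mul_apply, MulAut.mul_apply, h1 k, MulAut.inv_apply_self]

/-- the field bit of an automorphism -/
noncomputable def bit (A : Dat K) : MulAut K →* Multiplicative (ZMod 2) :=
  (MonoidHom.fst _ _).comp (bitsHom.comp (datPSL.tyHom.comp A.b))

theorem bit_eq (A B : Dat K) : A.bit = B.bit := by
  obtain ⟨γ, -, h⟩ := exists_gamma A B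
  ext φ
  show (bitsHom (datPSL.tyHom (A.b φ))).1 = (bitsHom (datPSL.tyHom (B.b φ))).1
  rw [h, map_mul, map_mul, map_mul, map_mul, map_inv, map_inv, mul_comm (bitsHom _), mul_assoc, mul_inv_cancel,
    mul_one]

theorem IsTau.hasTy {A : Dat K} {e f : Bool} {φ : MulAut K} (h : A.IsTau (e, f, 0) φ) :
    datPSL.tyHom (A.b φ) = ⟨(e, f, 0)⟩ :=
  LThreeFour.Dat.HasTy.tyHom ⟨1, by rw [map_one, one_mul]; exact h.bar⟩

theorem IsTau.bit {A : Dat K} {e f : Bool} {φ : MulAut K} (h : A.IsTau (e, f, 0) φ) :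
    A.bit φ = LThreeFour.bz e := by
  show (bitsHom (datPSL.tyHom (A.b φ))).1 = _
  rw [h.hasTy]
  rfl

end Dat

/-- the even automorphisms -/
noncomputable def LamK (K : Type*) [Group K] : Subgroup (MulAut K) := ⨅ A : Dat K, A.bit.ker

theorem mem_LamK (A : Dat K) {φ : MulAut K} : φ ∈ LamK K ↔ A.bit φ = 1 := by
  unfold LamK
  rw [mem_iInf]
  constructor
  · intro h
    exact h A
  · intro h B
    rw [MonoidHom.mem_ker, B.bit_eq A]
    exact h

theorem z2_cases : ∀ a b : Multiplicative (ZMod 2), a * b = 1 ↔ (a = 1 ↔ b = 1) := by decide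

theorem LamK_mul (A : Dat K) (φ ψ : MulAut K) : φ * ψ ∈ LamK K ↔ (φ ∈ LamK K ↔ ψ ∈ LamK K) := by
  rw [mem_LamK A, mem_LamK A, mem_LamK A, map_mul]
  exact z2_cases _ _

theorem LamK_congr {K' : Type*} [Group K'] (e : K ≃* K') (φ : MulAut K) :
    MulAut.congr e φ ∈ LamK K' ↔ φ ∈ LamK K := by
  unfold LamK
  rw [mem_iInf, mem_iInf]
  constructor
  · intro h A
    have h1 := h (mapD A e)
    rw [MonoidHom.mem_ker] at h1 ⊢
    rw [← h1]
    show (bitsHom (datPSL.tyHom (A.b φ))).1 = (bitsHom (datPSL.tyHom ((mapD A e).b (MulAut.congr e φ)))).1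
    congr 3
    show A.b φ = A.b (autMap e (MulAut.congr e φ))
    congr 1
    apply MulEquiv.ext
    intro x
    rw [autMap_apply]
    show φ x = e.symm (e (φ (e.symm (e x))))
    rw [e.symm_apply_apply, e.symm_apply_apply]
  · intro h A'
    have h1 := h (mapD A' e.symm)
    rw [MonoidHom.mem_ker] at h1 ⊢
    rw [← h1]
    show (bitsHom (datPSL.tyHom (A'.b (MulAut.congr e φ)))).1 = (bitsHom (datPSL.tyHom ((mapD A' e.symm).b φ))).1
    congr 3

theorem inner_LamK (A : Dat K) (k : K) : MulAut.conj k ∈ LamK K := by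
  rw [mem_LamK A]
  show (bitsHom (datPSL.tyHom (A.b (MulAut.conj k)))).1 = 1
  rw [A.ext.tyHom_conj, map_one]
  rfl

namespace Dat

variable {A : Dat K} {e f : Bool} {φ : MulAut K}

theorem IsTau.mem_LamK (h : A.IsTau (e, f, 0) φ) : φ ∈ LamK K ↔ e = false := by
  have e1 : ∀ e, LThreeFour.bz e = 1 ↔ e = false := by decide
  rw [Klein.mem_LamK A, h.bit, e1]

/-! ### unbalanced automorphisms -/

/-- `C_{PSL}(φ)` is covered by `C_K(φ)` -/
theorem cover_inner (A : Dat K) {l : K} (h2 : MulAut.conj l * MulAut.conj l = 1) :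
    ∀ q ∈ fx (A.b (MulAut.conj l)), ∃ k, A.π k = q ∧ MulAut.conj l k = k := by
  intro q hq
  obtain ⟨k, rfl⟩ := A.surj q
  refine ⟨k, rfl, ?_⟩
  rw [mem_fx, A.b_conj, MulAut.conj_apply, mul_inv_eq_iff_eq_mul] at hq
  by_cases hl : l ∈ center K
  · rw [MulAut.conj_apply, ← mem_center_iff.mp hl k, mul_inv_cancel_right]
  · have hll : l * l = 1 := by
      apply A.sq_of_center
      rw [← A.ker_eq, MonoidHom.mem_ker]
      apply A.ext.map_one_of_conj
      rw [map_mul, h2]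
    obtain ⟨B, r, -, rfl⟩ := A.exists_dat_tg ⟨hll, hl⟩
    obtain ⟨γ, hγ, -⟩ := exists_gamma A B
    have h3 : B.π (B.t * B.g r) * B.π k = B.π k * B.π (B.t * B.g r) := by
      rw [hγ (B.t * B.g r), hγ k, ← map_mul γ, ← map_mul γ, hq]
    have h4 : k ∈ B.T := by
      rw [B.mem_T_iff, ← LThreeFour.Dat.cent_x02]
      rw [map_mul, B.π_g, mul_one] at h3
      have h5 : B.π B.t = datPSL.x 0 2 1 := B.π_x 0 2 (by decide) 1
      rw [h5] at h3
      exact h3.symm
    have h5 := (B.cent_tg r).mpr h4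
    rw [MulAut.conj_apply, mul_inv_eq_iff_eq_mul]
    exact h5.symm

/-- **unbalanced involutory automorphisms are of type `c`** -/
theorem unb [Finite K] (A : Dat K) {φ : MulAut K} (h2 : φ * φ = 1) (Δ : Subgroup (MulAut K))
    (hodd : Odd (Nat.card Δ)) (hne : Δ ≠ ⊥) (hc : ∀ δ ∈ Δ, δ * φ = φ * δ)
    (hn : ∀ k, φ k = k → ∀ δ ∈ Δ, MulAut.conj k * δ * (MulAut.conj k)⁻¹ ∈ Δ) :
    φ ∉ Inn K ∧ ∀ z ∈ center K, φ z = z := by
  -- the covering property gives a contradiction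
  have key : ∀ B : Dat K, (∀ q ∈ fx (B.b φ), ∃ k, B.π k = q ∧ φ k = k) →
      bits (datPSL.tyHom (B.b φ)) = (true, true) := by
    intro B hB
    have hE : OddC (B.b φ) (Δ.map B.b) := by
      refine ⟨?_, ?_, ?_⟩
      · exact Odd.of_dvd_nat hodd (Subgroup.card_map_dvd Δ B.b)
      · rintro _ ⟨δ, hδ, rfl⟩
        rw [← map_mul, ← map_mul, hc δ hδ]
      · rintro l hl _ ⟨δ, hδ, rfl⟩
        obtain ⟨k, rfl, hk⟩ := hB l hl
        refine ⟨_, hn k hk δ hδ, ?_⟩
        rw [map_mul, map_mul, map_inv, B.b_conj]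
    have hE1 : Δ.map B.b ≠ ⊥ := by
      intro h
      apply hne
      rw [eq_bot_iff]
      intro δ hδ
      have h3 : B.b δ = 1 := by
        have : B.b δ ∈ Δ.map B.b := ⟨δ, hδ, rfl⟩
        rw [h, mem_bot] at this
        exact this
      rw [mem_bot]
      have h4 : B.b δ = MulAut.conj (B.π 1) := by rw [h3, map_one, map_one]
      rw [B.inner_of_bar h4, map_one]
    exact bits_of_oddC (MulEquiv.refl PSL3) (by rw [← map_mul, h2, map_one]) hE hE1
  by_cases hin : φ ∈ Inn K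
  · exfalso
    obtain ⟨l, rfl⟩ := hin
    have h3 := key A (A.cover_inner h2)
    rw [A.ext.tyHom_conj] at h3
    exact absurd h3 (by decide)
  · refine ⟨hin, ?_⟩
    obtain ⟨B, e, f, hef, h⟩ := A.exists_pure h2 (fun k hk => hin ⟨k, hk.symm⟩)
    have hcov : ∀ (hh : FGt e f), False := by
      intro hh
      have h3 := key B (by
        intro q hq
        obtain ⟨R, hmap, -⟩ := res_tau hh h
        rw [← hmap] at hq
        obtain ⟨j, hj, rfl⟩ := hq
        exact ⟨j, rfl, R.le hj⟩)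
      rw [h.hasTy] at h3
      rcases hh with ⟨rfl, rfl⟩ | ⟨rfl, rfl⟩
      · exact absurd h3 (by decide)
      · exact absurd h3 (by decide)
    intro z hz
    obtain ⟨s, rfl⟩ := B.mem_center.1 hz
    cases e <;> cases f
    · exact absurd rfl hef
    · exact absurd (Or.inr ⟨rfl, rfl⟩) hcov
    · exact absurd (Or.inl ⟨rfl, rfl⟩) hcov
    · have e1 : ∀ s, fq true s * fq true s = s := by decide
      rw [h.g, if_pos rfl, e1]

/-! ### fixed points of type `c` -/

theorem center_c : ∀ p : LThreeFour.Code, LThreeFour.ctau (true, true, 0) p = p →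
    (∀ q : LThreeFour.Code, LThreeFour.ctau (true, true, 0) q = q →
      LThreeFour.cmul p q = LThreeFour.cmul q p) → p.a = 0 ∧ p.b = 0 := by decide +kernel

/-- the Sylow 2-subgroup of `C_{PSL}(c)` -/
theorem odd_rel_c (h : A.IsTau (true, true, 0) φ) : ¬ 2 ∣ (datPSL.T ⊓ fx (A.b φ)).relIndex (fx (A.b φ)) := by
  apply odd_relIndex (tt_mem h).1
  intro q hq hqT hq'
  obtain ⟨p, rfl⟩ := hqT
  have hfix : ∀ p : LThreeFour.Code, datPSL.el p ∈ fx (A.b φ) ↔ LThreeFour.ctau (true, true, 0) p = p := by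
    intro p
    rw [mem_fx, LThreeFour.Dat.IsTau.el h.bar]
    exact ⟨fun h => datPSL.inj h, fun h => by rw [h]⟩
  obtain ⟨ha, hb⟩ := center_c p ((hfix p).mp hq) (by
    intro r hr
    apply datPSL.inj
    rw [← datPSL.el_mul, ← datPSL.el_mul]
    exact hq' _ ((hfix r).mpr hr) ⟨r, rfl⟩)
  refine ⟨p.c, ?_⟩
  obtain ⟨a, b, c⟩ := p
  simp only at ha hb
  subst ha hb
  exact datPSL.el_x02 c

/-- commuting involutions of `C_{PSL}(c)` are equal -/
theorem uniq_bar (h : A.IsTau (true, true, 0) φ) {p q : PSL3} (hp : p ∈ fx (A.b φ)) (hq : q ∈ fx (A.b φ))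
    (hpp : p * p = 1) (hqq : q * q = 1) (hp1 : p ≠ 1) (hq1 : q ≠ 1) (hpq : p * q = q * p) : p = q := by
  set F0 := fx (A.b φ) with hF0
  have h1 : ¬ 2 ∣ ((datPSL.T ⊓ F0).subgroupOf F0).index := odd_rel_c h
  obtain ⟨g, hg⟩ := conj_mem_of_odd h1 (s := (⟨p, hp⟩ : F0)) (Subtype.ext hpp)
  have hg1 : g.1⁻¹ * p * g.1 ∈ datPSL.T ⊓ F0 := hg
  have hfix : ∀ p : LThreeFour.Code, datPSL.el p ∈ F0 ↔ LThreeFour.ctau (true, true, 0) p = p := by
    intro p
    rw [hF0, mem_fx, LThreeFour.Dat.IsTau.el h.bar]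
    exact ⟨fun h => datPSL.inj h, fun h => by rw [h]⟩
  -- involutions of `T ∩ F0`
  have hinv : ∀ r : PSL3, r ∈ datPSL.T → r ∈ F0 → r * r = 1 → r ≠ 1 → r = datPSL.x 0 2 1 := by
    rintro _ ⟨c, rfl⟩ hr hrr hr1
    have h3 : LThreeFour.cmul c c = LThreeFour.cone := by
      rw [datPSL.el_mul, datPSL.el_eq_one] at hrr; exact hrr
    rcases fx_tt c ((hfix c).mp hr) h3 with h4 | h4
    · exact absurd (by rw [h4]; exact datPSL.el_one) hr1
    · rw [h4]; exact datPSL.el_x02 1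
  have hcj : ∀ r : PSL3, r * r = 1 → g.1⁻¹ * r * g.1 * (g.1⁻¹ * r * g.1) = 1 := by
    intro r hr
    calc g.1⁻¹ * r * g.1 * (g.1⁻¹ * r * g.1) = g.1⁻¹ * (r * r) * g.1 := by group
      _ = 1 := by rw [hr]; group
  have hcj1 : ∀ r : PSL3, r ≠ 1 → g.1⁻¹ * r * g.1 ≠ 1 := by
    intro r hr h3
    apply hr
    have : r = g.1 * (g.1⁻¹ * r * g.1) * g.1⁻¹ := by group
    rw [this, h3]; group
  have e1 : g.1⁻¹ * p * g.1 = datPSL.x 0 2 1 := hinv _ hg1.1 hg1.2 (hcj p hpp) (hcj1 p hp1)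
  have h4 : g.1⁻¹ * q * g.1 ∈ datPSL.T := by
    rw [← LThreeFour.Dat.cent_x02, ← e1]
    calc g.1⁻¹ * q * g.1 * (g.1⁻¹ * p * g.1) = g.1⁻¹ * (q * p) * g.1 := by group
      _ = g.1⁻¹ * (p * q) * g.1 := by rw [hpq]
      _ = _ := by group
  have h5 : g.1⁻¹ * q * g.1 ∈ F0 := mul_mem (mul_mem (inv_mem g.2) hq) g.2
  have e2 : g.1⁻¹ * q * g.1 = datPSL.x 0 2 1 := hinv _ h4 h5 (hcj q hqq) (hcj1 q hq1)
  have e3 : g.1⁻¹ * p * g.1 = g.1⁻¹ * q * g.1 := e1.trans e2.symm
  exact mul_left_cancel (mul_right_cancel e3)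

theorem map_mem_fx (A : Dat K) {a : K} (ha : φ a = a) : A.π a ∈ fx (A.b φ) := by
  rw [mem_fx, A.bar, ha]

theorem map_ne_one (A : Dat K) {a : K} (ha : a ∉ center K) : A.π a ≠ 1 := by
  intro h
  apply ha
  rw [← A.ker_eq]; exact h

/-- commuting canonical involutions fixed by an automorphism of type `c` are equal -/
theorem uniq_c (h : A.IsTau (true, true, 0) φ) {a b : K} (ha : Can a) (hb : Can b) (hfa : φ a = a)
    (hfb : φ b = b) (hab : a * b = b * a) : a = b := by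
  have h1 : A.π a = A.π b := by
    refine uniq_bar h (A.map_mem_fx hfa) (A.map_mem_fx hfb) ?_ ?_ (A.map_ne_one ha.1.2) (A.map_ne_one hb.1.2) ?_
    · rw [← map_mul, ha.1.1, map_one]
    · rw [← map_mul, hb.1.1, map_one]
    · rw [← map_mul, ← map_mul, hab]
  obtain ⟨s, hs⟩ := (A.ker (a⁻¹ * b)).1 (by rw [map_mul, map_inv, h1, inv_mul_cancel])
  have e1 : b = a * A.g s := by rw [← hs]; group
  have h3 := A.can_t ha
  have h4 := A.can_t hb
  rw [e1] at h4
  have h5 : Cj (A.t * A.g s) (A.t * A.g 0) := by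
    rw [A.g_zero, mul_one]
    exact (Dat.Cj.g h3.symm' A s).trans' h4
  rw [e1, A.tg_inj h5, A.g_zero, mul_one]

/-- types `c` and `f` do not fix a canonical four-group -/
theorem four_fix [Finite K] (A : Dat K) (hφ : φ ∉ LamK K) (h2 : φ * φ = 1) {a b : K} (ha : Can a) (hb : Can b)
    (hab : Can (a * b)) (hcom : a * b = b * a) (hfa : φ a = a) (hfb : φ b = b) : False := by
  obtain ⟨B, e, f, hef, h⟩ := A.exists_pure h2 (fun k hk => hφ (by rw [hk]; exact inner_LamK A k))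
  rw [h.mem_LamK] at hφ
  cases e
  · exact hφ rfl
  cases f
  · -- type `f`
    obtain ⟨R, hmap, -⟩ := res_tau (Or.inl ⟨rfl, rfl⟩) h
    have key : ∀ a : K, Can a → φ a = a → ∃ j ∈ B.Jc φ, a = j * B.g 1 := by
      intro a ha hfa
      have h3 : a ∈ B.Jc φ ⊔ center K := R.sup hfa
      obtain ⟨j, hj, z, hz, rfl⟩ := mem_sup_of_normal_right.mp h3
      obtain ⟨s, rfl⟩ := B.mem_center.1 hz
      have hfj : φ j = j := R.le hj
      have hfz : φ (B.g s) = B.g s := by
        rw [map_mul, hfj] at hfa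
        exact mul_left_cancel hfa
      rw [h.g, if_neg (by decide)] at hfz
      have h4 := B.g_inj hfz
      have h5 : ∀ s : F4, fq true s = s → s = 0 ∨ s = 1 := by decide
      rcases h5 s h4 with rfl | rfl
      · exfalso
        rw [B.g_zero, mul_one] at ha
        have h6 : j ≠ 1 := fun h7 => ha.1.2 (by rw [h7]; exact one_mem _)
        have h8 := inv_J (Or.inl ⟨rfl, rfl⟩) h hj ha.1.1 h6
        rw [if_pos rfl] at h8
        have h9 : Cj (B.t * B.g 1) (B.t * B.g 0) := by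
          rw [B.g_zero, mul_one]
          exact h8.symm'.trans' (B.can_t ha)
        exact absurd (B.tg_inj h9) (by decide)
      · exact ⟨j, hj, rfl⟩
    obtain ⟨j, hj, rfl⟩ := key a ha hfa
    obtain ⟨j', hj', rfl⟩ := key b hb hfb
    have e1 : j * B.g 1 * (j' * B.g 1) = j * j' := by
      calc j * B.g 1 * (j' * B.g 1) = j * (B.g 1 * j') * B.g 1 := by group
        _ = j * j' * (B.g 1 * B.g 1) := by rw [B.g_cen]; group
        _ = j * j' := by rw [B.g_sq, mul_one]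
    rw [e1] at hab
    have h6 : j * j' ≠ 1 := fun h7 => hab.1.2 (by rw [h7]; exact one_mem _)
    have h8 := inv_J (Or.inl ⟨rfl, rfl⟩) h (mul_mem hj hj') hab.1.1 h6
    rw [if_pos rfl] at h8
    have h9 : Cj (B.t * B.g 1) (B.t * B.g 0) := by
      rw [B.g_zero, mul_one]
      exact h8.symm'.trans' (B.can_t hab)
    exact absurd (B.tg_inj h9) (by decide)
  · -- type `c`
    have h3 := uniq_c h ha hb hfa hfb hcom
    rw [← h3, ha.1.1] at hab
    exact hab.1.2 (one_mem _)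

end Dat

end Cfsg.Agent.UGT.Cov.Klein
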