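import Cfsg.Agent.UGT.Cov.ROutFin

/-!
# The Sylow 2-subgroup (order 256) of `Aut(4.L3(4))` that commutes with `x₀₂(1)`: automorphisms

`A : StdL34.Cov K`, `zb A = conj (x₀₂(1))`. Outer types `(field, graph)`: `(true, false)` = `f`,
`(false, true)` = `g`, `(true, true)` = `c`.
-/

set_option autoImplicit false
set_option linter.constructorNameAsVariable false
set_option linter.unusedVariables false

namespace Cfsg.Agent.UGT.Cov.ROut

open Cfsg.Agent.StdL34
open Cfsg.Agent.SporadicA.FieldFour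

/-! ### Codes of automorphisms -/

section

variable {K : Type*} [Group K] (A : StdL34.Cov K)

/-- conjugation by `x₀₂(1)` -/
def zb : MulAut K := MulAut.conj (A.x 0 2 1)

/-- `α` has the reduced code `r` -/
def Rep (α : MulAut K) (r : RC) : Prop := A.Cd α ⟨r.a, r.b, r.c, 0⟩ (r.e, r.f)

variable {A}

theorem nk_mul (ty : Bool) (r s : RC) :
    nk (cmul ty (ctau ty (r.e, r.f) ⟨s.a, s.b, s.c, 0⟩) ⟨r.a, r.b, r.c, 0⟩) =
      ⟨(rm r s).a, (rm r s).b, (rm r s).c, 0⟩ := by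
  obtain ⟨a, b, c, e, f⟩ := r
  cases f
  · rfl
  · simp only [nk, cmul, ctau, rm, if_true]
    simp

theorem rm_ty (r s : RC) : ((rm r s).e, (rm r s).f) = StdL34.Ty.mul (r.e, r.f) (s.e, s.f) := by
  obtain ⟨a, b, c, e, f⟩ := r
  cases f <;> rfl

theorem Rep.mul {α β : MulAut K} {r s : RC} (h : Rep A α r) (h' : Rep A β s) :
    Rep A (α * β) (rm r s) := by
  have h1 := (Cov.Cd.mul h h').nk
  unfold Rep
  rw [rm_ty, ← nk_mul A.ty r s]
  exact h1

theorem Rep.unique {α : MulAut K} {r s : RC} (h : Rep A α r) (h' : Rep A α s) : r = s := by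
  have h1 : A.IsTau (r.e, r.f) (MulAut.conj (A.el ⟨r.a, r.b, r.c, 0⟩) * α) := h
  have h2 : A.IsTau (s.e, s.f) (MulAut.conj (A.el ⟨s.a, s.b, s.c, 0⟩ * (A.el ⟨r.a, r.b, r.c, 0⟩)⁻¹) *
      (MulAut.conj (A.el ⟨r.a, r.b, r.c, 0⟩) * α)) := by
    have h3 : A.IsTau (s.e, s.f) (MulAut.conj (A.el ⟨s.a, s.b, s.c, 0⟩) * α) := h'
    convert h3 using 1
    rw [map_mul, map_inv]; group
  obtain ⟨h3, h4⟩ := h1.unique h2
  rw [A.el_inv, A.el_mul] at h4
  obtain ⟨k1, k2, k3⟩ := Cov.cz_of_conj h4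
  obtain ⟨a, b, c, e, f⟩ := r
  obtain ⟨a', b', c', e', f'⟩ := s
  simp only [cmul, cinv, Prod.mk.injEq] at h3 k1 k2 k3
  obtain ⟨rfl, rfl⟩ := h3
  have e1 : ∀ u v : F4, u + v = 0 → v = u := by decide
  have h5 := e1 _ _ k1
  have h6 := e1 _ _ k2
  subst h5 h6
  have e2 : ∀ a b c c' : F4, a * b + c' + (c + a * b) = 0 → c = c' := by decide
  rw [e2 _ _ _ _ k3]

theorem Rep.ext {α β : MulAut K} {r : RC} (h : Rep A α r) (h' : Rep A β r) : α = β := by
  have h1 : A.IsTau (r.e, r.f) (MulAut.conj (A.el ⟨r.a, r.b, r.c, 0⟩) * α) := h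
  have h2 : A.IsTau (r.e, r.f) (MulAut.conj (A.el ⟨r.a, r.b, r.c, 0⟩) * β) := h'
  exact mul_left_cancel (h1.ext h2)

theorem rep_one : Rep A 1 r1 := by
  have h := (Cov.isTau_one (A := A)).cd
  exact h

theorem Rep.eq_one {α : MulAut K} (h : Rep A α r1) : α = 1 := h.ext rep_one

theorem rep_conj (p : Code) : Rep A (MulAut.conj (A.el p)) ⟨p.a, p.b, p.c + p.a * p.b, false, false⟩ := by
  have h : A.Cd (MulAut.conj (A.el p)) (cinv A.ty p) (false, false) := by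
    unfold Cov.Cd
    rw [← A.el_inv, map_inv, inv_mul_cancel]
    exact Cov.isTau_one
  exact h.nk

theorem rep_zb : Rep A (zb A) rz := by
  have h := rep_conj (A := A) ⟨0, 0, 1, 0⟩
  rw [A.el_x02] at h
  exact h

theorem rep_conj_iff {α : MulAut K} {a b c : F4} :
    Rep A α ⟨a, b, c, false, false⟩ ↔ α = MulAut.conj (A.el ⟨a, b, c + a * b, 0⟩) := by
  have h := rep_conj (A := A) ⟨a, b, c + a * b, 0⟩
  have e2 : ∀ a b c : F4, c + a * b + a * b = c := by decide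
  simp only [e2] at h
  exact ⟨fun h1 => h1.ext h, fun h1 => h1 ▸ h⟩

/-- an automorphism commuting with `zb` has a code -/
theorem exists_rep {α : MulAut K} (h : α * zb A = zb A * α) : ∃ r, Rep A α r := by
  obtain ⟨l, τ, hl⟩ := A.exists_tau α
  have h2 := hl.x02 1
  have e1 : ∀ e, fr e (1 : F4) = 1 := by decide
  rw [MulAut.mul_apply, MulAut.conj_apply, e1] at h2
  -- `α x₀₂(1) = x₀₂(1) s^k`
  have h3 : MulAut.conj ((A.x 0 2 1)⁻¹ * α (A.x 0 2 1)) = 1 := by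
    rw [map_mul, map_inv, Cov.conj_map]
    have : α * MulAut.conj (A.x 0 2 1) * α⁻¹ = MulAut.conj (A.x 0 2 1) := by
      rw [mul_inv_eq_iff_eq_mul]; exact h
    rw [this, inv_mul_cancel]
  obtain ⟨k, hk⟩ := Cov.conj_eq_one h3
  rw [inv_mul_eq_iff_eq_mul] at hk
  rw [hk] at h2
  have hsq : A.sp k * A.sp k = 1 := by
    have h4 : α (A.x 0 2 1) * α (A.x 0 2 1) = 1 := by
      rw [← map_mul, A.x_sq 0 2 (by decide), map_one]
    rw [hk] at h4
    have h5 : A.x 0 2 1 * A.sp k * (A.x 0 2 1 * A.sp k) = (A.x 0 2 1 * A.x 0 2 1) * (A.sp k * A.sp k) := by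
      rw [mul_assoc, mul_assoc, ← mul_assoc (A.sp k), A.sp_cen k (A.x 0 2 1), mul_assoc]
    rw [h5, A.x_sq 0 2 (by decide), one_mul] at h4
    exact h4
  have hk2 : k = 0 ∨ k = 2 := by
    rw [A.sp_add, ← A.sp_zero, ← A.el_sp, ← A.el_sp] at hsq
    have h6 := congrArg Code.k (A.inj hsq)
    have aux : ∀ k : Fin 4, k + k = 0 → k = 0 ∨ k = 2 := by decide
    exact aux k h6
  have hT : ∃ p, A.el p = l := by
    rcases hk2 with rfl | rfl
    · rw [A.sp_zero, mul_one] at h2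
      exact Cov.mem_of_commute (mul_inv_eq_iff_eq_mul.mp h2)
    · -- `x₀₁(w)` has the same effect on `x₀₂(1)`
      have h7 : A.x 0 1 F4.w * A.x 0 2 1 = A.x 0 2 1 * A.sp 2 * A.x 0 1 F4.w := by
        have h8 := A.row 0 1 2 (by decide) (by decide) (by decide) F4.w 1
        have h9 : t2 (F4.w * 1) = 2 := rfl
        rw [h9] at h8
        rw [h8, mul_assoc, mul_assoc, A.sp_cen]
      have h10 : l * (A.x 0 1 F4.w) * A.x 0 2 1 = A.x 0 2 1 * (l * (A.x 0 1 F4.w)) := by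
        rw [mul_assoc, h7, ← mul_assoc]
        have h11 := mul_inv_eq_iff_eq_mul.mp h2
        rw [h11, mul_assoc]
      obtain ⟨p, hp⟩ := Cov.mem_of_commute h10
      refine ⟨cmul A.ty p (cinv A.ty ⟨F4.w, 0, 0, 0⟩), ?_⟩
      rw [← A.el_mul, ← A.el_inv, hp, A.el_x01]; group
  obtain ⟨p, rfl⟩ := hT
  exact ⟨⟨p.a, p.b, p.c, τ.1, τ.2⟩, Cov.Cd.nk hl⟩

/-! ### Facts on automorphisms commuting with `zb` -/

theorem Rep.comm {α β : MulAut K} {r s : RC} (h : Rep A α r) (h' : Rep A β s) :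
    α * β = β * α ↔ rm r s = rm s r := by
  constructor
  · intro h1
    have h2 := h.mul h'
    rw [h1] at h2
    exact h2.unique (h'.mul h)
  · intro h1
    have h2 := h.mul h'
    rw [h1] at h2
    exact h2.ext (h'.mul h)

theorem zb_sq : zb A * zb A = 1 := by
  unfold zb
  rw [← map_mul, A.x_sq 0 2 (by decide), map_one]

/-- the type -/
theorem Rep.hasTy {α : MulAut K} {r : RC} (h : Rep A α r) : A.HasTy α (r.e, r.f) := Cov.Cd.hasTy h

/-- (r3): the centraliser of an element of order 8 with fourth power `zb` -/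
theorem card_cent_le {κ : MulAut K} (h : κ * κ * (κ * κ) = zb A) :
    Nat.card {α : MulAut K // α * zb A = zb A * α ∧ α * κ = κ * α} ≤ 32 := by
  have hk : κ * zb A = zb A * κ := by rw [← h]; group
  obtain ⟨r, hr⟩ := exists_rep hk
  have h1 := (hr.mul hr).mul (hr.mul hr)
  rw [h] at h1
  have h2 := (fin_three r (h1.unique rep_zb)).1
  have key : ∀ α : {α : MulAut K // α * zb A = zb A * α ∧ α * κ = κ * α},
      ∃ s : {s // s ∈ cs r}, Rep A α.1 s.1 := by
    rintro ⟨α, h3, h4⟩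
    obtain ⟨s, hs⟩ := exists_rep h3
    exact ⟨⟨s, Finset.mem_filter.mpr ⟨Finset.mem_univ _, (hs.comm hr).mp h4⟩⟩, hs⟩
  choose f hf using key
  have h5 : Function.Injective f := by
    intro x y hxy
    have h6 := hf x
    rw [hxy] at h6
    exact Subtype.ext (h6.ext (hf y))
  have h6 := Nat.card_le_card_of_injective f h5
  rw [Nat.card_eq_fintype_card (α := {s // s ∈ cs r}), Fintype.card_coe] at h6
  exact h6.trans h2

/-- (r3), sharp form: if the centraliser has more than 16 elements then the type is `g` -/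
theorem hasTy_of_card {κ : MulAut K} (h : κ * κ * (κ * κ) = zb A)
    (hc : 16 < Nat.card {α : MulAut K // α * zb A = zb A * α ∧ α * κ = κ * α}) :
    A.HasTy κ (false, true) := by
  have hk : κ * zb A = zb A * κ := by rw [← h]; group
  obtain ⟨r, hr⟩ := exists_rep hk
  have h1 := (hr.mul hr).mul (hr.mul hr)
  rw [h] at h1
  rcases (fin_three r (h1.unique rep_zb)).2 with ⟨h2, h3⟩ | h2
  · have := hr.hasTy
    rwa [h2, h3] at this
  · exfalso
    have key : ∀ α : {α : MulAut K // α * zb A = zb A * α ∧ α * κ = κ * α},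
        ∃ s : {s // s ∈ cs r}, Rep A α.1 s.1 := by
      rintro ⟨α, h3, h4⟩
      obtain ⟨s, hs⟩ := exists_rep h3
      exact ⟨⟨s, Finset.mem_filter.mpr ⟨Finset.mem_univ _, (hs.comm hr).mp h4⟩⟩, hs⟩
    choose f hf using key
    have h5 : Function.Injective f := by
      intro x y hxy
      have h6 := hf x
      rw [hxy] at h6
      exact Subtype.ext (h6.ext (hf y))
    have h6 := Nat.card_le_card_of_injective f h5
    rw [Nat.card_eq_fintype_card (α := {s // s ∈ cs r}), Fintype.card_coe] at h6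
    omega

/-- squares of automorphisms are inner -/
theorem sq_inner (A : StdL34.Cov K) (α : MulAut K) : ∃ k, α * α = MulAut.conj k := by
  obtain ⟨τ, h⟩ := Cov.hasTy (A := A) α
  have h1 := h.mul h
  rw [Cov.Ty.mul_self] at h1
  exact h1.inner

/-- an inner automorphism commuting with `zb` is conjugation by an element of the Sylow subgroup -/
theorem exists_el_of_inner {l : K} (h : MulAut.conj l * zb A = zb A * MulAut.conj l) :
    ∃ p : Code, MulAut.conj l = MulAut.conj (A.el p) := by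
  obtain ⟨⟨a, b, c, e, f⟩, hr⟩ := exists_rep h
  have h1 := hr.hasTy.unique (Cov.hasTy_conj l)
  simp only [Prod.mk.injEq] at h1
  obtain ⟨rfl, rfl⟩ := h1
  exact ⟨_, rep_conj_iff.mp hr⟩

/-- an automorphism fixing `x₀₂(1)` commutes with `zb` -/
theorem comm_of_fix {α : MulAut K} (h : α (A.x 0 2 1) = A.x 0 2 1) : α * zb A = zb A * α := by
  have h1 := Cov.conj_map α (A.x 0 2 1)
  rw [h] at h1
  unfold zb
  rw [← mul_inv_eq_iff_eq_mul, ← h1]

theorem fin_w : ∀ r : RC, rm r ⟨0, 0, F4.w, false, false⟩ = rm ⟨0, 0, F4.w, false, false⟩ r ↔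
    r.e = false := by
  decide +kernel

theorem fin_w' : ∀ (r : RC) (c : F4), r.e = false →
    rm r ⟨0, 0, c, false, false⟩ = rm ⟨0, 0, c, false, false⟩ r := by
  decide +kernel

theorem rep_x02 (c : F4) : Rep A (MulAut.conj (A.x 0 2 c)) ⟨0, 0, c, false, false⟩ := by
  have h := rep_conj (A := A) ⟨0, 0, c, 0⟩
  rw [A.el_x02] at h
  have e : ∀ c : F4, c + 0 * 0 = c := by decide
  simp only [e] at h
  exact h

/-- (r1b): `α` commutes with `conj (x₀₂(ω))` iff its type has trivial field part -/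
theorem comm_x02_iff {α : MulAut K} {r : RC} (h : Rep A α r) :
    α * MulAut.conj (A.x 0 2 F4.w) = MulAut.conj (A.x 0 2 F4.w) * α ↔ r.e = false :=
  (h.comm (rep_x02 F4.w)).trans (fin_w r)

theorem comm_x02 {α : MulAut K} {r : RC} (h : Rep A α r) (he : r.e = false) (c : F4) :
    α * MulAut.conj (A.x 0 2 c) = MulAut.conj (A.x 0 2 c) * α :=
  (h.comm (rep_x02 c)).mpr (fin_w' r c he)

/-- (r1a): an elementary `w` in `B` which commutes with `B` modulo `zb` lies over `Ȳ` -/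
theorem four {p : Code} (hp : trF (p.a + p.b) = false)
    (h2 : MulAut.conj (A.el p) * MulAut.conj (A.el p) = 1)
    (hn : MulAut.conj (A.el ⟨F4.w, F4.w, 0, 0⟩) * MulAut.conj (A.el p) =
        MulAut.conj (A.el p) * MulAut.conj (A.el ⟨F4.w, F4.w, 0, 0⟩) ∨
      MulAut.conj (A.el ⟨F4.w, F4.w, 0, 0⟩) * MulAut.conj (A.el p) =
        zb A * (MulAut.conj (A.el p) * MulAut.conj (A.el ⟨F4.w, F4.w, 0, 0⟩))) :
    p.a = 0 ∧ p.b = 0 := by
  have hr := rep_conj (A := A) p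
  have hw := rep_conj (A := A) ⟨F4.w, F4.w, 0, 0⟩
  have hsq := hr.mul hr
  rw [h2] at hsq
  have e1 := hsq.unique rep_one
  refine fin_four' p.a p.b (p.c + p.a * p.b) hp e1 ?_
  rcases hn with h | h
  · left
    have h3 := (hw.comm hr).mp h
    exact h3
  · right
    have h3 := hw.mul hr
    rw [h] at h3
    exact (h3.unique (rep_zb.mul (hr.mul hw)))

/-- (r2) -/
theorem two {p q : Code} (hp : MulAut.conj (A.el p) * MulAut.conj (A.el p) = zb A)
    (hq : MulAut.conj (A.el q) * MulAut.conj (A.el q) = 1)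
    (h : MulAut.conj (A.el p) * MulAut.conj (A.el q) = MulAut.conj (A.el q) * MulAut.conj (A.el p)) :
    q.a = 0 ∧ q.b = 0 := by
  have hr := rep_conj (A := A) p
  have hs := rep_conj (A := A) q
  have h1 := hr.mul hr
  rw [hp] at h1
  have h2 := hs.mul hs
  rw [hq] at h2
  exact fin_two _ _ _ _ _ _ (h1.unique rep_zb).symm.symm (h2.unique rep_one) ((hr.comm hs).mp h)

/-- (r4a): the centraliser of `{(a, a)} Ȳ` -/
theorem cent_diag {α : MulAut K}
    (h1 : α * MulAut.conj (A.el ⟨1, 1, 0, 0⟩) = MulAut.conj (A.el ⟨1, 1, 0, 0⟩) * α)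
    (h2 : α * MulAut.conj (A.el ⟨F4.w, F4.w, 0, 0⟩) = MulAut.conj (A.el ⟨F4.w, F4.w, 0, 0⟩) * α)
    (h3 : α * MulAut.conj (A.x 0 2 F4.w) = MulAut.conj (A.x 0 2 F4.w) * α) :
    ∃ a c, Rep A α ⟨a, a, c, false, false⟩ := by
  have k1 : MulAut.conj (A.el ⟨1, 1, 0, 0⟩) * MulAut.conj (A.el ⟨1, 1, 0, 0⟩) = zb A := by
    have hr := rep_conj (A := A) ⟨1, 1, 0, 0⟩
    exact (hr.mul hr).ext rep_zb
  have h0 : α * zb A = zb A * α := by
    rw [← k1, ← mul_assoc, h1, mul_assoc, h1, mul_assoc]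
  obtain ⟨r, hr⟩ := exists_rep h0
  obtain ⟨e1, e2, e3⟩ := fin_diag r ((hr.comm (rep_conj _)).mp h1) ((hr.comm (rep_conj _)).mp h2)
    ((hr.comm (rep_x02 _)).mp h3)
  obtain ⟨a, b, c, e, f⟩ := r
  simp only at e1 e2 e3
  subst e1 e2 e3
  exact ⟨_, _, hr⟩

/-- (r4b): `β` of type `c` with `β² = 1`, `b` with `b² = zb`; what commutes with `{(a, a)} Ȳ` and `β` is a power
of `b` -/
theorem cent_c {β b α : MulAut K} (hβ : β * β = 1) (hβz : β * zb A = zb A * β)
    (hty : A.HasTy β (true, true)) (hb : b * b = zb A)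
    (hb1 : b * MulAut.conj (A.el ⟨1, 1, 0, 0⟩) = MulAut.conj (A.el ⟨1, 1, 0, 0⟩) * b)
    (hb2 : b * MulAut.conj (A.el ⟨F4.w, F4.w, 0, 0⟩) = MulAut.conj (A.el ⟨F4.w, F4.w, 0, 0⟩) * b)
    (hb3 : b * MulAut.conj (A.x 0 2 F4.w) = MulAut.conj (A.x 0 2 F4.w) * b) (hbβ : b * β = β * b)
    (h1 : α * MulAut.conj (A.el ⟨1, 1, 0, 0⟩) = MulAut.conj (A.el ⟨1, 1, 0, 0⟩) * α)
    (h2 : α * MulAut.conj (A.el ⟨F4.w, F4.w, 0, 0⟩) = MulAut.conj (A.el ⟨F4.w, F4.w, 0, 0⟩) * α)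
    (h3 : α * MulAut.conj (A.x 0 2 F4.w) = MulAut.conj (A.x 0 2 F4.w) * α) (h4 : α * β = β * α) :
    α = 1 ∨ α = zb A ∨ α = b ∨ α = zb A * b := by
  obtain ⟨⟨a, c, d, e, f⟩, hr⟩ := exists_rep hβz
  have h5 := hr.hasTy.unique hty
  simp only [Prod.mk.injEq] at h5
  obtain ⟨rfl, rfl⟩ := h5
  obtain ⟨x, y, hx⟩ := cent_diag hb1 hb2 hb3
  obtain ⟨x', y', hx'⟩ := cent_diag h1 h2 h3
  have h6 := hr.mul hr
  rw [hβ] at h6
  have h7 := hx.mul hx
  rw [hb] at h7
  rcases fin_five a c d (h6.unique rep_one) x y (h7.unique rep_zb) ((hx.comm hr).mp hbβ) x' y'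
    ((hx'.comm hr).mp h4) with ⟨rfl, rfl⟩ | ⟨rfl, rfl⟩ | ⟨rfl, rfl⟩ | ⟨rfl, rfl⟩
  · exact Or.inl hx'.eq_one
  · exact Or.inr (Or.inl (hx'.ext rep_zb))
  · exact Or.inr (Or.inr (Or.inl (hx'.ext hx)))
  · refine Or.inr (Or.inr (Or.inr (hx'.ext ?_)))
    have h8 := rep_zb.mul hx
    have e1 : ∀ x y : F4, rm rz ⟨x, x, y, false, false⟩ = ⟨x, x, 1 + y, false, false⟩ := by decide
    rwa [e1] at h8

/-- type `g`: `α` fixes `x₀₂(1)`, commutes with `conj (x₀₂(ω))` and is not inner -/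
theorem rep_g {α : MulAut K} (h : α * zb A = zb A * α)
    (h1 : α * MulAut.conj (A.x 0 2 F4.w) = MulAut.conj (A.x 0 2 F4.w) * α)
    (h2 : ∀ k, α ≠ MulAut.conj k) : ∃ a b c, Rep A α ⟨a, b, c, false, true⟩ := by
  obtain ⟨r, hr⟩ := exists_rep h
  have h3 := (comm_x02_iff hr).mp h1
  obtain ⟨a, b, c, e, f⟩ := r
  simp only at h3
  subst h3
  cases f
  · exact absurd (rep_conj_iff.mp hr) (h2 _)
  · exact ⟨a, b, c, hr⟩

end

end Cfsg.Agent.UGT.Cov.ROut
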