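import Cfsg.Agent.UGT.Cov.At
import Cfsg.Agent.UGT.Cov.ROut
import Mathlib.GroupTheory.Sylow

/-!
# Automorphisms of odd order of `4₁.L₃(4)`, `4₂.L₃(4)` (helper828)

* `eq_one_of_fix` : an automorphism of odd order which fixes a noncentral involution is trivial;
* `eq_one_of_fix_sylow` : an automorphism of odd order which fixes a Sylow 2-subgroup pointwise is trivial;
* `eq_one_of_fix_subgroup` : the same for a subgroup of odd index.
-/

set_option autoImplicit false

namespace Cfsg.Agent.UGT.Cov.OddFix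

open Subgroup
open Cfsg.Agent.StdL34 Cfsg.Agent.UGT.Cov.At Cfsg.Agent.UGT.Cov.ROut
open Cfsg.Agent.SporadicA.FieldFour

variable {K : Type*} [Group K]

/-- an automorphism of odd order is inner -/
theorem inner_of_odd (A : StdL34.Cov K) {β : MulAut K} (ho : Odd (orderOf β)) : ∃ k, β = MulAut.conj k := by
  obtain ⟨n, hn⟩ := ho
  obtain ⟨k, hk⟩ := sq_inner A β
  refine ⟨k ^ (n + 1), ?_⟩
  have h1 : β ^ (2 * n + 1) = 1 := by rw [← hn, pow_orderOf_eq_one]
  rw [map_pow, ← hk, ← pow_two, ← pow_mul, show 2 * (n + 1) = 2 * n + 1 + 1 by ring, pow_succ, h1, one_mul]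

/-- the elements of the Sylow 2-subgroup have 2-power order -/
theorem pow_el (A : StdL34.Cov K) (p : Code) : A.el p ^ 16 = 1 := by
  have h := pow16 A.ty p
  have h1 : A.el p ^ 16 = A.el (cmul A.ty (cmul A.ty (cmul A.ty (cmul A.ty p p) (cmul A.ty p p))
    (cmul A.ty (cmul A.ty p p) (cmul A.ty p p))) (cmul A.ty (cmul A.ty (cmul A.ty p p) (cmul A.ty p p))
    (cmul A.ty (cmul A.ty p p) (cmul A.ty p p)))) := by
    simp only [← A.el_mul]
    simp only [pow_succ, pow_zero, one_mul, mul_assoc]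
  rw [h1, h, A.el_one]

/-- **An automorphism of odd order which fixes a noncentral involution is trivial.** -/
theorem eq_one_of_fix (A : StdL34.Cov K) {β : MulAut K} (ho : Odd (orderOf β)) {t : K} (ht : t * t = 1)
    (hn : t ∉ center K) (h : β t = t) : β = 1 := by
  obtain ⟨A2, h2, -, -⟩ := exists_at A ht hn
  obtain ⟨l, rfl⟩ := inner_of_odd A ho
  obtain ⟨p, hp⟩ := exists_el_of_inner (A := A2) (l := l) (comm_of_fix (by rw [h2]; exact h))
  rw [hp] at ho ⊢
  have h3 : (MulAut.conj (A2.el p)) ^ 2 ^ 4 = 1 := by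
    rw [← map_pow, show 2 ^ 4 = 16 from rfl, pow_el, map_one]
  have h4 := orderOf_dvd_of_pow_eq_one h3
  have h5 : Nat.Coprime (orderOf (MulAut.conj (A2.el p))) (2 ^ 4) :=
    Nat.Coprime.pow_right 4 (Nat.coprime_two_right.2 ho)
  have h6 := Nat.Coprime.eq_one_of_dvd h5 h4
  exact orderOf_eq_one_iff.1 h6

/-- a 2-group containing a conjugate -/
theorem x02_notMem (A : StdL34.Cov K) : A.x 0 2 1 ∉ center K := by
  intro h
  have h1 := mem_center_iff.1 h (A.x 0 1 F4.w)
  have h2 := conj_x02_sp A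
  rw [h1, mul_inv_cancel_right] at h2
  have h3 : A.sp 2 = 1 := by
    have := h2.symm
    rwa [mul_eq_left] at this
  rw [← A.sp_zero, ← A.el_sp, ← A.el_sp] at h3
  have h4 := congrArg Code.k (A.inj h3)
  revert h4
  decide

/-- a subgroup of odd index contains a noncentral involution -/
theorem exists_invol [Finite K] (A : StdL34.Cov K) {S : Subgroup K} (hS : ¬ 2 ∣ S.index) :
    ∃ t ∈ S, t * t = 1 ∧ t ∉ center K := by
  have : Fact (Nat.Prime 2) := ⟨Nat.prime_two⟩
  obtain ⟨P⟩ : Nonempty (Sylow 2 S) := inferInstance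
  have hP : ¬ 2 ∣ ((P : Subgroup S).map S.subtype).index := by
    have h1 : ((P : Subgroup S).map S.subtype).relIndex S * S.index = ((P : Subgroup S).map S.subtype).index :=
      relIndex_mul_index (map_subtype_le _)
    have h2 : ((P : Subgroup S).map S.subtype).relIndex S = (P : Subgroup S).index := by
      rw [relIndex, ← comap_subtype, comap_map_eq_self_of_injective S.subtype_injective]
    rw [← h1, h2, Nat.Prime.dvd_mul Nat.prime_two]
    rintro (h3 | h3)
    · exact P.not_dvd_index h3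
    · exact hS h3
  have hPp : IsPGroup 2 ((P : Subgroup S).map S.subtype) := P.isPGroup'.map _
  let Q : Sylow 2 K := hPp.toSylow hP
  have hz : IsPGroup 2 (zpowers (A.x 0 2 1)) := by
    apply IsPGroup.of_card (n := 1)
    rw [Nat.card_zpowers, pow_one]
    apply orderOf_eq_prime
    · rw [pow_two, A.x_sq 0 2 (by decide)]
    · intro h
      exact x02_notMem A (by rw [h]; exact one_mem _)
  obtain ⟨R, hR⟩ := hz.exists_le_sylow
  obtain ⟨g, hg⟩ := MulAction.exists_smul_eq K R Q
  refine ⟨g * A.x 0 2 1 * g⁻¹, ?_, ?_, ?_⟩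
  · have h1 : g * A.x 0 2 1 * g⁻¹ ∈ (Q : Subgroup K) := by
      rw [← hg]
      exact ⟨A.x 0 2 1, hR (mem_zpowers _), rfl⟩
    exact (map_subtype_le _) h1
  · calc g * A.x 0 2 1 * g⁻¹ * (g * A.x 0 2 1 * g⁻¹) = g * (A.x 0 2 1 * A.x 0 2 1) * g⁻¹ := by group
      _ = 1 := by rw [A.x_sq 0 2 (by decide)]; group
  · intro h
    have h1 := (inferInstance : (center K).Normal).conj_mem _ h g⁻¹
    apply x02_notMem A
    have h2 : g⁻¹ * (g * A.x 0 2 1 * g⁻¹) * g⁻¹⁻¹ = A.x 0 2 1 := by group
    rwa [h2] at h1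

/-- **An automorphism of odd order which fixes a subgroup of odd index pointwise is trivial.** -/
theorem eq_one_of_fix_subgroup [Finite K] (A : StdL34.Cov K) {β : MulAut K} (ho : Odd (orderOf β))
    {S : Subgroup K} (hS : ¬ 2 ∣ S.index) (h : ∀ x ∈ S, β x = x) : β = 1 := by
  obtain ⟨t, htS, ht, hn⟩ := exists_invol A hS
  exact eq_one_of_fix A ho ht hn (h t htS)

/-- **An automorphism of odd order which fixes a Sylow 2-subgroup pointwise is trivial.** -/
theorem eq_one_of_fix_sylow [Finite K] (A : StdL34.Cov K) {β : MulAut K} (ho : Odd (orderOf β))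
    (S : Sylow 2 K) (h : ∀ x ∈ S, β x = x) : β = 1 := by
  have : Fact (Nat.Prime 2) := ⟨Nat.prime_two⟩
  exact eq_one_of_fix_subgroup A ho S.not_dvd_index h

end Cfsg.Agent.UGT.Cov.OddFix
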