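import Cfsg.Agent.Transfer.CentralTransfer
import Cfsg.Agent.Intrinsic.RedQuot

/-!
# Perfect central extensions with an odd centre: commutators of lifts (transfer)

`odd_pow` : `K` perfect, `|K / Z(K)| = 20160`; if commuting `h`, `r` generate a group of order 9 modulo the centre
then the centre is a 2-group.
-/

set_option autoImplicit false

namespace Cfsg.Agent.UGT.Cov.OddInv

open Subgroup
open Cfsg.Agent.Transfer.CentralTransfer
open scoped commutatorElement

variable {K : Type*} [Group K] [Finite K]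

/-- transfer into an abelian subgroup -/
theorem pow_index (hp : commutator K = ⊤) (M : Subgroup K) (hM : ∀ a ∈ M, ∀ b ∈ M, a * b = b * a)
    (hZ : center K ≤ M) {z : K} (hz : z ∈ center K) : z ^ M.index = 1 := by
  let _ : CommGroup M := { (inferInstance : Group M) with
    mul_comm := fun a b => Subtype.ext (hM a a.2 b b.2) }
  have h := map_pow_index_eq_one_of_perfect hp (MonoidHom.id M) ⟨z, hZ hz⟩ hz
  exact congrArg Subtype.val h

omit [Finite K] in
/-- the subgroup generated by commuting elements and the centre is abelian -/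
theorem comm_closure {S : Set K} (hS : ∀ a ∈ S, ∀ b ∈ S, a * b = b * a) :
    ∀ a ∈ closure (S ∪ (center K : Set K)), ∀ b ∈ closure (S ∪ (center K : Set K)), a * b = b * a := by
  have h0 : ∀ a ∈ S ∪ (center K : Set K), ∀ b ∈ S ∪ (center K : Set K), a * b = b * a := by
    rintro a (ha | ha) b (hb | hb)
    · exact hS a ha b hb
    · exact mem_center_iff.mp hb a
    · exact (mem_center_iff.mp ha b).symm
    · exact mem_center_iff.mp hb a
  have h1 : ∀ a ∈ S ∪ (center K : Set K), ∀ b ∈ closure (S ∪ (center K : Set K)), a * b = b * a := by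
    intro a ha b hb
    have h2 : closure (S ∪ (center K : Set K)) ≤ centralizer ({a} : Set K) := by
      rw [closure_le]
      intro c hc
      rw [SetLike.mem_coe, mem_centralizer_singleton_iff]
      exact h0 c hc a ha
    exact (mem_centralizer_singleton_iff.mp (h2 hb)).symm
  intro a ha b hb
  have h2 : closure (S ∪ (center K : Set K)) ≤ centralizer ({b} : Set K) := by
    rw [closure_le]
    intro c hc
    rw [SetLike.mem_coe, mem_centralizer_singleton_iff]
    exact h1 c hc b hb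
  exact mem_centralizer_singleton_iff.mp (h2 ha)

/-- `z ^ m = 1` -/
theorem pow_of_comm (hp : commutator K = ⊤) {S : Set K} (hS : ∀ a ∈ S, ∀ b ∈ S, a * b = b * a) {n m : ℕ}
    (hn0 : 0 < n)
    (hn : n ∣ Nat.card ((closure (S ∪ (center K : Set K))).map (QuotientGroup.mk' (center K))))
    (hc : Nat.card (K ⧸ center K) = n * m) {z : K} (hz : z ∈ center K) : z ^ m = 1 := by
  obtain ⟨M, hM⟩ : ∃ M, M = closure (S ∪ (center K : Set K)) := ⟨_, rfl⟩
  have hZ : center K ≤ M := by
    rw [hM]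
    exact fun x hx => subset_closure (Or.inr hx)
  have h1 := pow_index hp M (by rw [hM]; exact comm_closure hS) hZ hz
  rw [← hM] at hn
  have h2 : (M.map (QuotientGroup.mk' (center K))).index = M.index :=
    index_map_eq M (QuotientGroup.mk'_surjective _) (by rw [QuotientGroup.ker_mk']; exact hZ)
  have h3 := card_mul_index (M.map (QuotientGroup.mk' (center K)))
  rw [h2, hc] at h3
  obtain ⟨k, hk⟩ := hn
  rw [hk, mul_assoc] at h3
  have h4 := Nat.eq_of_mul_eq_mul_left hn0 h3
  rw [← h4, mul_comm, pow_mul, h1, one_pow]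

theorem pow_prime (hp : commutator K = ⊤) {p m : ℕ} [hpr : Fact p.Prime]
    (hc : Nat.card (K ⧸ center K) = p * m) {z : K} (hz : z ∈ center K) : z ^ m = 1 := by
  obtain ⟨q, hq⟩ := exists_prime_orderOf_dvd_card' (G := K ⧸ center K) p (by rw [hc]; exact dvd_mul_right _ _)
  obtain ⟨y, rfl⟩ := QuotientGroup.mk'_surjective _ q
  refine pow_of_comm hp (S := {y}) (by rintro a rfl b rfl; rfl) (n := p) hpr.out.pos ?_ hc hz
  rw [← hq]
  have h1 : QuotientGroup.mk' (center K) y ∈
      (closure ({y} ∪ (center K : Set K))).map (QuotientGroup.mk' (center K)) :=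
    mem_map_of_mem _ (subset_closure (Or.inl rfl))
  have h2 := orderOf_dvd_natCard (⟨_, h1⟩ :
    ↥((closure ({y} ∪ (center K : Set K))).map (QuotientGroup.mk' (center K))))
  rwa [← Subgroup.orderOf_coe] at h2

/-- two elements generating a group of order 9 -/
theorem nine_dvd {Q : Type*} [Group Q] [Finite Q] {a b : Q} (C : Subgroup Q) (ha : a ∈ C) (hb : b ∈ C)
    (hab : a * b = b * a) (ha3 : a ^ 3 = 1) (hb3 : b ^ 3 = 1) (ha1 : a ≠ 1) (hba : ∀ k : ℕ, b * a ^ k ≠ 1) :
    9 ∣ Nat.card C := by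
  have h3 : Fact (Nat.Prime 3) := ⟨Nat.prime_three⟩
  have hb1 : b ≠ 1 := by
    intro h
    have := hba 0
    rw [h, pow_zero, mul_one] at this
    exact this rfl
  have hoa : orderOf a = 3 := orderOf_eq_prime ha3 ha1
  have hob : orderOf b = 3 := orderOf_eq_prime hb3 hb1
  have hcomm : ∀ (x : zpowers a) (y : zpowers b), Commute ((zpowers a).subtype x) ((zpowers b).subtype y) := by
    rintro ⟨x, hx⟩ ⟨y, hy⟩
    obtain ⟨i, rfl⟩ := mem_zpowers_iff.mp hx
    obtain ⟨j, rfl⟩ := mem_zpowers_iff.mp hy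
    exact (show Commute a b from hab).zpow_zpow i j
  have hdis : _root_.Disjoint (zpowers a) (zpowers b) := by
    rw [disjoint_iff, eq_bot_iff]
    intro x hx
    by_contra hx1
    rw [mem_bot] at hx1
    have hxo : orderOf x = 3 := by
      have h5 : orderOf x ∣ 3 := by
        obtain ⟨i, rfl⟩ := mem_zpowers_iff.mp hx.1
        rw [orderOf_dvd_iff_pow_eq_one, ← zpow_natCast, ← zpow_mul, mul_comm, zpow_mul, zpow_natCast, ha3, one_zpow]
      rcases (Nat.dvd_prime Nat.prime_three).mp h5 with h6 | h6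
      · exact absurd (orderOf_eq_one_iff.mp h6) hx1
      · exact h6
    have h7 : zpowers x = zpowers a := by
      apply Subgroup.eq_of_le_of_card_ge (zpowers_le.mpr hx.1)
      rw [Nat.card_zpowers, Nat.card_zpowers, hoa, hxo]
    have h8 : zpowers x = zpowers b := by
      apply Subgroup.eq_of_le_of_card_ge (zpowers_le.mpr hx.2)
      rw [Nat.card_zpowers, Nat.card_zpowers, hob, hxo]
    have h9 : b⁻¹ ∈ zpowers a := by
      rw [← h7, h8]
      exact inv_mem (mem_zpowers b)
    obtain ⟨k, hk⟩ := (mem_powers_iff_mem_zpowers).mpr h9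
    apply hba k
    have hk' : a ^ k = b⁻¹ := hk
    rw [hk', mul_inv_cancel]
  obtain ⟨f, hf⟩ : ∃ f, f = MonoidHom.noncommCoprod (zpowers a).subtype (zpowers b).subtype hcomm := ⟨_, rfl⟩
  have hinj : Function.Injective f := by
    rw [hf, MonoidHom.noncommCoprod_injective]
    refine ⟨subtype_injective _, subtype_injective _, ?_⟩
    rw [range_subtype, range_subtype]
    exact hdis
  have hle : f.range ≤ C := by
    rintro _ ⟨⟨x, y⟩, rfl⟩
    rw [hf]
    exact mul_mem ((zpowers_le.mpr ha) x.2) ((zpowers_le.mpr hb) y.2)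
  have hcard : Nat.card f.range = 9 := by
    rw [← Nat.card_congr (MonoidHom.ofInjective hinj).toEquiv, Nat.card_prod, Nat.card_zpowers, Nat.card_zpowers,
      hoa, hob]
  rw [← hcard]
  exact card_dvd_of_le hle

/-- **transfer** -/
theorem two_pow (hp : commutator K = ⊤) (hc : Nat.card (K ⧸ center K) = 20160) {h r : K} (hhr : h * r = r * h)
    (hh3 : h ^ 3 ∈ center K) (hr3 : r ^ 3 ∈ center K) (hh : h ∉ center K)
    (hr : ∀ k : ℕ, r * h ^ k ∉ center K) {z : K} (hz : z ∈ center K) : z ^ 64 = 1 := by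
  have h5 : Fact (Nat.Prime 5) := ⟨by norm_num⟩
  have h7 : Fact (Nat.Prime 7) := ⟨by norm_num⟩
  have e5 : z ^ 4032 = 1 := pow_prime hp (p := 5) (m := 4032) (by rw [hc]) hz
  have e7 : z ^ 2880 = 1 := pow_prime hp (p := 7) (m := 2880) (by rw [hc]) hz
  have e3 : z ^ 2240 = 1 := by
    refine pow_of_comm hp (S := {h, r}) ?_ (n := 9) (by norm_num) ?_ (by rw [hc]) hz
    · rintro a (rfl | rfl) b (rfl | rfl)
      · rfl
      · exact hhr
      · exact hhr.symm
      · rfl
    · have key : ∀ k : K, QuotientGroup.mk' (center K) k = 1 ↔ k ∈ center K := fun k => by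
        rw [QuotientGroup.mk'_apply, QuotientGroup.eq_one_iff]
      apply nine_dvd (a := QuotientGroup.mk' (center K) h) (b := QuotientGroup.mk' (center K) r)
      · exact mem_map_of_mem _ (subset_closure (Or.inl (Or.inl rfl)))
      · exact mem_map_of_mem _ (subset_closure (Or.inl (Or.inr rfl)))
      · rw [← map_mul, ← map_mul, hhr]
      · rw [← map_pow, key]; exact hh3
      · rw [← map_pow, key]; exact hr3
      · rw [Ne, key]; exact hh
      · intro k
        rw [← map_pow, ← map_mul, Ne, key]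
        exact hr k
  have h1 := orderOf_dvd_of_pow_eq_one e5
  have h2 := orderOf_dvd_of_pow_eq_one e7
  have h3 := orderOf_dvd_of_pow_eq_one e3
  have h4 := Nat.dvd_gcd (Nat.dvd_gcd h1 h2) h3
  have h6 : Nat.gcd (Nat.gcd 4032 2880) 2240 = 64 := by norm_num
  rw [h6] at h4
  exact orderOf_dvd_iff_pow_eq_one.mp h4

/-- commutators with central values -/
theorem comm_inv_left {K : Type*} [Group K] {h r z w : K} (hz : z ∈ center K) (hw : w ∈ center K)
    (hc : ⁅h, r⁆ ∈ center K) : ⁅z * h⁻¹, w * r⁆ = ⁅h, r⁆⁻¹ := by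
  have hz' := mem_center_iff.mp hz
  have hw' := mem_center_iff.mp hw
  have hc' := mem_center_iff.mp hc
  have h1 : ⁅z * h⁻¹, w * r⁆ = ⁅h⁻¹, r⁆ := by
    rw [commutatorElement_def, commutatorElement_def]
    calc z * h⁻¹ * (w * r) * (z * h⁻¹)⁻¹ * (w * r)⁻¹ = z * (h⁻¹ * w) * r * h * z⁻¹ * r⁻¹ * w⁻¹ := by group
      _ = z * (w * h⁻¹) * r * h * z⁻¹ * r⁻¹ * w⁻¹ := by rw [hw']
      _ = (z * w) * (h⁻¹ * r * h) * z⁻¹ * (r⁻¹ * w⁻¹) := by group
      _ = (w * z) * (h⁻¹ * r * h) * z⁻¹ * (r⁻¹ * w⁻¹) := by rw [hw']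
      _ = w * (z * (h⁻¹ * r * h)) * z⁻¹ * (r⁻¹ * w⁻¹) := by group
      _ = w * ((h⁻¹ * r * h) * z) * z⁻¹ * (r⁻¹ * w⁻¹) := by rw [hz']
      _ = w * (h⁻¹ * r * h * r⁻¹) * w⁻¹ := by group
      _ = (h⁻¹ * r * h * r⁻¹) * w * w⁻¹ := by rw [hw']
      _ = _ := by group
  rw [h1, commutatorElement_def]
  have h2 : h⁻¹ * r * h⁻¹⁻¹ * r⁻¹ = h⁻¹ * ⁅h, r⁆⁻¹ * h := by
    rw [commutatorElement_def]; group
  rw [h2]
  have h3 := mem_center_iff.mp (inv_mem hc) h⁻¹
  rw [h3, inv_mul_cancel_right]

theorem comm_inv_right {K : Type*} [Group K] {h r z w : K} (hz : z ∈ center K) (hw : w ∈ center K)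
    (hc : ⁅h, r⁆ ∈ center K) : ⁅z * h, w * r⁻¹⁆ = ⁅h, r⁆⁻¹ := by
  have h1 : ⁅r, h⁆ ∈ center K := by rw [← commutatorElement_inv]; exact inv_mem hc
  have h2 := comm_inv_left hw hz h1
  rw [← commutatorElement_inv, h2, commutatorElement_inv]

/-- `[h, r] ^ 3 = 1` -/
theorem comm_pow {K : Type*} [Group K] {h r : K} (hc : ⁅h, r⁆ ∈ center K) (n : ℕ) : ⁅h ^ n, r⁆ = ⁅h, r⁆ ^ n := by
  have hc' := mem_center_iff.mp hc
  induction n with
  | zero => rw [pow_zero, pow_zero, commutatorElement_one_left]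
  | succ n ih =>
    rw [pow_succ', pow_succ', ← ih, commutatorElement_def]
    have e : h * h ^ n * r * (h * h ^ n)⁻¹ * r⁻¹ = h * ⁅h ^ n, r⁆ * h⁻¹ * ⁅h, r⁆ := by
      rw [commutatorElement_def, commutatorElement_def]; group
    rw [e, ih]
    have h1 := mem_center_iff.mp (pow_mem hc n) h
    rw [h1, mul_inv_cancel_right, ← hc']

end Cfsg.Agent.UGT.Cov.OddInv
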