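import Cfsg.Agent.UGT.Cov.KleinOdd
import Cfsg.Agent.UGT.Cov.OddInv
import Cfsg.Agent.UGT.I34.FourDefs

/-!
# UGT N1 (I34) [C]: an automorphism moving the four-group centre moves the centre of order 3

`exists_moved` : `K` quasisimple, `K / O(K) = L` of type `2².L₃(4)`, `O(K) ≠ 1`; an automorphism which induces on `L` an
involutory automorphism moving `Z(L)` moves an element of `O(K)`.
-/

set_option autoImplicit false

namespace Cfsg.Agent.UGT.Cov.OddMv

open Cfsg Subgroup
open Cfsg.Agent.SignalizersComponents Cfsg.Agent.Lib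
open Cfsg.Agent.UGT.Cov.Klein Cfsg.Agent.UGT.Cov.OddInv
open scoped commutatorElement

theorem index_center {L : Type*} [Group L] [Finite L] (A : Dat L) : (center L).index = 20160 := by
  have h1 := card_mul_index A.T
  rw [A.card_T, A.T_index] at h1
  have h2 := card_mul_index (center L)
  rw [A.card_center, ← h1] at h2
  omega

/-- an odd order element killed by a power of 2 -/
theorem eq_one_of_pow {K : Type*} [Group K] [Finite K] {z : K} (hz : z ∈ oddCore K) (h : z ^ 64 = 1) : z = 1 := by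
  have h1 : Odd (Nat.card ↥(oddCore K)) := Nat.coprime_two_right.mp (Lib.Cores.pPrimeCore_coprime 2)
  have h2 : orderOf z ∣ Nat.card ↥(oddCore K) := by
    have := orderOf_dvd_natCard (⟨z, hz⟩ : ↥(oddCore K))
    rwa [← Subgroup.orderOf_coe] at this
  have h3 := orderOf_dvd_of_pow_eq_one h
  have h4 : Nat.Coprime 64 (Nat.card ↥(oddCore K)) := by
    have : Nat.Coprime 2 (Nat.card ↥(oddCore K)) := (Nat.coprime_two_left).mpr h1
    have h5 := Nat.Coprime.pow_left 6 this
    norm_num at h5
    exact h5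
  exact orderOf_eq_one_iff.mp (Nat.eq_one_of_dvd_coprimes h4 h3 h2)

theorem exists_moved {K L : Type*} [Group K] [Finite K] [Group L] [Finite L] (hq : IsQuasisimple K)
    (A : Dat L) (ρ : K →* L) (hρ : Function.Surjective ρ) (hker : ρ.ker = oddCore K) (hne : oddCore K ≠ ⊥)
    (α : MulAut K) (β : MulAut L) (hαβ : ∀ k, ρ (α k) = β (ρ k)) (hβ : β * β = 1)
    (hc : ∃ c ∈ center L, β c ≠ c) : ∃ o ∈ oddCore K, α o ≠ o := by
  have hn : (oddCore K).Normal := Lib.Cores.pPrimeCore_normal 2
  have hp : commutator K = ⊤ := hq.1.commutator_eq_top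
  have hnt : oddCore K ≠ ⊤ := by
    intro h
    rw [← hker, MonoidHom.ker_eq_top_iff] at h
    apply A.t_not_center
    obtain ⟨k, hk⟩ := hρ A.t
    rw [← hk, h]
    exact one_mem _
  have hOZ : oddCore K ≤ center K := QsBasic.normal_le_center_of_ne_top hq (oddCore K) hnt
  have hZ : ∀ k, ρ k ∈ center L → k ∈ center K := by
    intro k hk
    apply Cfsg.Agent.Intrinsic.Red.mem_center_of_commutators hq.1
    intro x
    apply hOZ
    rw [← hker, MonoidHom.mem_ker, map_mul, map_mul, map_mul, map_inv, map_inv,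
      ← mem_center_iff.mp hk (ρ x)]
    group
  have hZ' : ∀ k ∈ center K, ρ k ∈ center L := by
    intro k hk
    rw [mem_center_iff]
    intro y
    obtain ⟨x, rfl⟩ := hρ y
    rw [← map_mul, ← map_mul, mem_center_iff.mp hk x]
  have hcard : Nat.card (K ⧸ center K) = 20160 := by
    have h1 : center K = (center L).comap ρ := by
      ext k
      exact ⟨hZ' k, hZ k⟩
    have h2 : (center K).index = 20160 := by
      rw [h1, index_comap_of_surjective _ hρ, index_center A]
    exact h2
  obtain ⟨h, r, h3, r3, hr, hh1, hr1, hφ⟩ := A.exists_pair hβ hc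
  obtain ⟨h', rfl⟩ := hρ h
  obtain ⟨r', rfl⟩ := hρ r
  have hcen : ⁅h', r'⁆ ∈ center K := hZ _ (by rw [map_commutatorElement]; exact hr)
  have h3' : h' ^ 3 ∈ center K := hZ _ (by rw [map_pow, h3]; exact one_mem _)
  have r3' : r' ^ 3 ∈ center K := hZ _ (by rw [map_pow]; exact r3)
  have hne1 : ⁅h', r'⁆ ≠ 1 := by
    intro h0
    rw [commutatorElement_eq_one_iff_mul_comm] at h0
    apply hne
    rw [eq_bot_iff]
    intro z hz
    rw [mem_bot]
    refine eq_one_of_pow hz (two_pow hp hcard h0 h3' r3' (fun hc => hh1 (hZ' _ hc)) (fun k hc => ?_) (hOZ hz))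
    apply hr1 k
    rw [← map_pow, ← map_mul]
    exact hZ' _ hc
  have hcube : ⁅h', r'⁆ ^ 3 = 1 := by
    rw [← comm_pow hcen, commutatorElement_eq_one_iff_mul_comm]
    exact (mem_center_iff.mp h3' r').symm
  have hmem : ⁅h', r'⁆ ∈ oddCore K := by
    have h4 : zpowers ⁅h', r'⁆ ≤ oddCore K := by
      apply Lib.Cores.le_pPrimeCore
      · exact ⟨fun x hx g => by
          have h5 : x ∈ center K := (zpowers_le.mpr hcen) hx
          rw [mem_center_iff.mp h5 g, mul_inv_cancel_right]
          exact hx⟩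
      · rw [Nat.card_zpowers]
        have h5 : orderOf ⁅h', r'⁆ ∣ 3 := orderOf_dvd_of_pow_eq_one hcube
        exact Nat.Coprime.coprime_dvd_left h5 (by norm_num)
    exact h4 (mem_zpowers _)
  refine ⟨_, hmem, fun hα => ?_⟩
  have hinv : α ⁅h', r'⁆ = ⁅h', r'⁆⁻¹ := by
    rw [map_commutatorElement]
    rcases hφ with ⟨ha, hb⟩ | ⟨ha, hb⟩
    · have ha' : α h' * h' ∈ center K := hZ _ (by rw [map_mul, hαβ]; exact ha)
      have hb' : α r' * r'⁻¹ ∈ center K := hZ _ (by rw [map_mul, hαβ, map_inv]; exact hb)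
      have := comm_inv_left ha' hb' hcen
      rwa [mul_inv_cancel_right, inv_mul_cancel_right] at this
    · have ha' : α h' * h'⁻¹ ∈ center K := hZ _ (by rw [map_mul, hαβ, map_inv]; exact ha)
      have hb' : α r' * r' ∈ center K := hZ _ (by rw [map_mul, hαβ]; exact hb)
      have := comm_inv_right ha' hb' hcen
      rwa [mul_inv_cancel_right, inv_mul_cancel_right] at this
  rw [hα] at hinv
  apply hne1
  have h6 : ⁅h', r'⁆ ^ 2 = 1 := by
    rw [pow_two]
    nth_rewrite 1 [hinv]
    exact inv_mul_cancel _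
  have h7 : ⁅h', r'⁆ ^ 3 = ⁅h', r'⁆ ^ 2 * ⁅h', r'⁆ := pow_succ _ _
  rw [hcube, h6, one_mul] at h7
  exact h7.symm

end Cfsg.Agent.UGT.Cov.OddMv
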