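import Cfsg.Agent.UGT.Cov.Ext
import Cfsg.Agent.LThreeFour.Facts

/-!
# (K6) 2-groups of automorphisms commuting with an outer involutory automorphism

`Dat.card_le_of_comm` : `L = L₃(4)`; `card_le_of_comm` : perfect `K` with `K / Z(K) = L₃(4)`, `Z(K)` a 2-group.
-/

set_option autoImplicit false
set_option linter.constructorNameAsVariable false
set_option linter.unusedVariables false
set_option linter.unusedSectionVars false

namespace Cfsg.Agent.UGT.Cov

open Subgroup
open Cfsg.Agent.SporadicA.FieldFour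
open Cfsg.Agent.ONType.Psl
open Cfsg.Agent.LThreeFour
open Cfsg.Agent.OddHalf.D9.L34Mult

/-- codes fixed by a pure type -/
def fxc (τ : Ty) : Finset Code := Finset.univ.filter (fun y => ctau τ y = y)

set_option maxRecDepth 100000 in
theorem card_fxc : ∀ τ : Ty, τ ≠ ty1 → τ.mul τ = ty1 → (fxc τ).card ≤ 8 := by
  decide +kernel

section

variable {L : Type*} [Group L] (A : Dat L)

theorem inner_card_le (Q : Subgroup (MulAut L)) (hQ : IsPGroup 2 Q) {α : MulAut L}
    (hα : α ∈ Q) (hα2 : α * α = 1) {τ : Ty} (hτ : τ ≠ ty1) (hty : A.HasTy α τ) :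
    Nat.card {x // x ∈ Q ∧ x * α = α * x ∧ A.tyHom x = 1} ≤ 8 := by
  have hτ2 : τ.mul τ = ty1 := by
    have h1 := hty.mul hty
    rw [hα2] at h1
    exact h1.unique A.hasTy_one
  obtain ⟨l, hl, hl'⟩ := Dat.exists_conj_pure Q hQ hα hα2 hτ hty
  set m := MulAut.conj l with hm
  have key : ∀ x : {x // x ∈ Q ∧ x * α = α * x ∧ A.tyHom x = 1}, ∃ p : {p // p ∈ fxc τ},
      m * x.1 * m⁻¹ = MulAut.conj (A.el p.1) := by
    rintro ⟨x, hx, hxα, hx1⟩
    obtain ⟨p, hp⟩ := Dat.mem_MT_inner (hl' x hx) (by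
      rw [map_mul, map_mul, hx1, mul_one, ← map_mul, mul_inv_cancel, map_one])
    refine ⟨⟨p, ?_⟩, hp⟩
    unfold fxc
    rw [Finset.mem_filter]
    refine ⟨Finset.mem_univ _, ?_⟩
    have h2 := Dat.IsTau.conj hl p
    rw [← hp] at h2
    have h3 : m * α * m⁻¹ * (m * x * m⁻¹) * (m * α * m⁻¹)⁻¹ = m * x * m⁻¹ := by
      calc m * α * m⁻¹ * (m * x * m⁻¹) * (m * α * m⁻¹)⁻¹ = m * (α * x) * α⁻¹ * m⁻¹ := by group
        _ = m * x * m⁻¹ := by rw [← hxα]; group
    rw [h3, hp] at h2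
    exact A.inj (A.conj_injective h2)
  choose f hf using key
  have h1 : Function.Injective f := by
    intro x y hxy
    have h2 := hf x
    rw [hxy, ← hf y] at h2
    apply Subtype.ext
    exact mul_left_cancel (mul_right_cancel h2)
  have h2 := Nat.card_le_card_of_injective f h1
  rw [Nat.card_eq_fintype_card (α := {p // p ∈ fxc τ}), Fintype.card_coe] at h2
  exact h2.trans (card_fxc τ hτ hτ2)

/-- `|C_Q(a)| ≤ 32` in `Aut(L₃(4))`, `a` an outer involution -/
theorem dat_card_le_of_comm {α : MulAut L} (hα2 : α * α = 1) (ho : A.tyHom α ≠ 1)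
    (Q : Subgroup (MulAut L)) (hQ : IsPGroup 2 Q) (hc : ∀ q ∈ Q, q * α = α * q) :
    Nat.card Q ≤ 32 := by
  have hfin := A.finite_aut
  have hp2 : Fact (Nat.Prime 2) := ⟨Nat.prime_two⟩
  have hz : IsPGroup 2 (zpowers α) :=
    Dat.isPGroup_zpowers (n := 1) (by rw [pow_one, pow_two, hα2])
  have hnorm : Q ≤ normalizer (zpowers α : Set (MulAut L)) := by
    intro q hq
    rw [mem_normalizer_iff]
    intro x
    have e : ∀ n : ℤ, q * α ^ n * q⁻¹ = α ^ n := by
      intro n
      have h1 : Commute q α := hc q hq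
      rw [(h1.zpow_right n).eq, mul_inv_cancel_right]
    constructor
    · intro hx
      obtain ⟨n, rfl⟩ := mem_zpowers_iff.mp hx
      show q * α ^ n * q⁻¹ ∈ zpowers α
      rw [e]
      exact mem_zpowers_iff.mpr ⟨n, rfl⟩
    · intro hx
      obtain ⟨n, hn⟩ := mem_zpowers_iff.mp hx
      have : x = q⁻¹ * (q * x * q⁻¹) * q := by group
      rw [this, ← hn]
      have h2 : q⁻¹ * α ^ n * q = α ^ n := by
        have h1 : Commute q⁻¹ α := Commute.inv_left (hc q hq)
        rw [(h1.zpow_right n).eq, inv_mul_cancel_right]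
      rw [h2]
      exact mem_zpowers_iff.mpr ⟨n, rfl⟩
  set E := Q ⊔ zpowers α with hE
  have hE2 : IsPGroup 2 E := IsPGroup.to_sup_of_normal_right' hQ hz hnorm
  have hαE : α ∈ E := (le_sup_right : zpowers α ≤ E) (mem_zpowers α)
  set τ := (A.tyHom α).ty with hτ
  have hτ1 : τ ≠ ty1 := by
    intro h
    apply ho
    exact TyG.ext h
  have hty : A.HasTy α τ := A.hasTy_tyHom α
  have h8 := inner_card_le A E hE2 hαE hα2 hτ1 hty
  set φ : Q →* TyG := A.tyHom.comp Q.subtype with hφ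
  have hcard : Nat.card Q = Nat.card φ.ker * Nat.card φ.range := by
    rw [← Subgroup.card_mul_index φ.ker, Subgroup.index_ker]
  have hk : Nat.card φ.ker ≤ 8 := by
    refine le_trans ?_ h8
    apply Nat.card_le_card_of_injective (fun x : φ.ker =>
      (⟨x.1.1, (le_sup_left : Q ≤ E) x.1.2, hc _ x.1.2, x.2⟩ :
        {x // x ∈ E ∧ x * α = α * x ∧ A.tyHom x = 1}))
    intro x y hxy
    apply Subtype.ext
    apply Subtype.ext
    exact congrArg (fun z : {x // x ∈ E ∧ x * α = α * x ∧ A.tyHom x = 1} => z.1) hxy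
  have hr : Nat.card φ.range ≤ 4 := by
    have h1 : Nat.card φ.range ∣ 12 := by
      rw [← TyG.card_tyG]; exact Subgroup.card_subgroup_dvd_card _
    have h2 : IsPGroup 2 φ.range := hQ.of_surjective φ.rangeRestrict φ.rangeRestrict_surjective
    obtain ⟨n, hn⟩ := IsPGroup.iff_card.mp h2
    rw [hn] at h1 ⊢
    have h3 : n ≤ 2 := by
      by_contra hcon
      have h4 : 2 ^ 3 ∣ 2 ^ n := pow_dvd_pow 2 (by omega)
      have h5 := h4.trans h1
      revert h5
      decide
    calc 2 ^ n ≤ 2 ^ 2 := Nat.pow_le_pow_right (by norm_num) h3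
      _ = 4 := by norm_num
  rw [hcard]
  calc Nat.card φ.ker * Nat.card φ.range ≤ 8 * 4 := Nat.mul_le_mul hk hr
    _ = 32 := by norm_num

end

variable {M : Type*} [Group M] {π : M →* PSL3} {b : MulAut M →* MulAut PSL3}

theorem Ext.b_injective (E : Ext π b) : Function.Injective b :=
  fun _ _ h => E.ce.eq_of_bar E.perf b E.bar h

theorem Ext.card_le_of_comm (E : Ext π b) {a : MulAut M} (ha : a * a = 1)
    (ho : ∀ k, a ≠ MulAut.conj k) (Q : Subgroup (MulAut M)) (hQ : IsPGroup 2 Q)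
    (hc : ∀ q ∈ Q, q * a = a * q) : Nat.card Q ≤ 32 := by
  have h1 : datPSL.tyHom (b a) ≠ 1 := by
    intro h
    obtain ⟨k, hk⟩ := E.inner h
    exact ho k hk
  have h2 := dat_card_le_of_comm datPSL (α := b a) (by rw [← map_mul, ha, map_one]) h1
    (Q.map b) (hQ.map b) (by
      rintro _ ⟨q, hq, rfl⟩
      rw [← map_mul, ← map_mul, hc q hq])
  have h3 : Nat.card (Q.map b) = Nat.card Q :=
    (Nat.card_congr (Q.equivMapOfInjective b E.b_injective).toEquiv).symm
  rwa [h3] at h2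

/-- **(K6)** -/
theorem card_le_of_comm {K : Type*} [Group K] [Finite K] (hperf : commutator K = ⊤)
    (h2 : IsPGroup 2 (center K)) {F : Type*} [Field F] [Fintype F] (hF : Fintype.card F = 4)
    (e : K ⧸ center K ≃* Matrix.ProjectiveSpecialLinearGroup (Fin 3) F) {a : MulAut K}
    (ha : a * a = 1) (ho : ∀ k, a ≠ MulAut.conj k) (Q : Subgroup (MulAut K)) (hQ : IsPGroup 2 Q)
    (hc : ∀ q ∈ Q, q * a = a * q) : Nat.card Q ≤ 32 := by
  obtain ⟨π, b, E, hker⟩ := exists_ext hperf h2 hF e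
  exact E.card_le_of_comm ha ho Q hQ hc

end Cfsg.Agent.UGT.Cov
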