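import Cfsg.Agent.StdL34.Inv2

/-!
# The Sylow 2-subgroup (order 256) of `Aut(4.L3(4))` that commutes with `x₀₂(1)`

`A : StdL34.Cov K`, `zb = conj (x₀₂(1))`. Everything is about automorphisms of `K` commuting with `zb`; types
`(true, false)` = `f`, `(false, true)` = `g`, `(true, true)` = `c`.
-/

set_option autoImplicit false
set_option linter.constructorNameAsVariable false
set_option linter.unusedVariables false

namespace Cfsg.Agent.UGT.Cov.ROut

open Cfsg.Agent.StdL34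
open Cfsg.Agent.SporadicA.FieldFour

/-! ### Reduced codes -/

/-- a code modulo the centre, and an outer type -/
structure RC where
  a : F4
  b : F4
  c : F4
  e : Bool
  f : Bool
  deriving DecidableEq

theorem forall_rc {P : RC → Prop} : (∀ r, P r) ↔ ∀ e f a b c, P ⟨a, b, c, e, f⟩ :=
  ⟨fun h _ _ _ _ _ => h _, fun h r => h r.e r.f r.a r.b r.c⟩

instance {P : RC → Prop} [DecidablePred P] : Decidable (∀ r, P r) :=
  decidable_of_iff _ forall_rc.symm

instance : Fintype RC :=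
  Fintype.ofEquiv (Bool × Bool × F4 × F4 × F4)
    { toFun := fun t => ⟨t.2.2.1, t.2.2.2.1, t.2.2.2.2, t.1, t.2.1⟩
      invFun := fun p => (p.e, p.f, p.a, p.b, p.c)
      left_inv := fun _ => rfl
      right_inv := fun _ => rfl }

/-- product of reduced codes -/
def rm (r s : RC) : RC :=
  if r.f then ⟨fr r.e s.b + r.a, fr r.e s.a + r.b,
      r.a * fr r.e s.a + (fr r.e s.b * fr r.e s.a + fr r.e s.c) + r.c, xor r.e s.e, xor r.f s.f⟩
  else ⟨fr r.e s.a + r.a, fr r.e s.b + r.b, r.a * fr r.e s.b + fr r.e s.c + r.c,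
    xor r.e s.e, xor r.f s.f⟩

/-- the trivial code -/
def r1 : RC := ⟨0, 0, 0, false, false⟩

/-- the code of `zb` -/
def rz : RC := ⟨0, 0, 1, false, false⟩

/-! ### Finite facts -/


theorem fin_four' : ∀ a b c : F4, trF (a + b) = false →
    rm ⟨a, b, c, false, false⟩ ⟨a, b, c, false, false⟩ = r1 →
    (rm ⟨F4.w, F4.w, 0 + F4.w * F4.w, false, false⟩ ⟨a, b, c, false, false⟩ =
        rm ⟨a, b, c, false, false⟩ ⟨F4.w, F4.w, 0 + F4.w * F4.w, false, false⟩ ∨
      rm ⟨F4.w, F4.w, 0 + F4.w * F4.w, false, false⟩ ⟨a, b, c, false, false⟩ =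
        rm rz (rm ⟨a, b, c, false, false⟩ ⟨F4.w, F4.w, 0 + F4.w * F4.w, false, false⟩)) → a = 0 ∧ b = 0 := by
  decide +kernel

/-- (r2) -/
theorem fin_two : ∀ a b c a' b' c' : F4,
    rm ⟨a, b, c, false, false⟩ ⟨a, b, c, false, false⟩ = rz →
    rm ⟨a', b', c', false, false⟩ ⟨a', b', c', false, false⟩ = r1 →
    rm ⟨a, b, c, false, false⟩ ⟨a', b', c', false, false⟩ =
      rm ⟨a', b', c', false, false⟩ ⟨a, b, c, false, false⟩ → a' = 0 ∧ b' = 0 := by
  decide +kernel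

/-- centraliser in the list of codes -/
def cs (h : RC) : Finset RC := Finset.univ.filter (fun r => rm r h = rm h r)

/-- (r3) -/
theorem fin_three : ∀ h : RC, rm (rm h h) (rm h h) = rz →
    (cs h).card ≤ 32 ∧ ((h.e = false ∧ h.f = true) ∨ (cs h).card ≤ 16) := by
  decide +kernel

theorem fin_three' : ∀ a b c : F4, rm (rm ⟨a, b, c, false, true⟩ ⟨a, b, c, false, true⟩)
    (rm ⟨a, b, c, false, true⟩ ⟨a, b, c, false, true⟩) = rz →
    (cs ⟨a, b, c, false, true⟩).card = 32 ∧ ∀ r, rm r ⟨a, b, c, false, true⟩ =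
      rm ⟨a, b, c, false, true⟩ r → trF (r.a + r.b) = false := by
  decide +kernel

theorem fin_diag : ∀ r : RC,
    rm r ⟨1, 1, 0 + 1 * 1, false, false⟩ = rm ⟨1, 1, 0 + 1 * 1, false, false⟩ r →
    rm r ⟨F4.w, F4.w, 0 + F4.w * F4.w, false, false⟩ = rm ⟨F4.w, F4.w, 0 + F4.w * F4.w, false, false⟩ r →
    rm r ⟨0, 0, F4.w, false, false⟩ = rm ⟨0, 0, F4.w, false, false⟩ r →
    r.a = r.b ∧ r.e = false ∧ r.f = false := by
  decide +kernel

set_option synthInstance.maxHeartbeats 400000 in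
set_option synthInstance.maxSize 1024 in
/-- (r4) -/
theorem fin_five : ∀ a b c : F4, rm ⟨a, b, c, true, true⟩ ⟨a, b, c, true, true⟩ = r1 →
    ∀ x y : F4, rm ⟨x, x, y, false, false⟩ ⟨x, x, y, false, false⟩ = rz →
    rm ⟨x, x, y, false, false⟩ ⟨a, b, c, true, true⟩ = rm ⟨a, b, c, true, true⟩ ⟨x, x, y, false, false⟩ →
    ∀ x' y' : F4,
    rm ⟨x', x', y', false, false⟩ ⟨a, b, c, true, true⟩ = rm ⟨a, b, c, true, true⟩ ⟨x', x', y', false, false⟩ →
    (x' = 0 ∧ y' = 0) ∨ (x' = 0 ∧ y' = 1) ∨ (x' = x ∧ y' = y) ∨ (x' = x ∧ y' = 1 + y) := by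
  decide +kernel

end Cfsg.Agent.UGT.Cov.ROut
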