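import Cfsg.Agent.UGT.Cov.Cen
import Cfsg.Agent.OddHalf.D9.L34Mult.NF

/-!
# (K5) the centralisers `C_K(t)`, `t` an involution modulo `Z(K)`, in `K = (4 × 4).L₃(4)`

`sylC` : `S = C_K(t)` is a 2-group of order 256, `Z(S) = Z(K)⟨t⟩`, a normal subgroup `N` of `S` with
`N ∩ Ω₁ Z(K) = 1` has order at most 2.
-/

set_option autoImplicit false
set_option linter.constructorNameAsVariable false
set_option linter.unusedSectionVars false
set_option linter.unusedVariables false

namespace Cfsg.Agent.UGT.Cov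

open Subgroup
open Cfsg.Agent.SporadicA.FieldFour
open Cfsg.Agent.ONType.Psl
open Cfsg.Agent.LThreeFour
open Cfsg.Agent.OddHalf.D9.L34Mult
open scoped commutatorElement

variable {M : Type*} [Group M] {π : M →* PSL3} {b : MulAut M →* MulAut PSL3}

/-- the properties of `S = C_K(t)` -/
structure SylC (K : Type*) [Group K] (t : K) : Prop where
  two : IsPGroup 2 (centralizer ({t} : Set K))
  card : Nat.card (centralizer ({t} : Set K)) = 256
  /-- `Z(S) = Z(K)⟨t⟩` -/
  cen : ∀ x ∈ centralizer ({t} : Set K), (∀ y ∈ centralizer ({t} : Set K), x * y = y * x) →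
    x ∈ center K ∨ x * t ∈ center K
  /-- normal subgroups of `S` disjoint from `Ω₁ Z(K)` -/
  small : ∀ N : Subgroup K, N ≤ centralizer ({t} : Set K) →
    (∀ s ∈ centralizer ({t} : Set K), ∀ n ∈ N, s * n * s⁻¹ ∈ N) → N ⊓ omega K = ⊥ →
    Nat.card N ≤ 2
  /-- and they are contained in `Z(K)⟨t⟩` -/
  small' : ∀ N : Subgroup K, N ≤ centralizer ({t} : Set K) →
    (∀ s ∈ centralizer ({t} : Set K), ∀ n ∈ N, s * n * s⁻¹ ∈ N) → N ⊓ omega K = ⊥ →
    ∀ n ∈ N, n ∈ center K ∨ n * t ∈ center K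

theorem mem_cz {K : Type*} [Group K] {t x : K} : x ∈ centralizer ({t} : Set K) ↔ x * t = t * x :=
  mem_centralizer_singleton_iff

theorem mulc_iff {K : Type*} [Group K] {t z x : K} (hz : z ∈ center K) :
    x * (t * z) = t * z * x ↔ x * t = t * x := by
  have h1 := mem_center_iff.mp hz
  constructor
  · intro h
    apply mul_right_cancel (b := z)
    calc x * t * z = x * (t * z) := by group
      _ = t * (z * x) := by rw [h]; group
      _ = t * x * z := by rw [← h1 x]; group
  · intro h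
    calc x * (t * z) = x * t * z := by group
      _ = t * (x * z) := by rw [h]; group
      _ = t * z * x := by rw [h1 x]; group

/-- transport along `t ↦ t z`, `z` central -/
theorem SylC.mulc {K : Type*} [Group K] {t z : K} (hz : z ∈ center K) (h : SylC K t) :
    SylC K (t * z) := by
  have e : centralizer ({t * z} : Set K) = centralizer ({t} : Set K) := by
    ext x
    rw [mem_cz, mem_cz]
    exact mulc_iff hz
  refine ⟨by rw [e]; exact h.two, by rw [e]; exact h.card, ?_, ?_, ?_⟩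
  · rw [e]
    intro x hx hy
    rcases h.cen x hx hy with h1 | h1
    · exact Or.inl h1
    · right
      rw [← mul_assoc]
      exact mul_mem h1 hz
  · rw [e]; exact h.small
  · rw [e]
    intro N hN hn h0 n hnN
    rcases h.small' N hN hn h0 n hnN with h1 | h1
    · exact Or.inl h1
    · right
      rw [← mul_assoc]
      exact mul_mem h1 hz

theorem mem_center_map {K : Type*} [Group K] (α : MulAut K) {z : K} :
    α z ∈ center K ↔ z ∈ center K := by
  rw [mem_center_iff, mem_center_iff]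
  constructor
  · intro h g
    apply α.injective
    rw [map_mul, map_mul, h]
  · intro h g
    have := congrArg α (h (α.symm g))
    rwa [map_mul, map_mul, MulEquiv.apply_symm_apply] at this

theorem mem_omega_map {K : Type*} [Group K] (α : MulAut K) {z : K} :
    α z ∈ omega K ↔ z ∈ omega K := by
  show (α z ∈ center K ∧ α z * α z = 1) ↔ (z ∈ center K ∧ z * z = 1)
  rw [mem_center_map, ← map_mul, MulEquiv.map_eq_one_iff]

/-- transport along an automorphism -/
theorem SylC.map {K : Type*} [Group K] {t : K} (α : MulAut K) (h : SylC K t) : SylC K (α t) := by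
  have e : ∀ x, x ∈ centralizer ({t} : Set K) ↔ α x ∈ centralizer ({α t} : Set K) := by
    intro x
    rw [mem_cz, mem_cz, ← map_mul, ← map_mul]
    exact ⟨fun h => by rw [h], fun h => α.injective h⟩
  have e' : ∀ x, x ∈ centralizer ({α t} : Set K) ↔ α.symm x ∈ centralizer ({t} : Set K) := by
    intro x
    rw [e, MulEquiv.apply_symm_apply]
  have ee : centralizer ({α t} : Set K) = (centralizer ({t} : Set K)).map α.toMonoidHom := by
    ext x
    rw [e']
    constructor
    · intro hx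
      exact ⟨_, hx, MulEquiv.apply_symm_apply α x⟩
    · rintro ⟨y, hy, rfl⟩
      show α.symm (α y) ∈ _
      rw [MulEquiv.symm_apply_apply]
      exact hy
  have hpre : ∀ N : Subgroup K, N ≤ centralizer ({α t} : Set K) →
      (∀ s ∈ centralizer ({α t} : Set K), ∀ n ∈ N, s * n * s⁻¹ ∈ N) → N ⊓ omega K = ⊥ →
      (N.comap α.toMonoidHom ≤ centralizer ({t} : Set K)) ∧
      (∀ s ∈ centralizer ({t} : Set K), ∀ n ∈ N.comap α.toMonoidHom,
        s * n * s⁻¹ ∈ N.comap α.toMonoidHom) ∧ N.comap α.toMonoidHom ⊓ omega K = ⊥ := by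
    intro N hN hn h0
    refine ⟨fun x hx => (e x).mpr (hN hx), ?_, ?_⟩
    · intro s hs n hnN
      show α (s * n * s⁻¹) ∈ N
      rw [map_mul, map_mul, map_inv]
      exact hn _ ((e s).mp hs) _ hnN
    · rw [eq_bot_iff]
      rintro x ⟨hx, hx2⟩
      have h1 : α x ∈ N ⊓ omega K := ⟨hx, (mem_omega_map α).mpr hx2⟩
      rw [h0, mem_bot, MulEquiv.map_eq_one_iff] at h1
      exact h1
  refine ⟨?_, ?_, ?_, ?_, ?_⟩
  · rw [ee]; exact h.two.map _
  · rw [ee]
    have := Nat.card_congr ((centralizer ({t} : Set K)).equivMapOfInjective α.toMonoidHom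
      α.injective).toEquiv
    rw [← this, h.card]
  · intro x hx hy
    have h1 := h.cen (α.symm x) ((e' x).mp hx) (by
      intro y hy'
      apply α.injective
      rw [map_mul, map_mul, MulEquiv.apply_symm_apply]
      exact hy _ ((e y).mp hy'))
    rcases h1 with h1 | h1
    · left
      have := (mem_center_map α).mpr h1
      rwa [MulEquiv.apply_symm_apply] at this
    · right
      have := (mem_center_map α).mpr h1
      rwa [map_mul, MulEquiv.apply_symm_apply] at this
  · intro N hN hn h0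
    obtain ⟨a1, a2, a3⟩ := hpre N hN hn h0
    have h1 := h.small _ a1 a2 a3
    have h2 : Nat.card (N.comap α.toMonoidHom) = Nat.card N := by
      apply Nat.card_congr
      exact
        { toFun := fun x => ⟨α x.1, x.2⟩
          invFun := fun x => ⟨α.symm x.1, by
            show α (α.symm x.1) ∈ N
            rw [MulEquiv.apply_symm_apply]; exact x.2⟩
          left_inv := fun x => Subtype.ext (MulEquiv.symm_apply_apply α x.1)
          right_inv := fun x => Subtype.ext (MulEquiv.apply_symm_apply α x.1) }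
    rwa [h2] at h1
  · intro N hN hn h0 n hnN
    obtain ⟨a1, a2, a3⟩ := hpre N hN hn h0
    have h1 := h.small' _ a1 a2 a3 (α.symm n) (by
      show α (α.symm n) ∈ N
      rw [MulEquiv.apply_symm_apply]; exact hnN)
    rcases h1 with h1 | h1
    · left
      have := (mem_center_map α).mpr h1
      rwa [MulEquiv.apply_symm_apply] at this
    · right
      have := (mem_center_map α).mpr h1
      rwa [map_mul, MulEquiv.apply_symm_apply] at this

namespace Ext

variable (E : Ext π b)
include E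

/-- the centraliser of `x₀₂(1)`, if `f` is injective -/
theorem mem_cent_x02 (hf : ∀ s, E.ce.f s = 1 → s = 0) {m : M} :
    m * E.ce.x 0 2 1 = E.ce.x 0 2 1 * m ↔
      ∃ (v c : F4) (k : M), π k = 1 ∧ m = E.ce.nf (v * v) v c k := by
  constructor
  · intro h
    have h1 : π m ∈ datPSL.T := by
      have h2 := congrArg π h
      rw [map_mul, map_mul, E.ce.map_x 0 2 (by decide)] at h2
      exact Dat.cent_x02.mp h2
    obtain ⟨⟨p1, p2, p3⟩, hp⟩ := (Dat.mem_T datPSL).mp h1
    have h2 : π m = π (E.ce.nf p1 p2 p3 1) := by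
      rw [E.ce.map_nf _ _ _ _ (map_one π), ← hp]
      rfl
    obtain ⟨k, hk, hk2⟩ := CE.eq_mul_of_map_eq h2.symm
    have h3 : m = E.ce.nf p1 p2 p3 k := by
      rw [hk2]; unfold CE.nf; group
    rw [h3, E.ce.nf_comm02 _ _ _ _ hk] at h
    have h4 : E.ce.f (p1 * 1 + p2 * p2 * (1 * 1)) = 1 := mul_eq_left.mp h
    have h5 := hf _ h4
    have h6 : ∀ a b : F4, a * 1 + b * b * (1 * 1) = 0 → a = b * b := by decide
    exact ⟨p2, p3, k, hk, by rw [h3, h6 _ _ h5]⟩
  · rintro ⟨v, c, k, hk, rfl⟩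
    rw [E.ce.nf_comm02 _ _ _ _ hk]
    have h6 : ∀ v : F4, v * v * 1 + v * v * (1 * 1) = 0 := by decide
    rw [h6, E.ce.f_zero, mul_one]

theorem sylC_x02 [Finite M] (hker : π.ker = center M) (h16 : Nat.card (center M) = 16)
    (hO : Nat.card (omega M) ≤ 4) : SylC M (E.ce.x 0 2 1) := by
  have hmem : ∀ k : M, π k = 1 ↔ k ∈ center M := by
    intro k
    rw [← hker]
    exact Iff.rfl
  have hf : ∀ s, E.ce.f s = 1 → s = 0 := fun s hs => E.f_inj hker h16 hO hs
  have hcard : Nat.card (centralizer ({E.ce.x 0 2 1} : Set M)) = 256 := by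
    have e1 : Nat.card (centralizer ({E.ce.x 0 2 1} : Set M)) = Nat.card (F4 × F4 × center M) := by
      symm
      apply Nat.card_congr
      refine Equiv.ofBijective (fun p => ⟨E.ce.nf (p.1 * p.1) p.1 p.2.1 p.2.2.1, ?_⟩) ⟨?_, ?_⟩
      · rw [mem_cz, E.mem_cent_x02 hf]
        exact ⟨_, _, _, (hmem _).mpr p.2.2.2, rfl⟩
      · rintro ⟨v, c, k⟩ ⟨v', c', k'⟩ h
        have h1 := congrArg Subtype.val h
        obtain ⟨-, h2, h3, h4⟩ := E.ce.nf_inj ((hmem _).mpr k.2) ((hmem _).mpr k'.2) h1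
        simp only [Prod.mk.injEq]
        exact ⟨h2, h3, Subtype.ext h4⟩
      · rintro ⟨m, hm⟩
        obtain ⟨v, c, k, hk, rfl⟩ := (E.mem_cent_x02 hf).mp (mem_cz.mp hm)
        exact ⟨(v, c, ⟨k, (hmem _).mp hk⟩), rfl⟩
    rw [e1, Nat.card_prod, Nat.card_prod, h16]
    have h4 : Nat.card F4 = 4 := by rw [Nat.card_eq_fintype_card]; rfl
    rw [h4]
  -- elements with trivial commutators
  have key : ∀ (v c : F4) (k : M), π k = 1 →
      (∀ c' : F4, E.ce.f (v * v * c' + v * v * (c' * c')) = 1) →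
      (∀ v' : F4, v = 0 → E.ce.f (v' * v' * c + v' * v' * (c * c)) = 1) →
      E.ce.nf (v * v) v c k ∈ center M ∨ E.ce.nf (v * v) v c k * E.ce.x 0 2 1 ∈ center M := by
    intro v c k hk h1 h2
    have h3 := hf _ (h1 ω)
    have h4 : ∀ v : F4, v * v * ω + v * v * (ω * ω) = 0 → v = 0 := by decide
    have hv := h4 v h3
    subst hv
    have h5 := hf _ (h2 1 rfl)
    have h6 : ∀ c : F4, 1 * 1 * c + 1 * 1 * (c * c) = 0 → c = 0 ∨ c = 1 := by decide
    have e1 : ∀ c, E.ce.nf (0 * 0) 0 c k = E.ce.x 0 2 c * k := by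
      intro c
      unfold CE.nf
      rw [mul_zero, E.ce.x_zero 0 1 (by decide), E.ce.x_zero 1 2 (by decide)]
      group
    rcases h6 c h5 with rfl | rfl
    · left
      rw [e1, E.ce.x_zero 0 2 (by decide), one_mul]
      exact (hmem k).mp hk
    · right
      rw [e1, mul_assoc, E.ce.cen k hk, ← mul_assoc, E.ce.x_sq 0 2 (by decide), one_mul]
      exact (hmem k).mp hk
  -- commutators
  have comm1 : ∀ (v c : F4) (k : M), π k = 1 → ∀ c' : F4,
      E.ce.nf (v * v) v c k * E.ce.x 0 2 c' * (E.ce.nf (v * v) v c k)⁻¹ * (E.ce.x 0 2 c')⁻¹ =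
        E.ce.f (v * v * c' + v * v * (c' * c')) := by
    intro v c k hk c'
    rw [E.ce.nf_comm02 _ _ _ _ hk]
    have h1 := E.ce.f_cen (v * v * c' + v * v * (c' * c'))
    set n := E.ce.nf (v * v) v c k
    set x := E.ce.x 0 2 c'
    set ff := E.ce.f (v * v * c' + v * v * (c' * c'))
    calc x * n * ff * n⁻¹ * x⁻¹ = x * n * (ff * n⁻¹) * x⁻¹ := by group
      _ = x * (ff * x⁻¹) := by rw [h1]; group
      _ = ff := by rw [h1]; group
  have hx02 : ∀ c' : F4, E.ce.x 0 2 c' ∈ centralizer ({E.ce.x 0 2 1} : Set M) := by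
    intro c'
    rw [mem_cz, E.ce.x_add 0 2 (by decide), E.ce.x_add 0 2 (by decide), add_comm]
  have hnfm : ∀ (v c : F4) (k : M), π k = 1 →
      E.ce.nf (v * v) v c k ∈ centralizer ({E.ce.x 0 2 1} : Set M) := by
    intro v c k hk
    rw [mem_cz, E.mem_cent_x02 hf]
    exact ⟨v, c, k, hk, rfl⟩
  have comm2 : ∀ (c : F4) (k : M), π k = 1 → ∀ v' : F4,
      E.ce.nf (v' * v') v' 0 1 * (E.ce.x 0 2 c * k) * (E.ce.nf (v' * v') v' 0 1)⁻¹ *
        (E.ce.x 0 2 c * k)⁻¹ = E.ce.f (v' * v' * c + v' * v' * (c * c)) := by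
    intro c k hk v'
    rw [← comm1 v' 0 1 (map_one π) c]
    have h1 := E.ce.cen k hk
    set n := E.ce.nf (v' * v') v' 0 1
    set x := E.ce.x 0 2 c
    calc n * (x * k) * n⁻¹ * (x * k)⁻¹ = n * x * (k * n⁻¹) * k⁻¹ * x⁻¹ := by group
      _ = n * x * n⁻¹ * x⁻¹ := by rw [h1]; group
  have hom : ∀ s, E.ce.f s ∈ omega M := fun s => ⟨(hmem _).mp (E.ce.f_map s), E.ce.f_sq s⟩
  have small' : ∀ N : Subgroup M, N ≤ centralizer ({E.ce.x 0 2 1} : Set M) →
      (∀ s ∈ centralizer ({E.ce.x 0 2 1} : Set M), ∀ n ∈ N, s * n * s⁻¹ ∈ N) → N ⊓ omega M = ⊥ →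
      ∀ n ∈ N, n ∈ center M ∨ n * E.ce.x 0 2 1 ∈ center M := by
    intro N hN hn h0 n hnN
    obtain ⟨v, c, k, hk, rfl⟩ := (E.mem_cent_x02 hf).mp (mem_cz.mp (hN hnN))
    have hb : ∀ s, E.ce.f s ∈ N → E.ce.f s = 1 := by
      intro s hs
      have : E.ce.f s ∈ N ⊓ omega M := ⟨hs, hom s⟩
      rwa [h0, mem_bot] at this
    have h1 : ∀ c' : F4, E.ce.f (v * v * c' + v * v * (c' * c')) = 1 := by
      intro c'
      apply hb
      rw [← comm1 v c k hk c']
      have h2 := hn _ (hx02 c') _ (inv_mem hnN)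
      have h3 := mul_mem hnN h2
      have e : E.ce.nf (v * v) v c k * (E.ce.x 0 2 c' * (E.ce.nf (v * v) v c k)⁻¹ *
          (E.ce.x 0 2 c')⁻¹) = E.ce.nf (v * v) v c k * E.ce.x 0 2 c' * (E.ce.nf (v * v) v c k)⁻¹ *
          (E.ce.x 0 2 c')⁻¹ := by group
      rwa [e] at h3
    refine key v c k hk h1 ?_
    intro v' hv
    subst hv
    apply hb
    have e1 : E.ce.nf (0 * 0) 0 c k = E.ce.x 0 2 c * k := by
      unfold CE.nf
      rw [mul_zero, E.ce.x_zero 0 1 (by decide), E.ce.x_zero 1 2 (by decide)]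
      group
    rw [e1] at hnN
    rw [← comm2 c k hk v']
    exact mul_mem (hn _ (hnfm v' 0 1 (map_one π)) _ hnN) (inv_mem hnN)
  refine ⟨?_, hcard, ?_, ?_, small'⟩
  · exact IsPGroup.of_card (n := 8) (by rw [hcard]; norm_num)
  · intro x hx hy
    obtain ⟨v, c, k, hk, rfl⟩ := (E.mem_cent_x02 hf).mp (mem_cz.mp hx)
    refine key v c k hk ?_ ?_
    · intro c'
      rw [← comm1 v c k hk c', hy _ (hx02 c')]
      group
    · intro v' hv
      subst hv
      have e1 : E.ce.nf (0 * 0) 0 c k = E.ce.x 0 2 c * k := by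
        unfold CE.nf
        rw [mul_zero, E.ce.x_zero 0 1 (by decide), E.ce.x_zero 1 2 (by decide)]
        group
      rw [← comm2 c k hk v', ← e1, ← hy _ (hnfm v' 0 1 (map_one π))]
      group
  · intro N hN hn h0
    have h1 := small' N hN hn h0
    have hN4 : ∀ z ∈ N, z ∈ center M → z = 1 := by
      intro z hz hzc
      have h4 := E.four z ((hmem z).mpr hzc)
      have h2 : z * z ∈ N ⊓ omega M := by
        refine ⟨mul_mem hz hz, mul_mem hzc hzc, ?_⟩
        calc z * z * (z * z) = z ^ 4 := by simp only [pow_succ, pow_zero, one_mul, mul_assoc]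
          _ = 1 := h4
      rw [h0, mem_bot] at h2
      have h3 : z ∈ N ⊓ omega M := ⟨hz, hzc, h2⟩
      rwa [h0, mem_bot] at h3
    classical
    have hinj : Function.Injective (fun n : N => (decide (n.1 ∈ center M) : Bool)) := by
      intro x y hxy
      have h5 : (x.1 ∈ center M) ↔ (y.1 ∈ center M) := decide_eq_decide.mp hxy
      apply Subtype.ext
      by_cases hx : x.1 ∈ center M
      · rw [hN4 _ x.2 hx, hN4 _ y.2 (h5.mp hx)]
      · have hx' := (h1 x.1 x.2).resolve_left hx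
        have hy' := (h1 y.1 y.2).resolve_left (fun h => hx (h5.mpr h))
        have h6 : x.1 * (y.1)⁻¹ ∈ center M := by
          have := mul_mem hx' (inv_mem hy')
          have e : x.1 * E.ce.x 0 2 1 * (y.1 * E.ce.x 0 2 1)⁻¹ = x.1 * (y.1)⁻¹ := by group
          rwa [e] at this
        have h7 := hN4 _ (mul_mem x.2 (inv_mem y.2)) h6
        exact mul_inv_eq_one.mp h7
    have h8 := Nat.card_le_card_of_injective _ hinj
    rwa [Nat.card_eq_fintype_card (α := Bool)] at h8

theorem sylC [Finite M] (hker : π.ker = center M) (h16 : Nat.card (center M) = 16)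
    (hO : Nat.card (omega M) ≤ 4) {t : M} (ht : t ∉ center M) (ht2 : t * t ∈ center M) :
    SylC M t := by
  have hmem : ∀ k : M, π k = 1 ↔ k ∈ center M := by
    intro k
    rw [← hker]
    exact Iff.rfl
  obtain ⟨g, hg⟩ := datPSL.invol_conj (π t) (fun h => ht ((hmem t).mp h)) (by
    rw [← map_mul]; exact (hmem _).mpr ht2)
  obtain ⟨k, rfl⟩ := E.ce.surj g
  have h1 : π (E.ce.x 0 2 1) = π (k * t * k⁻¹) := by
    rw [map_mul, map_mul, map_inv, hg, E.ce.map_x 0 2 (by decide)]
    rfl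
  obtain ⟨z, hz, hz2⟩ := CE.eq_mul_of_map_eq h1
  have h2 := (E.sylC_x02 hker h16 hO).mulc ((hmem z).mp hz)
  rw [← hz2] at h2
  have h3 := h2.map (MulAut.conj k)⁻¹
  have h4 : (MulAut.conj k)⁻¹ (k * t * k⁻¹) = t := by
    rw [← map_inv, MulAut.conj_apply]; group
  rwa [h4] at h3

end Ext

/-- **(K5)** -/
theorem sylC {K : Type*} [Group K] [Finite K] (hperf : commutator K = ⊤)
    (h2 : IsPGroup 2 (center K)) {F : Type*} [Field F] [Fintype F] (hF : Fintype.card F = 4)
    (e : K ⧸ center K ≃* Matrix.ProjectiveSpecialLinearGroup (Fin 3) F)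
    (h16 : Nat.card (center K) = 16) {t : K} (ht : t ∉ center K) (ht2 : t * t ∈ center K) :
    SylC K t := by
  obtain ⟨π, b, E, hker⟩ := exists_ext hperf h2 hF e
  exact E.sylC hker h16 (card_omega_le hperf h2 hF e) ht ht2

end Cfsg.Agent.UGT.Cov
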