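import Cfsg.Agent.UGT.Cov.KleinK
import Cfsg.Agent.LThreeFour.Outer
import Cfsg.Agent.Lib.Cores
import Cfsg.Prelude.Def_CaseTheorems
import Mathlib.GroupTheory.Transfer

/-!
# UGT N1 (I34) [C]: the 3-part of the centre of a cover of `L₃(4)`

`K` perfect, `K / O(K)` of type `2².L₃(4)`, `O(K) ≤ Z(K)`; an automorphism `α` of `K` fixing an involution of `Z(K)` and
moving another one (type `f` or `g`) inverts the elements of order 3 of `Z(K)`.

Proof: the elements `h = diag(1, ω, ω²)` and `r` (a permutation matrix of order 3) of `PSL(3,4)` commute; lifts `h'`, `r'`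
to `K` have `⁅h', r'⁆ = ζ ∈ Z(K)`, and the 3-part of `Z(K)` is generated by `ζ` (transfer). A pure automorphism maps
`h` to `h` or `h⁻¹` and `r` to `r h ^ k` or `r⁻¹ h ^ k`.
-/

set_option autoImplicit false
set_option linter.constructorNameAsVariable false
set_option linter.unusedVariables false

namespace Cfsg.Agent.UGT.Cov.ThreeInv

open Cfsg Subgroup
open Cfsg.Agent.Lib
open Cfsg.Agent.SporadicA.FieldFour
open Cfsg.Agent.ONType.Psl
open Cfsg.Agent.ONType.OuterL (rv rv_ne rv_rv)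
open Cfsg.Agent.LThreeFour (Ty imgx pu datPSL fr ty1)
open Cfsg.Agent.UGT.Cov (gp)
open scoped commutatorElement

/-! ### matrices -/

theorem mk_eq_of_scalar {a b : SL3} {r : F4}
    (h : (b : Matrix (Fin 3) (Fin 3) F4) = (a : Matrix (Fin 3) (Fin 3) F4) * Matrix.scalar (Fin 3) r) :
    (QuotientGroup.mk a : PSL3) = QuotientGroup.mk b := by
  rw [QuotientGroup.eq]
  apply scalar_mem _ r
  show (a⁻¹ * b : SL3).1 = _
  have h1 : (a⁻¹ * b : SL3).1 = (a⁻¹ : SL3).1 * ((a : SL3).1 * Matrix.scalar (Fin 3) r) := by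
    rw [← h]; rfl
  rw [h1, ← mul_assoc]
  have h2 : (a⁻¹ : SL3).1 * (a : SL3).1 = 1 := congrArg Subtype.val (inv_mul_cancel a)
  rw [h2, one_mul]

/-- the element `r` of order 3 -/
def rr : PSL3 := nn 0 1 * nn 1 2

/-- `r` as a matrix -/
def R : SL3 := N 0 1 * N 1 2

theorem R_pow : R ^ 3 = 1 := by
  apply Subtype.ext
  show ((tm 0 1 1 * tm 1 0 1 * tm 0 1 1) * (tm 1 2 1 * tm 2 1 1 * tm 1 2 1)) ^ 3 = 1
  rw [pow_three]
  decide +kernel

theorem rr_pow : rr ^ 3 = 1 := congrArg (QuotientGroup.mk : SL3 → PSL3) R_pow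

theorem hh_rr : hh * rr = rr * hh := by
  have h1 := hnh 0 1 (by decide)
  have h2 := hnh 1 2 (by decide)
  have h3 : hh * nn 0 1 = nn 0 1 * hh⁻¹ := by
    rw [eq_mul_inv_iff_mul_eq]; exact h1
  have h4 : hh⁻¹ * nn 1 2 = nn 1 2 * hh := by
    rw [inv_mul_eq_iff_eq_mul, ← mul_assoc]; exact h2.symm
  unfold rr
  rw [← mul_assoc, h3, mul_assoc, h4, mul_assoc]

/-- image of a root element under a pure type, as a matrix -/
def im (τ : Ty) (i j : Fin 3) : Matrix (Fin 3) (Fin 3) F4 :=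
  if τ.2.1 then tm (rv j) (rv i) (pu τ i j 1) else tm i j (pu τ i j 1)

/-- image of a root element under a pure type, in `SL` -/
def iS (τ : Ty) (i j : Fin 3) : SL3 :=
  if τ.2.1 then T (rv j) (rv i) (pu τ i j 1) else T i j (pu τ i j 1)

theorem iS_val (τ : Ty) (i j : Fin 3) : ((iS τ i j : SL3) : Matrix (Fin 3) (Fin 3) F4) = im τ i j := by
  unfold iS im
  split <;> rfl

theorem mk_iS (τ : Ty) (i j : Fin 3) : (QuotientGroup.mk (iS τ i j) : PSL3) = imgx t τ i j 1 := by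
  unfold iS imgx t
  split <;> rfl

/-- powers of `H` -/
def Hk (k : Fin 3) : Matrix (Fin 3) (Fin 3) F4 := if k = 0 then 1 else if k = 1 then hm else hm * hm

/-- powers of `H` -/
def HS (k : Fin 3) : SL3 := if k = 0 then 1 else if k = 1 then H else H * H

theorem HS_val (k : Fin 3) : ((HS k : SL3) : Matrix (Fin 3) (Fin 3) F4) = Hk k := by
  unfold HS Hk
  split_ifs <;> rfl

theorem mk_HS (k : Fin 3) : (QuotientGroup.mk (HS k) : PSL3) = hh ^ (k : ℕ) := by
  fin_cases k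
  · rfl
  · exact (pow_one hh).symm
  · exact (pow_two hh).symm

/-- the matrix of `R` or of its inverse -/
def Rm (e : Bool) : Matrix (Fin 3) (Fin 3) F4 :=
  if e then (tm 1 2 1 * tm 2 1 1 * tm 1 2 1) * (tm 0 1 1 * tm 1 0 1 * tm 0 1 1)
  else (tm 0 1 1 * tm 1 0 1 * tm 0 1 1) * (tm 1 2 1 * tm 2 1 1 * tm 1 2 1)

theorem R_inv : R⁻¹ = N 1 2 * N 0 1 := by
  apply inv_eq_of_mul_eq_one_left
  apply Subtype.ext
  show (tm 1 2 1 * tm 2 1 1 * tm 1 2 1) * (tm 0 1 1 * tm 1 0 1 * tm 0 1 1) *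
    ((tm 0 1 1 * tm 1 0 1 * tm 0 1 1) * (tm 1 2 1 * tm 2 1 1 * tm 1 2 1)) = 1
  decide +kernel

set_option maxRecDepth 100000 in
theorem rimg_eq : ∀ τ : Ty, ∃ k : Fin 3, ∃ r : F4,
    Rm τ.2.1 * Hk k = im τ 0 1 * im τ 1 0 * im τ 0 1 * (im τ 1 2 * im τ 2 1 * im τ 1 2) *
      Matrix.diagonal (fun _ => r) := by
  decide +kernel

/-- **the image of `r` under a pure automorphism** -/
theorem tau_rr {τ : Ty} {β : MulAut PSL3} (h : datPSL.IsTau τ β) :
    ∃ k : ℕ, β rr = (if τ.2.1 then rr⁻¹ else rr) * hh ^ k := by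
  obtain ⟨k, r, hk⟩ := rimg_eq τ
  refine ⟨k, ?_⟩
  have h1 : β rr = (QuotientGroup.mk (iS τ 0 1 * iS τ 1 0 * iS τ 0 1 * (iS τ 1 2 * iS τ 2 1 * iS τ 1 2)) :
      PSL3) := by
    have e : ∀ i j, i ≠ j → β (t i j 1) = (QuotientGroup.mk (iS τ i j) : PSL3) := by
      intro i j hij
      rw [mk_iS]
      exact h i j hij 1
    unfold rr nn
    simp only [map_mul]
    rw [e 0 1 (by decide), e 1 0 (by decide), e 1 2 (by decide), e 2 1 (by decide)]
    rfl
  rw [h1]
  have h2 : (if τ.2.1 then rr⁻¹ else rr) * hh ^ (k : ℕ) =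
      (QuotientGroup.mk ((if τ.2.1 then R⁻¹ else R) * HS k) : PSL3) := by
    rw [← mk_HS]
    split <;> rfl
  rw [h2]
  apply mk_eq_of_scalar (r := r)
  rw [Matrix.SpecialLinearGroup.coe_mul, HS_val]
  have h3 : ((if τ.2.1 then R⁻¹ else R : SL3) : Matrix (Fin 3) (Fin 3) F4) = Rm τ.2.1 := by
    unfold Rm
    split
    · rw [R_inv]; rfl
    · rfl
  rw [h3, hk]
  simp only [Matrix.SpecialLinearGroup.coe_mul, iS_val]
  rfl

theorem h_inv_mat : ∃ r : F4, tm 0 2 (fr true (kap 0 2)) * tm 2 0 (fr true (kap 2 0)) *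
    tm 0 2 (fr true (kap 0 2)) * (tm 0 2 1 * tm 2 0 1 * tm 0 2 1) * hm = Matrix.diagonal (fun _ => r) := by
  decide +kernel

/-- the image of `h` under a pure automorphism -/
theorem tau_hh {τ : Ty} {β : MulAut PSL3} (h : datPSL.IsTau τ β) :
    β hh = if τ.1 then hh⁻¹ else hh := by
  split
  · next hτ =>
    rw [eq_inv_iff_mul_eq_one]
    have h0 := datPSL.h_eq 0 2 (by decide)
    have h1 : ∀ u, β (t 0 2 u) = t 0 2 (fr true u) := fun u => by
      have := h.x02 u
      rw [hτ] at this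
      exact this
    have h2 : ∀ u, β (t 2 0 u) = t 2 0 (fr true u) := fun u => by
      have := h.x20 u
      rw [hτ] at this
      exact this
    have h3 : t 0 2 (kap 0 2) * t 2 0 (kap 2 0) * t 0 2 (kap 0 2) * (t 0 2 1 * t 2 0 1 * t 0 2 1) = hh := h0
    have h4 : fr true (1 : F4) = 1 := by decide
    rw [← h3]
    simp only [map_mul, h1, h2, h4]
    rw [h3]
    obtain ⟨r, hr⟩ := h_inv_mat
    rw [← QuotientGroup.mk_one]
    symm
    apply mk_eq_of_scalar (r := r)
      (b := T 0 2 (fr true (kap 0 2)) * T 2 0 (fr true (kap 2 0)) * T 0 2 (fr true (kap 0 2)) *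
        (T 0 2 1 * T 2 0 1 * T 0 2 1) * H)
    rw [Matrix.SpecialLinearGroup.coe_one, one_mul]
    exact hr
  · next hτ =>
    exact h.h (by simpa using hτ)

/-! ### commutators modulo the centre -/

section comm

variable {K : Type*} [Group K]

/-- `⁅x z, y⁆ = ⁅x, y⁆` for central `z` -/
theorem comm_mul_left {x y z : K} (hz : z ∈ center K) : ⁅x * z, y⁆ = ⁅x, y⁆ := by
  rw [mem_center_iff] at hz
  rw [commutatorElement_def, commutatorElement_def, mul_inv_rev]
  calc x * z * y * (z⁻¹ * x⁻¹) * y⁻¹ = x * (z * y) * z⁻¹ * x⁻¹ * y⁻¹ := by group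
    _ = x * (y * z) * z⁻¹ * x⁻¹ * y⁻¹ := by rw [hz y]
    _ = _ := by group

theorem comm_mul_right {x y z : K} (hz : z ∈ center K) : ⁅x, y * z⁆ = ⁅x, y⁆ := by
  have h := comm_mul_left (x := y) (y := x) hz
  rw [← commutatorElement_inv x y, ← commutatorElement_inv x (y * z), inv_inj] at h
  exact h

/-- `⁅x⁻¹, y⁆ = ⁅x, y⁆⁻¹` if `⁅x, y⁆` is central -/
theorem comm_inv_left {x y : K} (hz : ⁅x, y⁆ ∈ center K) : ⁅x⁻¹, y⁆ = ⁅x, y⁆⁻¹ := by
  rw [mem_center_iff] at hz
  have h := hz x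
  rw [eq_inv_iff_mul_eq_one]
  have h1 : ⁅x⁻¹, y⁆ = x⁻¹ * ⁅x, y⁆⁻¹ * x := by
    rw [commutatorElement_def, commutatorElement_def]; group
  rw [h1]
  have h2 : x * ⁅x, y⁆ = ⁅x, y⁆ * x := h
  calc x⁻¹ * ⁅x, y⁆⁻¹ * x * ⁅x, y⁆ = x⁻¹ * ⁅x, y⁆⁻¹ * (x * ⁅x, y⁆) := by group
    _ = x⁻¹ * ⁅x, y⁆⁻¹ * (⁅x, y⁆ * x) := by rw [h2]
    _ = 1 := by group

theorem comm_inv_right {x y : K} (hz : ⁅x, y⁆ ∈ center K) : ⁅x, y⁻¹⁆ = ⁅x, y⁆⁻¹ := by
  have h1 : ⁅y, x⁆ ∈ center K := by rw [← commutatorElement_inv x y]; exact inv_mem hz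
  have h := comm_inv_left h1
  rw [← commutatorElement_inv x y, inv_inv, ← commutatorElement_inv x y⁻¹, inv_eq_iff_eq_inv] at h
  exact h

theorem comm_mul_of_comm {x y w : K} (hw : Commute x w) : ⁅x, y * w⁆ = ⁅x, y⁆ := by
  rw [commutatorElement_def, commutatorElement_def, mul_inv_rev]
  have h : w * x⁻¹ = x⁻¹ * w := hw.inv_left.eq.symm
  calc x * (y * w) * x⁻¹ * (w⁻¹ * y⁻¹) = x * y * (w * x⁻¹) * w⁻¹ * y⁻¹ := by group
    _ = x * y * (x⁻¹ * w) * w⁻¹ * y⁻¹ := by rw [h]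
    _ = _ := by group

end comm

/-! ### the 3-part of the centre -/

theorem R_ne_mat : ∀ k : Fin 3,
    (tm 1 2 1 * tm 2 1 1 * tm 1 2 1) * (tm 0 1 1 * tm 1 0 1 * tm 0 1 1) * Hk k * tm 0 1 1 ≠
    tm 0 1 1 * ((tm 1 2 1 * tm 2 1 1 * tm 1 2 1) * (tm 0 1 1 * tm 1 0 1 * tm 0 1 1) * Hk k) := by
  decide +kernel

theorem rr_ne (k : Fin 3) : rr ≠ hh ^ (k : ℕ) := by
  intro h
  rw [← mk_HS] at h
  have h1 : (QuotientGroup.mk R : PSL3) = QuotientGroup.mk (HS k) := h
  rw [QuotientGroup.eq, mem_center_iff] at h1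
  have h2 := congrArg (fun x : SL3 => (x : Matrix (Fin 3) (Fin 3) F4)) (h1 (T 0 1 1))
  rw [R_inv] at h2
  apply R_ne_mat k
  have e1 : ((T 0 1 1 * (N 1 2 * N 0 1 * HS k) : SL3) : Matrix (Fin 3) (Fin 3) F4) =
      tm 0 1 1 * ((tm 1 2 1 * tm 2 1 1 * tm 1 2 1) * (tm 0 1 1 * tm 1 0 1 * tm 0 1 1) * Hk k) := by
    rw [Matrix.SpecialLinearGroup.coe_mul, Matrix.SpecialLinearGroup.coe_mul, HS_val]
    rfl
  have e2 : ((N 1 2 * N 0 1 * HS k * T 0 1 1 : SL3) : Matrix (Fin 3) (Fin 3) F4) =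
      (tm 1 2 1 * tm 2 1 1 * tm 1 2 1) * (tm 0 1 1 * tm 1 0 1 * tm 0 1 1) * Hk k * tm 0 1 1 := by
    rw [Matrix.SpecialLinearGroup.coe_mul, Matrix.SpecialLinearGroup.coe_mul, HS_val]
    rfl
  rw [← e1, ← e2]
  exact h2.symm

theorem hh_ne_one : hh ≠ 1 := by
  intro h
  have h1 := t_h 0 1 1 (by decide)
  rw [h, mul_one, one_mul, mul_one] at h1
  have h2 := datPSL.inj (p := ⟨1, 0, 0⟩) (q := ⟨kap 0 1, 0, 0⟩)
    (by rw [datPSL.el_x01, datPSL.el_x01]; exact h1)
  exact absurd h2 (by decide)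

theorem rr_not_mem : rr ∉ zpowers hh := by
  intro h
  obtain ⟨n, hn⟩ := mem_zpowers_iff.mp h
  have h1 : hh ^ n = hh ^ ((n % 3).toNat) := by
    have h2 : n = 3 * (n / 3) + (n % 3) := (Int.mul_ediv_add_emod n 3).symm
    have h3 : ((n % 3).toNat : ℤ) = n % 3 := Int.toNat_of_nonneg (Int.emod_nonneg n (by norm_num))
    have h5 : hh ^ (3 : ℤ) = 1 := by exact_mod_cast hh_pow
    conv_lhs => rw [h2, zpow_add, zpow_mul, h5, one_zpow, one_mul, ← h3, zpow_natCast]
  have h4 : (n % 3).toNat < 3 := by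
    have := Int.emod_lt_of_pos n (show (0 : ℤ) < 3 by norm_num)
    omega
  exact rr_ne ⟨_, h4⟩ (hn.symm.trans h1)

/-- the abelian group `⟨h, r⟩` of order 9 -/
def B : Subgroup PSL3 := closure {hh, rr}

theorem B_gen_comm : ∀ x ∈ ({hh, rr} : Set PSL3), ∀ y ∈ ({hh, rr} : Set PSL3), x * y = y * x := by
  rintro x (rfl | rfl) y (rfl | rfl)
  · rfl
  · exact hh_rr
  · exact hh_rr.symm
  · rfl

theorem B_pow {x : PSL3} (hx : x ∈ B) : x ^ 3 = 1 := by
  have hc : ∀ x ∈ B, ∀ y ∈ B, x * y = y * x := fun x hx y hy => by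
    have := isMulCommutative_closure B_gen_comm
    exact setLike_mul_comm (s := closure {hh, rr}) hx hy
  induction hx using closure_induction with
  | mem x hx =>
    rcases hx with rfl | rfl
    · exact hh_pow
    · exact rr_pow
  | one => exact one_pow 3
  | mul x y hx hy h1 h2 =>
    rw [(show Commute x y from hc x hx y hy).mul_pow, h1, h2, one_mul]
  | inv x hx h => rw [inv_pow, h, inv_one]

theorem nine_dvd : 9 ∣ Nat.card B := by
  have h3 : Fact (Nat.Prime 3) := ⟨Nat.prime_three⟩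
  have hp : IsPGroup 3 B := fun ⟨x, hx⟩ => ⟨1, Subtype.ext (by rw [pow_one]; exact B_pow hx)⟩
  have hfin : Finite B := inferInstance
  obtain ⟨n, hn⟩ := IsPGroup.iff_card.mp hp
  have h1 : zpowers hh ≤ B := by
    rw [zpowers_le]
    exact subset_closure (Or.inl rfl)
  have h2 : Nat.card (zpowers hh) = 3 := by
    rw [Nat.card_zpowers]
    exact orderOf_eq_prime hh_pow hh_ne_one
  have h4 : zpowers hh ≠ B := by
    intro h
    apply rr_not_mem
    rw [h]
    exact subset_closure (Or.inr rfl)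
  have h5 : Nat.card (zpowers hh) ≠ Nat.card B := fun h => h4 (eq_of_le_of_card_ge h1 h.ge)
  rw [h2, hn] at h5
  have h6 : Nat.card (zpowers hh) ∣ Nat.card B := card_dvd_of_le h1
  rw [h2, hn] at h6
  rcases n with _ | _ | n
  · norm_num at h6
  · exact absurd rfl h5
  · rw [hn, pow_succ, pow_succ, mul_assoc]
    exact dvd_mul_left _ _

theorem B_index : ¬ 3 ∣ B.index := by
  intro h
  have h1 := card_mul_index B
  rw [datPSL.card] at h1
  obtain ⟨a, ha⟩ := nine_dvd
  obtain ⟨b, hb⟩ := h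
  rw [ha, hb] at h1
  have h2 : 27 * (a * b) = 20160 := by rw [← h1]; ring
  omega

/-- **the elements of order 3 of the kernel are powers of `⁅h', r'⁆`** -/
theorem mem_zpowers_of_three {K : Type*} [Group K] [Finite K] (hperf : commutator K = ⊤) {π : K →* PSL3}
    (hπ : Function.Surjective π) (hker : π.ker ≤ center K) {h' r' : K} (hh' : π h' = hh) (hr' : π r' = rr)
    {o : K} (ho : o ∈ π.ker) (ho3 : o ^ 3 = 1) : o ∈ zpowers ⁅h', r'⁆ := by
  have hζker : ⁅h', r'⁆ ∈ π.ker := by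
    rw [MonoidHom.mem_ker, map_commutatorElement, hh', hr', commutatorElement_eq_one_iff_mul_comm]
    exact hh_rr
  obtain ⟨ζ, hζ⟩ : ∃ ζ, ζ = ⁅h', r'⁆ := ⟨_, rfl⟩
  rw [← hζ] at hζker ⊢
  have hζc : ζ ∈ center K := hker hζker
  obtain ⟨Z, hZ⟩ : ∃ Z : Subgroup K, Z = zpowers ζ := ⟨_, rfl⟩
  have hZc : Z ≤ center K := by rw [hZ, zpowers_le]; exact hζc
  have hZn : Z.Normal := by
    constructor
    intro z hz g
    rw [(mem_center_iff.mp (hZc hz) g), mul_inv_cancel_right]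
    exact hz
  rw [← hZ]
  let q : K →* K ⧸ Z := QuotientGroup.mk' Z
  have hq : Function.Surjective q := QuotientGroup.mk'_surjective Z
  -- the abelian subgroup
  obtain ⟨S, hS⟩ : ∃ S : Set (K ⧸ Z), S = {q h', q r'} ∪ (q '' (π.ker : Set K)) := ⟨_, rfl⟩
  have hcc : ∀ k ∈ π.ker, ∀ y, q k * y = y * q k := by
    intro k hk y
    obtain ⟨y, rfl⟩ := hq y
    rw [← map_mul, ← map_mul, mem_center_iff.mp (hker hk) y]
  have hhr : q h' * q r' = q r' * q h' := by
    rw [← commutatorElement_eq_one_iff_mul_comm, ← map_commutatorElement, ← hζ]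
    exact (QuotientGroup.eq_one_iff ζ).mpr (by rw [hZ]; exact mem_zpowers ζ)
  have hcomm : ∀ x ∈ S, ∀ y ∈ S, x * y = y * x := by
    rw [hS]
    rintro x (hx | ⟨k, hk, rfl⟩) y (hy | ⟨k', hk', rfl⟩)
    · rcases hx with rfl | rfl <;> rcases hy with rfl | rfl
      · rfl
      · exact hhr
      · exact hhr.symm
      · rfl
    · exact (hcc k' hk' x).symm
    · exact hcc k hk y
    · exact hcc k hk _
  obtain ⟨A, hA⟩ : ∃ A : Subgroup (K ⧸ Z), A = closure S := ⟨_, rfl⟩
  have hAc : IsMulCommutative A := by rw [hA]; exact isMulCommutative_closure hcomm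
  -- its index
  have hidx : ¬ 3 ∣ A.index := by
    intro h
    apply B_index
    refine h.trans ?_
    rw [← index_comap_of_surjective B hπ, ← index_comap_of_surjective A hq]
    apply index_dvd_of_le
    -- `π⁻¹(B) ≤ q⁻¹(A)`
    have hkA : π.ker ≤ A.comap q := by
      intro k hk
      rw [mem_comap, hA]
      exact subset_closure (by rw [hS]; exact Or.inr ⟨k, hk, rfl⟩)
    have hBA : B ≤ (A.comap q).map π := by
      unfold B
      rw [closure_le]
      rintro x (rfl | rfl)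
      · refine ⟨h', ?_, hh'⟩
        rw [SetLike.mem_coe, mem_comap, hA]
        exact subset_closure (by rw [hS]; exact Or.inl (Or.inl rfl))
      · refine ⟨r', ?_, hr'⟩
        rw [SetLike.mem_coe, mem_comap, hA]
        exact subset_closure (by rw [hS]; exact Or.inl (Or.inr rfl))
    calc B.comap π ≤ ((A.comap q).map π).comap π := comap_mono hBA
      _ = A.comap q ⊔ π.ker := comap_map_eq _ _
      _ ≤ A.comap q := sup_le le_rfl hkA
  -- the transfer
  have hAn : ∀ x y : A, x * y = y * x := fun x y => Subtype.ext (setLike_mul_comm x.2 y.2)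
  let _ : CommGroup A := { (inferInstance : Group A) with mul_comm := hAn }
  let V : (K ⧸ Z) →* A := MonoidHom.transfer (MonoidHom.id A)
  have hV : ∀ g, V g = 1 := by
    intro g
    have h1 : commutator (K ⧸ Z) = ⊤ := by
      have h2 : (commutator K).map q = commutator (K ⧸ Z) := by
        rw [_root_.map_commutator_eq, MonoidHom.range_eq_top.2 hq]
        rfl
      rw [← h2, hperf, Subgroup.map_top_of_surjective _ hq]
    have h3 : g ∈ commutator (K ⧸ Z) := by rw [h1]; exact mem_top g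
    have h4 : commutator (K ⧸ Z) ≤ V.ker := Abelianization.commutator_subset_ker V
    exact h4 h3
  have hoc : ∀ g₀ : K ⧸ Z, q o * g₀ = g₀ * q o := fun g₀ => hcc o ho g₀
  have h5 := MonoidHom.transfer_eq_pow (MonoidHom.id A) (q o) fun k g₀ _ => by
    rw [mul_assoc, ((show Commute (q o) g₀ from hoc g₀).pow_left k).eq, inv_mul_cancel_left]
  have h6 : (q o) ^ A.index = 1 := by
    have h7 := (hV (q o))
    change MonoidHom.transfer (MonoidHom.id A) (q o) = 1 at h7
    rw [h5] at h7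
    exact congrArg Subtype.val h7
  have h8 : (q o) ^ 3 = 1 := by rw [← map_pow, ho3, map_one]
  have h9 : orderOf (q o) ∣ 3 := orderOf_dvd_of_pow_eq_one h8
  have h10 : orderOf (q o) ∣ A.index := orderOf_dvd_of_pow_eq_one h6
  rcases (Nat.dvd_prime Nat.prime_three).mp h9 with h11 | h11
  · rw [orderOf_eq_one_iff] at h11
    exact (QuotientGroup.eq_one_iff o).mp h11
  · rw [h11] at h10
    exact absurd h10 hidx

/-! ### the main theorem -/

theorem gp_code : ∀ (τ : Ty) (s s' : F4), s ≠ 0 → gp τ s = s → gp τ s' ≠ s' → (τ.1 = !τ.2.1) := by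
  decide +kernel

/-- an element central modulo a central subgroup is central in a perfect group -/
theorem mem_center_of_quot {K : Type*} [Group K] (hperf : commutator K = ⊤) {k : K}
    (hk : ∀ y, ⁅k, y⁆ ∈ center K) : k ∈ center K := by
  have h1 : ∀ y, k * y * k⁻¹ = y * ⁅k, y⁆ := by
    intro y
    have h2 := mem_center_iff.mp (hk y) y
    rw [h2, commutatorElement_def]; group
  have h2 : commutator K ≤ centralizer {k} := by
    rw [commutator_def, commutator_le]
    intro a _ b _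
    rw [mem_centralizer_singleton_iff]
    have h3 : k * ⁅a, b⁆ * k⁻¹ = ⁅a, b⁆ := by
      have h4 : k * ⁅a, b⁆ * k⁻¹ = ⁅k * a * k⁻¹, k * b * k⁻¹⁆ := by
        rw [commutatorElement_def, commutatorElement_def]; group
      rw [h4, h1, h1, comm_mul_left (hk a), comm_mul_right (hk b)]
    rw [mul_inv_eq_iff_eq_mul] at h3
    exact h3.symm
  rw [hperf] at h2
  rw [mem_center_iff]
  intro y
  exact mem_centralizer_singleton_iff.mp (h2 (mem_top y))

/-- **An automorphism of a perfect cover of `2².L₃(4)` of type `f` or `g` inverts the 3-part of the centre.** -/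
theorem inv_of_moves {K : Type*} [Group K] [Finite K] (hperf : commutator K = ⊤) (hO : oddCore K ≤ center K)
    (hK : Klein.KleinKind (K ⧸ oddCore K)) (α : MulAut K) (h1 : ∃ z ∈ center K, z * z = 1 ∧ z ≠ 1 ∧ α z = z)
    (h2 : ∃ z ∈ center K, z * z = 1 ∧ α z ≠ z) : ∀ o ∈ center K, o ^ 3 = 1 → α o = o⁻¹ := by
  obtain ⟨A⟩ := hK.dat
  let q : K →* K ⧸ oddCore K := QuotientGroup.mk' (oddCore K)
  have hq : Function.Surjective q := QuotientGroup.mk'_surjective _
  have hqk : ∀ k, q k = 1 ↔ k ∈ oddCore K := fun k => QuotientGroup.eq_one_iff k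
  let π : K →* PSL3 := A.π.comp q
  have hπ : Function.Surjective π := A.surj.comp hq
  have hker : π.ker ≤ center K := by
    intro k hk
    apply mem_center_of_quot hperf
    intro y
    apply hO
    rw [← hqk, map_commutatorElement, commutatorElement_eq_one_iff_mul_comm]
    have h3 : q k ∈ center (K ⧸ oddCore K) := by rw [← A.ker_eq]; exact hk
    exact (mem_center_iff.mp h3 _).symm
  have hcen : ∀ k ∈ center K, q k ∈ center (K ⧸ oddCore K) := by
    intro k hk
    rw [mem_center_iff]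
    intro y
    obtain ⟨y, rfl⟩ := hq y
    rw [← map_mul, mem_center_iff.mp hk y, map_mul]
  have hker' : center K ≤ π.ker := by
    intro k hk
    have h3 := hcen k hk
    rw [← A.ker_eq] at h3
    exact h3
  -- the induced automorphism
  let α' : MulAut (K ⧸ oddCore K) := QuotientGroup.congr (oddCore K) (oddCore K) α
    (Cores.map_equiv_pPrimeCore α 2)
  have hα' : ∀ k, α' (q k) = q (α k) := fun k => rfl
  obtain ⟨l, τ, ht1, ht2, -⟩ := A.exists_type α'
  obtain ⟨l, rfl⟩ := hq l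
  have hact : ∀ s, α' (A.g s) = A.g (gp τ s) := by
    intro s
    have h3 := A.act_g ht1 s
    rw [MulAut.mul_apply, MulAut.conj_apply] at h3
    have h4 : α' (A.g s) ∈ center (K ⧸ oddCore K) := by
      rw [mem_center_iff]
      intro y
      obtain ⟨y, rfl⟩ := α'.surjective y
      rw [← map_mul, ← map_mul, A.g_cen]
    rw [mem_center_iff.mp h4, mul_inv_cancel_right] at h3
    exact h3
  have hodd : ∀ y ∈ oddCore K, y * y = 1 → y = 1 := by
    intro y hy hyy
    have h3 : Nat.Coprime (Nat.card (oddCore K)) 2 := Cores.pPrimeCore_coprime 2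
    have h4 : orderOf y ∣ Nat.card (oddCore K) := Subgroup.orderOf_dvd_natCard _ hy
    have h5 : orderOf y ∣ 2 := orderOf_dvd_of_pow_eq_one (by rw [pow_two, hyy])
    rw [← orderOf_eq_one_iff]
    exact Nat.eq_one_of_dvd_coprimes h3 h4 h5
  have hτ : τ.1 = !τ.2.1 := by
    obtain ⟨z1, hz1c, hz1, hz1n, hz1f⟩ := h1
    obtain ⟨z2, hz2c, hz2, hz2f⟩ := h2
    obtain ⟨s1, hs1⟩ := A.mem_center.mp (hcen z1 hz1c)
    obtain ⟨s2, hs2⟩ := A.mem_center.mp (hcen z2 hz2c)
    apply gp_code τ s1 s2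
    · rintro rfl
      rw [A.g_zero, hqk] at hs1
      exact hz1n (hodd z1 hs1 hz1)
    · apply A.g_inj
      rw [← hact, ← hs1, hα', hz1f]
    · intro h3
      apply hz2f
      have h4 : q (α z2) = q z2 := by rw [← hα', hs2, hact, h3]
      have h5 : z2⁻¹ * α z2 ∈ oddCore K := by
        rw [← hqk, map_mul, map_inv, h4, inv_mul_cancel]
      have h6 : z2⁻¹ = z2 := inv_eq_of_mul_eq_one_left hz2
      have h7 : (z2⁻¹ * α z2) * (z2⁻¹ * α z2) = 1 := by
        have h8 : α z2 * z2⁻¹ = z2⁻¹ * α z2 := mem_center_iff.mp (inv_mem hz2c) (α z2)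
        calc (z2⁻¹ * α z2) * (z2⁻¹ * α z2) = z2⁻¹ * (α z2 * z2⁻¹) * α z2 := by group
          _ = z2⁻¹ * z2⁻¹ * (α z2 * α z2) := by rw [h8]; group
          _ = 1 := by rw [h6, hz2, ← map_mul, hz2, map_one, one_mul]
      have h8 := hodd _ h5 h7
      rw [inv_mul_eq_one] at h8
      exact h8.symm
  -- lifts
  obtain ⟨h', hh'⟩ := hπ hh
  obtain ⟨r', hr'⟩ := hπ rr
  have hζc : ⁅h', r'⁆ ∈ center K := by
    apply hker
    rw [MonoidHom.mem_ker, map_commutatorElement, hh', hr', commutatorElement_eq_one_iff_mul_comm]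
    exact hh_rr
  obtain ⟨γ, hγ⟩ : ∃ γ : MulAut K, γ = MulAut.conj l * α := ⟨_, rfl⟩
  have hγπ : ∀ y, π (γ y) = (MulAut.conj (A.π (q l)) * A.b α') (π y) := by
    intro y
    rw [hγ, MulAut.mul_apply, MulAut.mul_apply, MulAut.conj_apply, MulAut.conj_apply, map_mul, map_mul, map_inv]
    change π l * π (α y) * (π l)⁻¹ = π l * A.b α' (A.π (q y)) * (π l)⁻¹
    rw [A.bar]
    rfl
  have hγc : ∀ z ∈ center K, γ z = α z := by
    intro z hz
    have h3 : α z ∈ center K := by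
      rw [mem_center_iff]
      intro y
      obtain ⟨y, rfl⟩ := α.surjective y
      rw [← map_mul, ← map_mul, mem_center_iff.mp hz]
    rw [hγ, MulAut.mul_apply, MulAut.conj_apply, mem_center_iff.mp h3, mul_inv_cancel_right]
  have hlift : ∀ {a b : K}, π a = π b → ∃ c ∈ center K, a = b * c := by
    intro a b hab
    refine ⟨b⁻¹ * a, hker ?_, by group⟩
    rw [MonoidHom.mem_ker, map_mul, map_inv, hab, inv_mul_cancel]
  have hζ : α ⁅h', r'⁆ = ⁅h', r'⁆⁻¹ := by
    rw [← hγc _ hζc, map_commutatorElement]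
    have e1 := hγπ h'
    have e2 := hγπ r'
    rw [hh', tau_hh ht2] at e1
    obtain ⟨k, hk⟩ := tau_rr ht2
    rw [hr', hk] at e2
    rcases hg : τ.2.1 with _ | _
    · rw [hg] at hτ e2
      have hτ1 : τ.1 = true := hτ
      rw [hτ1, if_pos rfl] at e1
      rw [if_neg (by simp)] at e2
      obtain ⟨c1, hc1, e3⟩ := hlift (a := γ h') (b := h'⁻¹) (by rw [e1, map_inv, hh'])
      obtain ⟨c2, hc2, e4⟩ := hlift (a := γ r') (b := r' * h' ^ k) (by rw [e2, map_mul, map_pow, hh', hr'])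
      rw [e3, e4, comm_mul_left hc1, comm_mul_right hc2,
        comm_mul_of_comm ((Commute.refl h').inv_left.pow_right k), comm_inv_left hζc]
    · rw [hg] at hτ e2
      have hτ1 : τ.1 = false := hτ
      rw [hτ1, if_neg (by simp)] at e1
      rw [if_pos rfl] at e2
      obtain ⟨c1, hc1, e3⟩ := hlift (a := γ h') (b := h') (by rw [e1, hh'])
      obtain ⟨c2, hc2, e4⟩ := hlift (a := γ r') (b := r'⁻¹ * h' ^ k)
        (by rw [e2, map_mul, map_inv, map_pow, hh', hr'])
      rw [e3, e4, comm_mul_left hc1, comm_mul_right hc2,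
        comm_mul_of_comm ((Commute.refl h').pow_right k), comm_inv_right hζc]
  intro o ho ho3
  have h3 := mem_zpowers_of_three hperf hπ hker hh' hr' (hker' ho) ho3
  obtain ⟨n, rfl⟩ := mem_zpowers_iff.mp h3
  rw [map_zpow, hζ, inv_zpow]

end Cfsg.Agent.UGT.Cov.ThreeInv
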